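import Mathlib
import Cfsg.Agent.H105.EvenAut
set_option linter.all false

/-!
# Abelian Sylow subgroups of alternating groups
-/

set_option autoImplicit false

namespace Cfsg.Agent.H105

open Equiv Equiv.Perm

theorem mem_conj_sylow {G : Type*} [Group G] [Finite G] {p : ℕ} [Fact p.Prime] (P : Sylow p G)
    (Q : Subgroup G) (hQ : IsPGroup p Q) : ∃ g : G, ∀ x ∈ Q, g * x * g⁻¹ ∈ P := by
  obtain ⟨S, hS⟩ := hQ.exists_le_sylow
  obtain ⟨g, hg⟩ := MulAction.exists_smul_eq G S P
  refine ⟨g, fun x hx => ?_⟩
  rw [← hg]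
  exact Subgroup.smul_mem_pointwise_smul x (MulAut.conj g) _ (hS hx)

theorem isPGroup_zpowers {G : Type*} [Group G] {p : ℕ} [Fact p.Prime] {g : G} {k : ℕ}
    (h : g ^ (p ^ k) = 1) : IsPGroup p (Subgroup.zpowers g) := by
  rintro ⟨x, m, rfl⟩
  refine ⟨k, ?_⟩
  apply Subtype.ext
  simp only [Subgroup.coe_pow, Subgroup.coe_one]
  rw [← zpow_natCast, ← zpow_mul, mul_comm, zpow_mul, zpow_natCast, h, one_zpow]

/-- `A_n` (`n ≥ 6`) has no abelian Sylow `2`-subgroup. -/
theorem alt_sylow_two_not_comm (n : ℕ) (hn : 6 ≤ n) (P : Sylow 2 (alternatingGroup (Fin n)))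
    (hP : IsMulCommutative (P : Subgroup (alternatingGroup (Fin n)))) : False := by
  let e : Fin 6 ≃ {i : Fin n // (i : ℕ) < 6} :=
    { toFun := fun i => ⟨⟨i, by omega⟩, i.2⟩
      invFun := fun i => ⟨i.1, i.2⟩
      left_inv := fun i => rfl
      right_inv := fun i => rfl }
  let φ := Equiv.Perm.extendDomainHom e
  let u : Perm (Fin 6) := swap 0 1 * swap 1 2 * swap 2 3 * swap 4 5
  let v : Perm (Fin 6) := swap 0 2 * swap 4 5
  have huv : v * u * v⁻¹ = u⁻¹ := by decide +kernel
  have hu4 : u ^ 4 = 1 := by decide +kernel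
  have hv2 : v ^ 2 = 1 := by decide +kernel
  have hu2 : u ≠ u⁻¹ := by decide +kernel
  have hsu : sign u = 1 := by decide +kernel
  have hsv : sign v = 1 := by decide +kernel
  have hφu : φ u ∈ alternatingGroup (Fin n) := by
    rw [mem_alternatingGroup]
    show sign (u.extendDomain e) = 1
    rw [sign_extendDomain, hsu]
  have hφv : φ v ∈ alternatingGroup (Fin n) := by
    rw [mem_alternatingGroup]
    show sign (v.extendDomain e) = 1
    rw [sign_extendDomain, hsv]
  let U : alternatingGroup (Fin n) := ⟨φ u, hφu⟩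
  let V : alternatingGroup (Fin n) := ⟨φ v, hφv⟩
  have hUV : V * U * V⁻¹ = U⁻¹ := by
    apply Subtype.ext
    simp only [U, V, Subgroup.coe_mul, Subgroup.coe_inv, ← map_inv, ← map_mul, huv]
  have hU4 : U ^ 4 = 1 := by
    apply Subtype.ext
    simp only [U, Subgroup.coe_pow, ← map_pow, hu4, map_one, Subgroup.coe_one]
  have hV2 : V ^ 2 = 1 := by
    apply Subtype.ext
    simp only [V, Subgroup.coe_pow, ← map_pow, hv2, map_one, Subgroup.coe_one]
  have hU2 : U ≠ U⁻¹ := by
    intro h
    apply hu2
    have := congrArg Subtype.val h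
    simp only [U, Subgroup.coe_inv, ← map_inv] at this
    exact Equiv.Perm.extendDomainHom_injective e this
  have h1 : IsPGroup 2 (Subgroup.zpowers U) := isPGroup_zpowers (k := 2) (by simpa using hU4)
  have h2 : IsPGroup 2 (Subgroup.zpowers V) := isPGroup_zpowers (k := 1) (by simpa using hV2)
  have h3 : IsPGroup 2 (Subgroup.zpowers V ⊔ Subgroup.zpowers U : Subgroup _) := by
    refine h2.to_sup_of_normal_right' h1 ?_
    rw [Subgroup.zpowers_le]
    have hVinv : V⁻¹ = V := by
      rw [inv_eq_iff_mul_eq_one, ← pow_two, hV2]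
    rw [Subgroup.mem_normalizer_iff]
    have key : ∀ h, h ∈ Subgroup.zpowers U → V * h * V⁻¹ ∈ Subgroup.zpowers U := by
      rintro h ⟨k, rfl⟩
      refine ⟨-k, ?_⟩
      simp only [zpow_neg]
      rw [← conj_zpow, hUV, inv_zpow]
    intro h
    refine ⟨key h, fun hh => ?_⟩
    have := key _ hh
    rw [hVinv] at this
    have h5 : V * (V * h * V) * V = h := by
      calc V * (V * h * V) * V = V ^ 2 * h * V ^ 2 := by rw [pow_two]; group
        _ = h := by rw [hV2]; simp
    rwa [h5] at this
  obtain ⟨g, hg⟩ := mem_conj_sylow P _ h3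
  have hgU := hg U (Subgroup.mem_sup_right (Subgroup.mem_zpowers U))
  have hgV := hg V (Subgroup.mem_sup_left (Subgroup.mem_zpowers V))
  have hc := congrArg Subtype.val (hP.is_comm.comm
    (⟨_, hgU⟩ : (P : Subgroup (alternatingGroup (Fin n)))) ⟨_, hgV⟩)
  simp only [Subgroup.coe_mul] at hc
  apply hU2
  have hUV' : U * V = V * U := by
    have h6 : g * (U * V) * g⁻¹ = g * (V * U) * g⁻¹ := by
      calc g * (U * V) * g⁻¹ = g * U * g⁻¹ * (g * V * g⁻¹) := by group
        _ = g * V * g⁻¹ * (g * U * g⁻¹) := hc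
        _ = g * (V * U) * g⁻¹ := by group
    exact mul_left_cancel (mul_right_cancel h6)
  rw [← hUV, ← hUV', mul_inv_cancel_right]

/-- For `p` odd and `p ≤ n ≤ p + 1`, or `n < p`, Sylow `p`-subgroups of `A_n` are cyclic. -/
theorem alt_sylow_cyclic (n p : ℕ) [Fact p.Prime] (hn : n < 2 * p)
    (P : Sylow p (alternatingGroup (Fin n))) :
    IsCyclic (P : Subgroup (alternatingGroup (Fin n))) := by
  have hp : p.Prime := Fact.out
  obtain ⟨k, hk⟩ := (IsPGroup.iff_card).mp P.isPGroup'
  have hdvd : p ^ k ∣ n.factorial := by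
    rw [← hk]
    refine (Subgroup.card_subgroup_dvd_card (P : Subgroup (alternatingGroup (Fin n)))).trans ?_
    refine (Subgroup.card_subgroup_dvd_card (alternatingGroup (Fin n))).trans ?_
    rw [Nat.card_perm, Nat.card_eq_fintype_card, Fintype.card_fin]
  have hk1 : k ≤ 1 := by
    by_contra hk2
    have h2 : p ^ 2 ∣ n.factorial := (pow_dvd_pow p (by omega)).trans hdvd
    rcases Nat.eq_zero_or_pos n with h0 | h0
    · subst h0
      simp at h2
      have := hp.one_lt
      omega
    have hlog : Nat.log p n < 2 := by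
      apply Nat.log_lt_of_lt_pow (by omega)
      have := hp.two_le
      nlinarith
    rw [hp.pow_dvd_factorial_iff hlog] at h2
    simp at h2
    have : n / p < 2 := by
      rw [Nat.div_lt_iff_lt_mul hp.pos]; omega
    omega
  have : Nat.card (P : Subgroup (alternatingGroup (Fin n))) = 1 ∨
      Nat.card (P : Subgroup (alternatingGroup (Fin n))) = p := by
    rcases Nat.le_one_iff_eq_zero_or_eq_one.mp hk1 with h | h
    · left
      have := hk
      rw [h, pow_zero] at this
      exact this
    · right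
      have := hk
      rw [h, pow_one] at this
      exact this
  rcases this with h | h
  · have : Subsingleton (P : Subgroup (alternatingGroup (Fin n))) :=
      (Nat.card_eq_one_iff_unique.mp h).1
    infer_instance
  · exact isCyclic_of_prime_card h

/-- For `p ≤ n - 2` odd, an abelian Sylow `p`-subgroup of `A_n` has automizer of even order. -/
theorem alt_sylow_even (n p : ℕ) [Fact p.Prime] (hp : p ≠ 2) (hn : p + 2 ≤ n)
    (P : Sylow p (alternatingGroup (Fin n)))
    (hP : IsMulCommutative (P : Subgroup (alternatingGroup (Fin n)))) :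
    2 ∣ ((Subgroup.centralizer ((P : Subgroup (alternatingGroup (Fin n))) :
      Set (alternatingGroup (Fin n)))).subgroupOf
        (Subgroup.normalizer ((P : Subgroup (alternatingGroup (Fin n))) :
          Set (alternatingGroup (Fin n))))).index := by
  have hpp : p.Prime := Fact.out
  obtain ⟨y, hy⟩ := (Equiv.Perm.exists_with_cycleType_iff (Fin n) (m := {p})).mpr (by
    refine ⟨by simp; omega, by simpa using hpp.two_le⟩)
  have hord : orderOf y = p := by
    rw [← lcm_cycleType, hy]; simp
  have hsign : sign y = 1 := by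
    rw [sign_of_cycleType, hy]
    have hodd : Odd p := hpp.odd_of_ne_two hp
    simp only [Multiset.sum_singleton, Multiset.card_singleton]
    exact (hodd.add_odd odd_one).neg_one_pow
  let Y : alternatingGroup (Fin n) := ⟨y, mem_alternatingGroup.mpr hsign⟩
  have hcard : (Y : Perm (Fin n)).support.card + 2 ≤ Fintype.card (Fin n) := by
    rw [Fintype.card_fin, ← sum_cycleType]
    show y.cycleType.sum + 2 ≤ n
    rw [hy, Multiset.sum_singleton]
    exact hn
  have hYc : IsConj Y Y⁻¹ := alternatingGroup.isConj_of (by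
    rw [Subgroup.coe_inv]
    exact Equiv.Perm.isConj_iff_cycleType_eq.mpr (Equiv.Perm.cycleType_inv _).symm) hcard
  have hYp : Y ^ p = 1 := by
    apply Subtype.ext
    rw [Subgroup.coe_pow, Subgroup.coe_one]
    show y ^ p = 1
    rw [← hord, pow_orderOf_eq_one]
  have hYne : Y ≠ Y⁻¹ := by
    intro h
    have h2 : Y ^ 2 = 1 := by rw [pow_two]; nth_rewrite 1 [h]; simp
    have h3 : y ^ 2 = 1 := by
      have := congrArg Subtype.val h2
      rwa [Subgroup.coe_pow, Subgroup.coe_one] at this
    have h4 : orderOf y ∣ 2 := orderOf_dvd_of_pow_eq_one h3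
    rw [hord] at h4
    exact hp ((Nat.prime_dvd_prime_iff_eq Fact.out Nat.prime_two).mp h4)
  obtain ⟨g, hg⟩ := mem_conj_sylow P _ (isPGroup_zpowers (p := p) (k := 1) (g := Y)
    (by simpa using hYp))
  have hgY := hg Y (Subgroup.mem_zpowers Y)
  refine two_dvd_index_of_inv P hP hgY ?_ ?_
  · intro h
    apply hYne
    have h5 : g * Y * g⁻¹ = g * Y⁻¹ * g⁻¹ := by rw [h]; group
    exact mul_left_cancel (mul_right_cancel h5)
  · obtain ⟨c, hc⟩ := isConj_iff.mp hYc
    refine isConj_iff.mpr ⟨g * c * g⁻¹, ?_⟩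
    calc g * c * g⁻¹ * (g * Y * g⁻¹) * (g * c * g⁻¹)⁻¹ = g * (c * Y * c⁻¹) * g⁻¹ := by group
      _ = g * Y⁻¹ * g⁻¹ := by rw [hc]
      _ = (g * Y * g⁻¹)⁻¹ := by group

/-- Sylow `2`-subgroups of `A_5`. -/
theorem alt_five_card (P : Sylow 2 (alternatingGroup (Fin 5))) :
    Nat.card (P : Subgroup (alternatingGroup (Fin 5))) = 4 := by
  have h60 : Nat.card (alternatingGroup (Fin 5)) = 60 := by
    rw [nat_card_alternatingGroup, Nat.card_eq_fintype_card, Fintype.card_fin]; rfl
  have h := P.card_eq_multiplicity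
  rw [h60] at h
  have : Nat.factorization 60 2 = 2 := by
    rw [show (60 : ℕ) = 2 ^ 2 * 15 by norm_num, Nat.factorization_mul (by norm_num) (by norm_num),
      Nat.Prime.factorization_pow Nat.prime_two]
    simp [Nat.factorization_eq_zero_of_not_dvd (show ¬ 2 ∣ 15 by norm_num)]
  rw [this] at h
  exact h

theorem alt_five_sq : ∀ x : Perm (Fin 5), sign x = 1 → x ^ 4 = 1 → x ^ 2 = 1 := by
  decide +kernel

theorem alt_five_klein (P : Sylow 2 (alternatingGroup (Fin 5))) :
    IsKleinFour (P : Subgroup (alternatingGroup (Fin 5))) := by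
  refine ⟨alt_five_card P, ?_⟩
  have hsq : ∀ x : (P : Subgroup (alternatingGroup (Fin 5))), x ^ 2 = 1 := by
    intro x
    have h4 : x ^ 4 = 1 := by
      rw [← alt_five_card P]; exact pow_card_eq_one'
    apply Subtype.ext
    apply Subtype.ext
    exact alt_five_sq x.1.1 (mem_alternatingGroup.mp x.1.2)
      (congrArg (fun z => ((z.1 : alternatingGroup (Fin 5)) : Perm (Fin 5))) h4)
  have hd : Monoid.exponent (P : Subgroup (alternatingGroup (Fin 5))) ∣ 2 :=
    Monoid.exponent_dvd_of_forall_pow_eq_one hsq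
  rcases (Nat.dvd_prime Nat.prime_two).mp hd with h | h
  · exfalso
    rw [Monoid.exp_eq_one_iff] at h
    have := alt_five_card P
    rw [Nat.card_eq_one_iff_unique.mpr ⟨h, ⟨1⟩⟩] at this
    omega
  · exact h

theorem alt_five_conj : ∀ x y : alternatingGroup (Fin 5), x ^ 2 = 1 → y ^ 2 = 1 → x ≠ 1 → y ≠ 1 →
    ∃ c : alternatingGroup (Fin 5), c⁻¹ * x * c = y := by
  decide +kernel

theorem alt_five_index (P : Sylow 2 (alternatingGroup (Fin 5))) :
    ((Subgroup.centralizer ((P : Subgroup (alternatingGroup (Fin 5))) :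
      Set (alternatingGroup (Fin 5)))).subgroupOf
        (Subgroup.normalizer ((P : Subgroup (alternatingGroup (Fin 5))) :
          Set (alternatingGroup (Fin 5))))).index = 3 := by
  have h60 : Nat.card (alternatingGroup (Fin 5)) = 60 := by
    rw [nat_card_alternatingGroup, Nat.card_eq_fintype_card, Fintype.card_fin]; rfl
  have h4 := alt_five_card P
  have hK := alt_five_klein P
  have hsq : ∀ x : (P : Subgroup (alternatingGroup (Fin 5))), x ^ 2 = 1 := by
    intro x
    have := Monoid.pow_exponent_eq_one x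
    rwa [hK.exponent_two] at this
  have hcomm : ∀ x y : (P : Subgroup (alternatingGroup (Fin 5))), x * y = y * x :=
    fun x y => mul_comm_of_exponent_two hK.exponent_two x y
  set N := Subgroup.normalizer ((P : Subgroup (alternatingGroup (Fin 5))) :
          Set (alternatingGroup (Fin 5))) with hN
  set C := (Subgroup.centralizer ((P : Subgroup (alternatingGroup (Fin 5))) :
      Set (alternatingGroup (Fin 5)))).subgroupOf N with hC
  have hPN : (P : Subgroup (alternatingGroup (Fin 5))) ≤ N := Subgroup.le_normalizer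
  have hPC : (P : Subgroup (alternatingGroup (Fin 5))).subgroupOf N ≤ C := by
    intro x hx
    rw [Subgroup.mem_subgroupOf] at hx ⊢
    rw [Subgroup.mem_centralizer_iff]
    intro h hh
    exact congrArg Subtype.val (hcomm ⟨h, hh⟩ ⟨_, hx⟩)
  have hidxN : Nat.card N = 4 * ((P : Subgroup (alternatingGroup (Fin 5))).subgroupOf N).index := by
    rw [← Subgroup.card_mul_index ((P : Subgroup (alternatingGroup (Fin 5))).subgroupOf N)]
    congr 1
    rw [← h4]
    exact Nat.card_congr (Subgroup.subgroupOfEquivOfLe hPN).toEquiv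
  have hN60 : Nat.card N ∣ 60 := by rw [← h60]; exact Subgroup.card_subgroup_dvd_card N
  have h15 : C.index ∣ 15 := by
    have h1 : C.index ∣ ((P : Subgroup (alternatingGroup (Fin 5))).subgroupOf N).index :=
      Subgroup.index_dvd_of_le hPC
    refine h1.trans ?_
    rw [hidxN] at hN60
    exact (Nat.mul_dvd_mul_iff_left (by norm_num : 0 < 4)).mp (by simpa using hN60)
  -- an involution of `P`
  obtain ⟨x0, hx0⟩ : ∃ x : (P : Subgroup (alternatingGroup (Fin 5))), x ≠ 1 := by
    by_contra hcon
    push Not at hcon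
    have : Nat.card (P : Subgroup (alternatingGroup (Fin 5))) = 1 :=
      Nat.card_eq_one_iff_unique.mpr ⟨⟨fun a b => (hcon a).trans (hcon b).symm⟩, ⟨1⟩⟩
    omega
  letI act : MulAction N (P : Subgroup (alternatingGroup (Fin 5))) :=
    MulAction.compHom _ (Subgroup.normalizerMonoidHom (P : Subgroup (alternatingGroup (Fin 5))))
  have hact : ∀ (n : N) (x : (P : Subgroup (alternatingGroup (Fin 5)))),
      ((n • x : (P : Subgroup (alternatingGroup (Fin 5)))) : alternatingGroup (Fin 5)) =
        (n : alternatingGroup (Fin 5)) * x * (n : alternatingGroup (Fin 5))⁻¹ := fun n x => rfl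
  have horb : MulAction.orbit N x0 = {x | x ≠ 1} := by
    ext y
    constructor
    · rintro ⟨n, rfl⟩
      intro h
      apply hx0
      have h1 := congrArg Subtype.val h
      simp only [hact] at h1
      apply Subtype.ext
      have : (n : alternatingGroup (Fin 5)) * x0 * (n : alternatingGroup (Fin 5))⁻¹ = 1 := h1
      calc (x0 : alternatingGroup (Fin 5)) = (n : alternatingGroup (Fin 5))⁻¹ *
            (n * x0 * (n : alternatingGroup (Fin 5))⁻¹) * n := by group
        _ = 1 := by rw [this]; group
    · intro hy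
      have hy1 : y ≠ 1 := hy
      obtain ⟨c, hc⟩ := alt_five_conj x0 y (congrArg Subtype.val (hsq x0))
        (congrArg Subtype.val (hsq y)) (fun h => hx0 (Subtype.ext h)) (fun h => hy1 (Subtype.ext h))
      have hmem : ∀ z : (P : Subgroup (alternatingGroup (Fin 5))),
          (z : alternatingGroup (Fin 5)) ∈ Subgroup.centralizer
            ((P : Subgroup (alternatingGroup (Fin 5))) : Set (alternatingGroup (Fin 5))) := by
        intro z
        rw [Subgroup.mem_centralizer_iff]
        intro h hh
        exact congrArg Subtype.val (hcomm ⟨h, hh⟩ z)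
      obtain ⟨n, hn, hn2⟩ := P.conj_eq_normalizer_conj_of_mem_centralizer (x0 : alternatingGroup (Fin 5)) c
        (hmem x0) (by rw [hc]; exact hmem y)
      refine ⟨⟨n⁻¹, inv_mem hn⟩, ?_⟩
      apply Subtype.ext
      show n⁻¹ * (x0 : alternatingGroup (Fin 5)) * (n⁻¹)⁻¹ = y
      rw [inv_inv, ← hn2, hc]
  have h3 : (MulAction.stabilizer N x0).index = 3 := by
    rw [MulAction.index_stabilizer, horb]
    have : Nat.card (P : Subgroup (alternatingGroup (Fin 5))) = 4 := h4
    have hfin : Finite (P : Subgroup (alternatingGroup (Fin 5))) := inferInstance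
    rw [show {x : (P : Subgroup (alternatingGroup (Fin 5))) | x ≠ 1} = {1}ᶜ by ext; simp,
      Set.ncard_compl, Set.ncard_singleton, this]
  have hle : C ≤ MulAction.stabilizer N x0 := by
    intro c hc
    rw [MulAction.mem_stabilizer_iff]
    apply Subtype.ext
    rw [hact]
    have h5 := Subgroup.mem_subgroupOf.mp hc
    rw [Subgroup.mem_centralizer_iff] at h5
    rw [← h5 x0 x0.2, mul_inv_cancel_right]
  have h3d : 3 ∣ C.index := h3 ▸ Subgroup.index_dvd_of_le hle
  have hne : C.index ≠ 15 := by
    intro h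
    have h1 : 15 ∣ ((P : Subgroup (alternatingGroup (Fin 5))).subgroupOf N).index :=
      h ▸ Subgroup.index_dvd_of_le hPC
    have h2 : 60 ∣ Nat.card N := by
      rw [hidxN]
      obtain ⟨k, hk⟩ := h1
      rw [hk]; exact ⟨k, by ring⟩
    have h6 : N = ⊤ := by
      apply Subgroup.eq_top_of_card_eq
      rw [h60]
      exact Nat.dvd_antisymm hN60 h2
    have hnorm : (P : Subgroup (alternatingGroup (Fin 5))).Normal :=
      Subgroup.normalizer_eq_top_iff.mp h6
    rcases hnorm.eq_bot_or_eq_top with h7 | h7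
    · rw [h7] at h4
      simp at h4
    · rw [h7] at h4
      rw [Subgroup.card_top, h60] at h4
      omega
  have hmem : C.index ∈ Nat.divisors 15 := Nat.mem_divisors.mpr ⟨h15, by norm_num⟩
  have : Nat.divisors 15 = {1, 3, 5, 15} := by decide
  rw [this] at hmem
  simp only [Finset.mem_insert, Finset.mem_singleton] at hmem
  omega

end Cfsg.Agent.H105
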