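import Mathlib
set_option linter.all false

/-!
# Linear algebra for products of classes in `PSL_d`, `d ≥ 3`
-/

set_option autoImplicit false

namespace Cfsg.Agent.H105

open Module LinearMap

variable {K V : Type*} [Field K] [AddCommGroup V] [Module K V] [FiniteDimensional K V]

theorem finrank_sing_le (x : V) : finrank K (Submodule.span K {x}) ≤ 1 :=
  (finrank_span_le_card (R := K) {x}).trans (by simp)

theorem exists_notMem_two (A B : Submodule K V) (hA : A ≠ ⊤) (hB : B ≠ ⊤) :
    ∃ x, x ∉ A ∧ x ∉ B := by
  obtain ⟨u, hu⟩ : ∃ u, u ∉ A := by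
    by_contra h; push Not at h; exact hA ((Submodule.eq_top_iff').mpr h)
  obtain ⟨w, hw⟩ : ∃ u, u ∉ B := by
    by_contra h; push Not at h; exact hB ((Submodule.eq_top_iff').mpr h)
  by_cases h1 : u ∈ B
  · by_cases h2 : w ∈ A
    · refine ⟨u + w, fun h => hu ?_, fun h => hw ?_⟩
      · simpa using A.sub_mem h h2
      · simpa using B.sub_mem h h1
    · exact ⟨w, h2, hw⟩
  · exact ⟨u, hu, h1⟩

theorem indep_of_quot {x y z : V} (hx : x ≠ 0)
    (h : LinearIndependent K ![(Submodule.span K {x}).mkQ y, (Submodule.span K {x}).mkQ z]) :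
    LinearIndependent K ![x, y, z] := by
  rw [LinearIndependent.pair_iff] at h
  rw [Fintype.linearIndependent_iff]
  intro g hg
  simp only [Fin.sum_univ_three, Matrix.cons_val_zero, Matrix.cons_val_one,
    Matrix.cons_val_two, Matrix.tail_cons, Matrix.head_cons] at hg
  have h1 := congrArg (Submodule.span K {x}).mkQ hg
  have hxm : (Submodule.span K {x}).mkQ x = 0 := by
    rw [Submodule.mkQ_apply, Submodule.Quotient.mk_eq_zero]
    exact Submodule.mem_span_singleton_self x
  rw [map_add, map_add, map_smul, map_smul, map_smul, hxm, smul_zero, zero_add, map_zero] at h1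
  obtain ⟨h2, h3⟩ := h _ _ h1
  rw [h2, h3, zero_smul, zero_smul, add_zero, add_zero] at hg
  have h4 := (smul_eq_zero.mp hg).resolve_right hx
  intro i
  fin_cases i
  · exact h4
  · exact h2
  · exact h3

/-- If `B x = β x` and no `x2` gives an independent family `x, x2, B x2`, then `B` is a scalar
modulo `x`. -/
theorem scalar_mod {B : V →ₗ[K] V} {x : V} (hx : x ≠ 0) {β : K} (hB : B x = β • x)
    (h : ∀ y, ¬ LinearIndependent K ![x, y, B y]) :
    ∃ γ : K, ∀ v, B v - γ • v ∈ Submodule.span K {x} := by
  have hinv : Submodule.span K {x} ≤ (Submodule.span K {x}).comap B := by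
    rw [Submodule.span_singleton_le_iff_mem, Submodule.mem_comap, hB]
    exact Submodule.smul_mem _ _ (Submodule.mem_span_singleton_self x)
  let Bq : (V ⧸ Submodule.span K {x}) →ₗ[K] (V ⧸ Submodule.span K {x}) :=
    (Submodule.span K {x}).mapQ (Submodule.span K {x}) B hinv
  obtain ⟨γ, hγ⟩ := LinearMap.exists_eq_smul_id_of_forall_notLinearIndependent (f := Bq) (by
    intro v hv
    obtain ⟨y, rfl⟩ := Submodule.mkQ_surjective _ v
    exact h y (indep_of_quot hx hv))
  refine ⟨γ, fun v => ?_⟩
  have h1 := LinearMap.congr_fun hγ ((Submodule.span K {x}).mkQ v)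
  have h2 : Bq ((Submodule.span K {x}).mkQ v) = (Submodule.span K {x}).mkQ (B v) := rfl
  rw [h2] at h1
  have h3 : (Submodule.span K {x}).mkQ (B v - γ • v) = 0 := by
    rw [map_sub, h1, map_smul]
    simp
  rwa [Submodule.mkQ_apply, Submodule.Quotient.mk_eq_zero] at h3

/-- a rank-one perturbation of a scalar has an eigenvector outside a given line -/
theorem exists_ker_notMem {B : V →ₗ[K] V} (hd : 3 ≤ finrank K V) {x : V} {γ : K}
    (h : ∀ v, B v - γ • v ∈ Submodule.span K {x}) :
    ∃ y, B y = γ • y ∧ y ∉ Submodule.span K {x} := by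
  let D : V →ₗ[K] V := B - γ • LinearMap.id
  have hr : finrank K (LinearMap.range D) ≤ 1 := by
    have h1 : LinearMap.range D ≤ Submodule.span K {x} := by
      rintro _ ⟨v, rfl⟩
      exact h v
    exact (Submodule.finrank_mono h1).trans (finrank_sing_le x)
  have hk := LinearMap.finrank_range_add_finrank_ker D
  by_contra hcon
  push Not at hcon
  have h2 : LinearMap.ker D ≤ Submodule.span K {x} := by
    intro y hy
    apply hcon y
    have : D y = 0 := hy
    simpa [D, sub_eq_zero] using this
  have h3 := (Submodule.finrank_mono h2).trans (finrank_sing_le x)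
  omega

theorem indep_pair_of_notMem {x y : V} (hx : x ≠ 0) (hy : y ∉ Submodule.span K {x}) :
    LinearIndependent K ![x, y] := by
  rw [LinearIndependent.pair_iff' hx]
  intro a ha
  exact hy (Submodule.mem_span_singleton.mpr ⟨a, ha⟩)

/-- **Lemma D.** -/
theorem exists_eigen_edge {B : V →ₗ[K] V} (hd : 3 ≤ finrank K V) {x : V} (hx : x ≠ 0) {β : K}
    (hB : B x = β • x) (hns : ∃ v, LinearIndependent K ![v, B v]) :
    ∃ (y z : V) (γ : K), B y = γ • y ∧ LinearIndependent K ![y, z, B z] := by
  by_cases h : ∃ y, LinearIndependent K ![x, y, B y]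
  · obtain ⟨y, hy⟩ := h
    exact ⟨x, y, β, hB, hy⟩
  · push Not at h
    obtain ⟨γ, hγ⟩ := scalar_mod hx hB h
    obtain ⟨y, hy1, hy2⟩ := exists_ker_notMem hd hγ
    let D : V →ₗ[K] V := B - γ • LinearMap.id
    have hker : LinearMap.ker D ≠ ⊤ := by
      intro hk
      obtain ⟨v, hv⟩ := hns
      have h1 : D v = 0 := by
        have : v ∈ LinearMap.ker D := by rw [hk]; trivial
        exact this
      have h2 : B v = γ • v := by simpa [D, sub_eq_zero] using h1
      rw [LinearIndependent.pair_iff] at hv
      have := (hv γ (-1) (by rw [h2]; module)).2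
      norm_num at this
    have hsp : Submodule.span K (Set.range ![x, y]) ≠ ⊤ := by
      intro hk
      have h1 := finrank_range_le_card (R := K) (![x, y])
      unfold Set.finrank at h1
      rw [hk, finrank_top] at h1
      simp at h1
      omega
    obtain ⟨z, hz1, hz2⟩ := exists_notMem_two _ _ hker hsp
    refine ⟨y, z, γ, hy1, ?_⟩
    obtain ⟨c, hc⟩ := Submodule.mem_span_singleton.mp (hγ z)
    have hc0 : c ≠ 0 := by
      rintro rfl
      apply hz1
      rw [zero_smul] at hc
      show D z = 0
      simp only [D, LinearMap.sub_apply, LinearMap.smul_apply, LinearMap.id_apply]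
      exact hc.symm
    have hBz : B z = γ • z + c • x := by rw [hc]; abel
    have hxy : LinearIndependent K ![x, y] := indep_pair_of_notMem hx hy2
    have hxyz : LinearIndependent K ![z, x, y] := hxy.finCons hz2
    rw [Fintype.linearIndependent_iff] at hxyz ⊢
    intro g hg
    simp only [Fin.sum_univ_three, Matrix.cons_val_zero, Matrix.cons_val_one,
      Matrix.cons_val_two, Matrix.tail_cons, Matrix.head_cons] at hg
    have h5 := hxyz ![g 1 + g 2 * γ, g 2 * c, g 0] (by
      simp only [Fin.sum_univ_three, Matrix.cons_val_zero, Matrix.cons_val_one,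
        Matrix.cons_val_two, Matrix.tail_cons, Matrix.head_cons]
      rw [← hg, hBz]
      module)
    have h50 := h5 0
    have h51 := h5 1
    have h52 := h5 2
    simp only [Matrix.cons_val_zero, Matrix.cons_val_one, Matrix.cons_val_two, Matrix.tail_cons,
      Matrix.head_cons] at h50 h51 h52
    have hg2 : g 2 = 0 := (mul_eq_zero.mp h51).resolve_right hc0
    rw [hg2, zero_mul, add_zero] at h50
    intro i
    fin_cases i
    · exact h52
    · exact h50
    · exact hg2

/-- **Lemma E1.** -/
theorem exists_cyclic {C : V →ₗ[K] V} (hd : 3 ≤ finrank K V) {z : V} (hz : z ≠ 0) {ζ : K}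
    (hC : C z = ζ • z)
    (huniq : ∀ (v : V) (γ : K), v ≠ 0 → C v = γ • v → v ∈ Submodule.span K {z}) :
    ∃ y, LinearIndependent K ![y, C y, C (C y)] := by
  by_contra hcon
  push Not at hcon
  -- two independent vectors
  have hpair : ∀ y, y ∉ Submodule.span K {z} → LinearIndependent K ![y, C y] := by
    intro y hy
    have hy0 : y ≠ 0 := by rintro rfl; exact hy (Submodule.zero_mem _)
    rw [LinearIndependent.pair_iff' hy0]
    intro a ha
    exact hy (huniq y a hy0 ha.symm)
  have hquad : ∀ y, y ∉ Submodule.span K {z} → ∃ a b : K, C (C y) = a • y + b • C y := by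
    intro y hy
    by_contra hcon2
    push Not at hcon2
    apply hcon y
    have h1 := hpair y hy
    rw [LinearIndependent.pair_iff] at h1
    rw [Fintype.linearIndependent_iff]
    intro g hg
    simp only [Fin.sum_univ_three, Matrix.cons_val_zero, Matrix.cons_val_one,
      Matrix.cons_val_two, Matrix.tail_cons, Matrix.head_cons] at hg
    have hg2 : g 2 = 0 := by
      by_contra hne
      apply hcon2 (-(g 0) / g 2) (-(g 1) / g 2)
      have h2 : g 2 • C (C y) = -(g 0) • y + -(g 1) • C y := by
        rw [eq_comm, ← sub_eq_zero, ← neg_eq_zero, ← hg]; module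
      calc C (C y) = (g 2)⁻¹ • (g 2 • C (C y)) := by rw [smul_smul, inv_mul_cancel₀ hne, one_smul]
        _ = _ := by rw [h2, smul_add, smul_smul, smul_smul]; ring_nf
    rw [hg2, zero_smul, add_zero] at hg
    obtain ⟨h3, h4⟩ := h1 _ _ hg
    intro i
    fin_cases i
    · exact h3
    · exact h4
    · exact hg2
  have hzmem : ∀ y, y ∉ Submodule.span K {z} → z ∈ Submodule.span K (Set.range ![y, C y]) := by
    intro y hy
    by_contra hzn
    obtain ⟨a, b, hab⟩ := hquad y hy
    have hy' : y + z ∉ Submodule.span K {z} := by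
      intro h
      apply hy
      have := Submodule.sub_mem _ h (Submodule.mem_span_singleton_self z)
      simpa using this
    obtain ⟨a', b', hab'⟩ := hquad (y + z) hy'
    have hli : LinearIndependent K ![z, y, C y] := (hpair y hy).finCons hzn
    rw [Fintype.linearIndependent_iff] at hli
    have h5 := hli ![ζ * ζ - a' - b' * ζ, a - a', b - b'] (by
      simp only [Fin.sum_univ_three, Matrix.cons_val_zero, Matrix.cons_val_one,
        Matrix.cons_val_two, Matrix.tail_cons, Matrix.head_cons]
      have h6 : C (C (y + z)) = a • y + b • C y + (ζ * ζ) • z := by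
        rw [map_add, map_add, hab, hC, map_smul, hC, smul_smul]
      rw [h6, map_add, hC] at hab'
      have h7 : a • y + b • C y + (ζ * ζ) • z - (a' • (y + z) + b' • (C y + ζ • z)) = 0 := by
        rw [hab', sub_self]
      rw [← h7]
      module)
    have h50 := h5 0
    have h51 := h5 1
    have h52 := h5 2
    simp only [Matrix.cons_val_zero, Matrix.cons_val_one, Matrix.cons_val_two, Matrix.tail_cons,
      Matrix.head_cons] at h50 h51 h52
    have ha' : a' = a := (sub_eq_zero.mp h51).symm
    have hb' : b' = b := (sub_eq_zero.mp h52).symm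
    have haζ : a = ζ * ζ - b * ζ := by rw [← ha', ← hb']; linear_combination -h50
    -- eigenvector
    have he : C (C y + (ζ - b) • y) = ζ • (C y + (ζ - b) • y) := by
      rw [map_add, map_smul, hab, haζ]; module
    have he0 : C y + (ζ - b) • y ≠ 0 := by
      intro h
      have h8 := hpair y hy
      rw [LinearIndependent.pair_iff] at h8
      have := (h8 (ζ - b) 1 (by rw [one_smul, add_comm]; exact h)).2
      exact one_ne_zero this
    obtain ⟨t, ht⟩ := Submodule.mem_span_singleton.mp (huniq _ ζ he0 he)
    have ht0 : t ≠ 0 := by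
      rintro rfl
      rw [zero_smul] at ht
      exact he0 ht.symm
    apply hzn
    have h9 : z = t⁻¹ • (C y + (ζ - b) • y) := by
      rw [← ht, smul_smul, inv_mul_cancel₀ ht0, one_smul]
    rw [h9]
    apply Submodule.smul_mem
    apply Submodule.add_mem
    · exact Submodule.subset_span ⟨1, rfl⟩
    · exact Submodule.smul_mem _ _ (Submodule.subset_span ⟨0, rfl⟩)
  have hnot : ∀ y, ¬ LinearIndependent K ![z, y, C y] := by
    intro y hli
    have hy : y ∉ Submodule.span K {z} := by
      intro h
      obtain ⟨t, ht⟩ := Submodule.mem_span_singleton.mp h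
      rw [Fintype.linearIndependent_iff] at hli
      have h5 := hli ![t, -1, 0] (by
        simp only [Fin.sum_univ_three, Matrix.cons_val_zero, Matrix.cons_val_one,
          Matrix.cons_val_two, Matrix.tail_cons, Matrix.head_cons]
        rw [ht]; module) 1
      simp at h5
    have h1 := hzmem y hy
    exact (linearIndependent_finCons.mp hli).2 h1
  obtain ⟨γ, hγ⟩ := scalar_mod hz hC hnot
  obtain ⟨y, hy1, hy2⟩ := exists_ker_notMem hd hγ
  have hy0 : y ≠ 0 := by rintro rfl; exact hy2 (Submodule.zero_mem _)
  exact hy2 (huniq y γ hy0 hy1)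

/-- **Lemma E2.** -/
theorem cyclic_or_edges {B : V →ₗ[K] V} (hd : 3 ≤ finrank K V)
    (hB : ∀ v, v ≠ 0 → LinearIndependent K ![v, B v]) :
    (∃ x, LinearIndependent K ![x, B x, B (B x)]) ∨
      ∃ x y, LinearIndependent K ![x, B x, y, B y] := by
  by_contra hcon
  push Not at hcon
  obtain ⟨hcon1, hcon2⟩ := hcon
  have : Nontrivial V := Module.nontrivial_of_finrank_pos (R := K) (by omega)
  obtain ⟨x, hx⟩ := exists_ne (0 : V)
  have hquad : ∀ y, y ≠ 0 → ∃ a b : K, B (B y) = a • y + b • B y := by
    intro y hy
    by_contra hcon3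
    push Not at hcon3
    apply hcon1 y
    have h1 := hB y hy
    rw [LinearIndependent.pair_iff] at h1
    rw [Fintype.linearIndependent_iff]
    intro g hg
    simp only [Fin.sum_univ_three, Matrix.cons_val_zero, Matrix.cons_val_one,
      Matrix.cons_val_two, Matrix.tail_cons, Matrix.head_cons] at hg
    have hg2 : g 2 = 0 := by
      by_contra hne
      apply hcon3 (-(g 0) / g 2) (-(g 1) / g 2)
      have h2 : g 2 • B (B y) = -(g 0) • y + -(g 1) • B y := by
        rw [eq_comm, ← sub_eq_zero, ← neg_eq_zero, ← hg]; module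
      calc B (B y) = (g 2)⁻¹ • (g 2 • B (B y)) := by rw [smul_smul, inv_mul_cancel₀ hne, one_smul]
        _ = _ := by rw [h2, smul_add, smul_smul, smul_smul]; ring_nf
    rw [hg2, zero_smul, add_zero] at hg
    obtain ⟨h3, h4⟩ := h1 _ _ hg
    intro i
    fin_cases i
    · exact h3
    · exact h4
    · exact hg2
  have hsp : Submodule.span K (Set.range ![x, B x]) ≠ ⊤ := by
    intro hk
    have h1 := finrank_range_le_card (R := K) (![x, B x])
    unfold Set.finrank at h1
    rw [hk, finrank_top] at h1
    simp at h1
    omega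
  obtain ⟨y, hy⟩ : ∃ y, y ∉ Submodule.span K (Set.range ![x, B x]) := by
    by_contra h; push Not at h; exact hsp ((Submodule.eq_top_iff').mpr h)
  have hy0 : y ≠ 0 := by rintro rfl; exact hy (Submodule.zero_mem _)
  have hyx : LinearIndependent K ![y, x, B x] := (hB x hx).finCons hy
  -- dependence of `x, B x, y, B y`
  have hdep : ∃ c : K, B y - c • y ∈ Submodule.span K (Set.range ![x, B x]) := by
    by_contra hcon3
    push Not at hcon3
    apply hcon2 x y
    rw [Fintype.linearIndependent_iff] at hyx ⊢
    intro g hg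
    simp only [Fin.sum_univ_four, Matrix.cons_val_zero, Matrix.cons_val_one,
      Matrix.cons_val_two, Matrix.cons_val_three, Matrix.tail_cons, Matrix.head_cons] at hg
    have hg3 : g 3 = 0 := by
      by_contra hne
      apply hcon3 (-(g 2) / g 3)
      have h2 : B y - (-(g 2) / g 3) • y = (-(g 0) / g 3) • x + (-(g 1) / g 3) • B x := by
        have h3 : g 3 • (B y - (-(g 2) / g 3) • y) = g 3 • ((-(g 0) / g 3) • x + (-(g 1) / g 3) • B x) := by
          rw [smul_sub, smul_add, smul_smul, smul_smul, smul_smul, mul_div_cancel₀ _ hne,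
            mul_div_cancel₀ _ hne, mul_div_cancel₀ _ hne, ← sub_eq_zero, ← hg]
          module
        have h4 := congrArg (fun z => (g 3)⁻¹ • z) h3
        simpa only [inv_smul_smul₀ hne] using h4
      rw [h2]
      apply Submodule.add_mem
      · exact Submodule.smul_mem _ _ (Submodule.subset_span ⟨0, rfl⟩)
      · exact Submodule.smul_mem _ _ (Submodule.subset_span ⟨1, rfl⟩)
    have h5 := hyx ![g 2, g 0, g 1] (by
      simp only [Fin.sum_univ_three, Matrix.cons_val_zero, Matrix.cons_val_one,
        Matrix.cons_val_two, Matrix.tail_cons, Matrix.head_cons]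
      rw [← hg, hg3]; module)
    have h50 := h5 0
    have h51 := h5 1
    have h52 := h5 2
    simp only [Matrix.cons_val_zero, Matrix.cons_val_one, Matrix.cons_val_two, Matrix.tail_cons,
      Matrix.head_cons] at h50 h51 h52
    intro i
    fin_cases i
    · exact h51
    · exact h52
    · exact h50
    · exact hg3
  obtain ⟨c, hc⟩ := hdep
  obtain ⟨a, b, hab⟩ := hquad x hx
  obtain ⟨a', b', hab'⟩ := hquad y hy0
  have hinv : ∀ v ∈ Submodule.span K (Set.range ![x, B x]),
      B v ∈ Submodule.span K (Set.range ![x, B x]) := by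
    intro v hv
    have hle : Submodule.span K (Set.range ![x, B x]) ≤
        (Submodule.span K (Set.range ![x, B x])).comap B := by
      rw [Submodule.span_le]
      rintro _ ⟨i, rfl⟩
      fin_cases i
      · exact Submodule.subset_span ⟨1, rfl⟩
      · show B (B x) ∈ Submodule.span K (Set.range ![x, B x])
        rw [hab]
        apply Submodule.add_mem
        · exact Submodule.smul_mem _ _ (Submodule.subset_span ⟨0, rfl⟩)
        · exact Submodule.smul_mem _ _ (Submodule.subset_span ⟨1, rfl⟩)
    exact hle hv
  -- `u = B y - c y` is in both invariant planes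
  set u := B y - c • y with hu
  have hu0 : u ≠ 0 := by
    intro h
    have h1 := hB y hy0
    rw [LinearIndependent.pair_iff] at h1
    have := (h1 (-c) 1 (by rw [← h, hu]; module)).2
    exact one_ne_zero this
  have hBu : B u = (a' + b' * c - c * c) • y + (b' - c) • u := by
    rw [hu, map_sub, map_smul, hab']
    module
  have hmem : (a' + b' * c - c * c) • y ∈ Submodule.span K (Set.range ![x, B x]) := by
    have h1 := hinv u hc
    rw [hBu] at h1
    have := Submodule.sub_mem _ h1 (Submodule.smul_mem _ (b' - c) hc)
    simpa using this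
  have hz : a' + b' * c - c * c = 0 := by
    by_contra hne
    apply hy
    have := Submodule.smul_mem _ (a' + b' * c - c * c)⁻¹ hmem
    rwa [smul_smul, inv_mul_cancel₀ hne, one_smul] at this
  rw [hz, zero_smul, zero_add] at hBu
  have h1 := hB u hu0
  rw [LinearIndependent.pair_iff] at h1
  have := (h1 (b' - c) (-1) (by rw [hBu]; module)).2
  norm_num at this

/-- **Lemma E3.** -/
theorem edges_of_cyclic {C : V →ₗ[K] V} (hd : 4 ≤ finrank K V) {x : V}
    (hx : LinearIndependent K ![x, C x, C (C x)]) :
    ∃ y, LinearIndependent K ![x, C x, y, C y] := by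
  by_contra hcon
  push Not at hcon
  have hxx : LinearIndependent K ![x, C x] := by
    rw [LinearIndependent.pair_iff]
    intro s t hst
    rw [Fintype.linearIndependent_iff] at hx
    have h5 := hx ![s, t, 0] (by
      simp only [Fin.sum_univ_three, Matrix.cons_val_zero, Matrix.cons_val_one,
        Matrix.cons_val_two, Matrix.tail_cons, Matrix.head_cons]
      rw [← hst]; module)
    exact ⟨h5 0, h5 1⟩
  have hsp : Submodule.span K (Set.range ![x, C x, C (C x)]) ≠ ⊤ := by
    intro hk
    have h1 := finrank_range_le_card (R := K) (![x, C x, C (C x)])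
    unfold Set.finrank at h1
    rw [hk, finrank_top] at h1
    simp at h1
    omega
  obtain ⟨y, hy⟩ : ∃ y, y ∉ Submodule.span K (Set.range ![x, C x, C (C x)]) := by
    by_contra h; push Not at h; exact hsp ((Submodule.eq_top_iff').mpr h)
  have hle : Submodule.span K (Set.range ![x, C x]) ≤
      Submodule.span K (Set.range ![x, C x, C (C x)]) := by
    rw [Submodule.span_le]
    rintro _ ⟨i, rfl⟩
    fin_cases i
    · exact Submodule.subset_span ⟨0, rfl⟩
    · exact Submodule.subset_span ⟨1, rfl⟩
  have key : ∀ y, y ∉ Submodule.span K (Set.range ![x, C x]) →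
      ∃ c : K, C y - c • y ∈ Submodule.span K (Set.range ![x, C x]) := by
    intro y hy
    by_contra hcon3
    push Not at hcon3
    apply hcon y
    have hyx : LinearIndependent K ![y, x, C x] := hxx.finCons hy
    rw [Fintype.linearIndependent_iff] at hyx ⊢
    intro g hg
    simp only [Fin.sum_univ_four, Matrix.cons_val_zero, Matrix.cons_val_one,
      Matrix.cons_val_two, Matrix.cons_val_three, Matrix.tail_cons, Matrix.head_cons] at hg
    have hg3 : g 3 = 0 := by
      by_contra hne
      apply hcon3 (-(g 2) / g 3)
      have h2 : C y - (-(g 2) / g 3) • y = (-(g 0) / g 3) • x + (-(g 1) / g 3) • C x := by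
        have h3 : g 3 • (C y - (-(g 2) / g 3) • y) = g 3 • ((-(g 0) / g 3) • x + (-(g 1) / g 3) • C x) := by
          rw [smul_sub, smul_add, smul_smul, smul_smul, smul_smul, mul_div_cancel₀ _ hne,
            mul_div_cancel₀ _ hne, mul_div_cancel₀ _ hne, ← sub_eq_zero, ← hg]
          module
        have h4 := congrArg (fun z => (g 3)⁻¹ • z) h3
        simpa only [inv_smul_smul₀ hne] using h4
      rw [h2]
      apply Submodule.add_mem
      · exact Submodule.smul_mem _ _ (Submodule.subset_span ⟨0, rfl⟩)
      · exact Submodule.smul_mem _ _ (Submodule.subset_span ⟨1, rfl⟩)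
    have h5 := hyx ![g 2, g 0, g 1] (by
      simp only [Fin.sum_univ_three, Matrix.cons_val_zero, Matrix.cons_val_one,
        Matrix.cons_val_two, Matrix.tail_cons, Matrix.head_cons]
      rw [← hg, hg3]; module)
    have h50 := h5 0
    have h51 := h5 1
    have h52 := h5 2
    simp only [Matrix.cons_val_zero, Matrix.cons_val_one, Matrix.cons_val_two, Matrix.tail_cons,
      Matrix.head_cons] at h50 h51 h52
    intro i
    fin_cases i
    · exact h51
    · exact h52
    · exact h50
    · exact hg3
  have hy1 : y ∉ Submodule.span K (Set.range ![x, C x]) := fun h => hy (hle h)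
  have hCx : C x ∈ Submodule.span K (Set.range ![x, C x]) := Submodule.subset_span ⟨1, rfl⟩
  have hy2 : y + C x ∉ Submodule.span K (Set.range ![x, C x]) := by
    intro h
    apply hy1
    have := Submodule.sub_mem _ h hCx
    simpa using this
  obtain ⟨c, hc⟩ := key y hy1
  obtain ⟨c', hc'⟩ := key _ hy2
  -- difference
  have h1 : C (C x) + (c - c') • y ∈ Submodule.span K (Set.range ![x, C x]) := by
    have h2 := Submodule.add_mem _ (Submodule.sub_mem _ hc' hc) (Submodule.smul_mem _ c' hCx)
    have h3 : C (y + C x) - c' • (y + C x) - (C y - c • y) + c' • C x = C (C x) + (c - c') • y := by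
      rw [map_add]; module
    rwa [h3] at h2
  by_cases hcc : c - c' = 0
  · rw [hcc, zero_smul, add_zero] at h1
    -- C C x in span
    have hx3 : LinearIndependent K ![C (C x), x, C x] := by
      rw [Fintype.linearIndependent_iff] at hx ⊢
      intro g hg
      simp only [Fin.sum_univ_three, Matrix.cons_val_zero, Matrix.cons_val_one,
        Matrix.cons_val_two, Matrix.tail_cons, Matrix.head_cons] at hg
      have h5 := hx ![g 1, g 2, g 0] (by
        simp only [Fin.sum_univ_three, Matrix.cons_val_zero, Matrix.cons_val_one,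
          Matrix.cons_val_two, Matrix.tail_cons, Matrix.head_cons]
        rw [← hg]; module)
      intro i
      fin_cases i
      · exact h5 2
      · exact h5 0
      · exact h5 1
    exact (linearIndependent_finCons.mp hx3).2 h1
  · apply hy
    have h4 : C (C x) ∈ Submodule.span K (Set.range ![x, C x, C (C x)]) :=
      Submodule.subset_span ⟨2, rfl⟩
    have h5 := Submodule.sub_mem _ (hle h1) h4
    have h6 : C (C x) + (c - c') • y - C (C x) = (c - c') • y := by abel
    rw [h6] at h5
    have := Submodule.smul_mem _ (c - c')⁻¹ h5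
    rwa [smul_smul, inv_mul_cancel₀ hcc, one_smul] at this

end Cfsg.Agent.H105
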