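import Mathlib
import Cfsg.Agent.H105.SzU2_m3
import Cfsg.Agent.LieClassical.OrthSimple
import Cfsg.Agent.LieClassical.OrthFinite
import Cfsg.Agent.H958.Wt
import Cfsg.Agent.H141.SpinTwo
import Cfsg.Agent.H508.Sz.E4b
import Cfsg.Agent.H174.AltRank
import Cfsg.Agent.H141.SpinOdd
import Cfsg.Agent.FastGrp
import Cfsg.Agent.Prune
set_option linter.all false
prune_inst 0x7fbeebfbabffbbffdfff7fffa69ecffdffbdbfffe6dff9cbffe06fff8bdf4b92cfc5fb8f8ffa30fe1ef7e21414f87b53fbfffeffe36bd87ffffd1ff41ffbffcffdf7b50951fd98b40fbc0ffe03f0778e7f3fffffffffffffffffffffffffffbeffbfffffffff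
open scoped Cfsg.Agent.FastGrp

-- part: H105/SzO7
section
/-!
# Products of two centralizers in orthogonal groups, part 7: odd characteristic, a skew isometry and an
involution with two large eigenspaces
-/

set_option autoImplicit false

namespace Cfsg.Agent.H105.SzO

open Module QuadraticMap Cfsg.Agent.LieClassical.OrthCore Cfsg.Agent.LieClassical.OrthTrans
open Cfsg.Agent.LieClassical.OrthFinite Cfsg.Agent.H955 Cfsg.Agent.H105.Sz

universe u v w

variable {K : Type u} [Field K] {V : Type v} [AddCommGroup V] [Module K V]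
  {Q : QuadraticForm K V} [FiniteDimensional K V]

/-- `v ↦ (t,v) x + (x,v) t` -/
def D1 (Q : QuadraticForm K V) (t x : V) : Module.End K V :=
  (polarBilin Q t).smulRight x + (polarBilin Q x).smulRight t

/-- `v ↦ (t,v) t` -/
def D2 (Q : QuadraticForm K V) (t : V) : Module.End K V := (polarBilin Q t).smulRight t

omit [FiniteDimensional K V] in
theorem D1_apply (t x v : V) : D1 Q t x v = polar Q t v • x + polar Q x v • t := rfl

omit [FiniteDimensional K V] in
theorem D2_apply (t v : V) : D2 Q t v = polar Q t v • t := rfl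

theorem trace_D1 (X : Module.End K V) (t x : V) :
    LinearMap.trace K V (X * D1 Q t x) = polar Q t (X x) + polar Q x (X t) := by
  have e : X * D1 Q t x = (polarBilin Q t).smulRight (X x) + (polarBilin Q x).smulRight (X t) := by
    ext v
    simp only [Module.End.mul_apply, D1_apply, LinearMap.add_apply, LinearMap.smulRight_apply,
      polarBilin_apply_apply, map_add, map_smul]
  rw [e, map_add, LinearMap.trace_smulRight, LinearMap.trace_smulRight, polarBilin_apply_apply,
    polarBilin_apply_apply]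

theorem trace_D2 (X : Module.End K V) (t : V) :
    LinearMap.trace K V (X * D2 Q t) = polar Q t (X t) := by
  have e : X * D2 Q t = (polarBilin Q t).smulRight (X t) := by
    ext v
    simp only [Module.End.mul_apply, D2_apply, LinearMap.smulRight_apply,
      polarBilin_apply_apply, map_smul]
  rw [e, LinearMap.trace_smulRight, polarBilin_apply_apply]

omit [FiniteDimensional K V] in
theorem trace_expand (A B D E' : Module.End K V) (s r : K) :
    LinearMap.trace K V ((A * (B + s • D - r • E')) * (A * (B + s • D - r • E'))) =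
      LinearMap.trace K V ((A * B) * (A * B)) + 2 * s * LinearMap.trace K V (A * B * A * D) -
        2 * r * LinearMap.trace K V (A * B * A * E') + s ^ 2 * LinearMap.trace K V (A * D * A * D) -
        2 * s * r * LinearMap.trace K V (A * D * A * E') +
        r ^ 2 * LinearMap.trace K V (A * E' * A * E') := by
  have e : (A * (B + s • D - r • E')) * (A * (B + s • D - r • E')) =
      (A * B) * (A * B) + s • (A * B * (A * D)) + s • (A * D * (A * B)) - r • (A * B * (A * E')) -
      r • (A * E' * (A * B)) + (s ^ 2) • (A * D * (A * D)) - (s * r) • (A * D * (A * E')) -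
      (s * r) • (A * E' * (A * D)) + (r ^ 2) • (A * E' * (A * E')) := by
    simp only [mul_add, add_mul, mul_sub, sub_mul, mul_smul_comm, smul_mul_assoc, smul_sub, smul_add,
      smul_smul]
    module
  rw [e]
  simp only [map_add, map_sub, map_smul, smul_eq_mul]
  rw [LinearMap.trace_mul_comm K (A * D) (A * B), LinearMap.trace_mul_comm K (A * E') (A * B),
    LinearMap.trace_mul_comm K (A * E') (A * D)]
  simp only [← mul_assoc]
  ring

omit [FiniteDimensional K V] in
/-- the conjugate of an involution by a Siegel element. -/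
theorem conj_siegel_inv {b : V ≃ₗ[K] V} (hb : b ∈ O Q) {t x : V} (ht : Q t = 0)
    (hbt : b t = t) (hbx : b x = -x) (l : K) (hw : polar Q t (l • x) = 0) (htx : polar Q t x = 0) :
    ((siegel Q t (l • x) ht hw * b * (siegel Q t (l • x) ht hw)⁻¹ : V ≃ₗ[K] V) : V →ₗ[K] V) =
      (b : V →ₗ[K] V) + (2 * l) • D1 Q t x - (4 * l ^ 2 * Q x) • D2 Q t := by
  have hw' : polar Q t (-(l • x)) = 0 := by rw [polar_neg_right, hw, neg_zero]
  rw [siegel_inv ht hw hw']
  ext v
  change siegel Q t (l • x) ht hw (b (siegel Q t (-(l • x)) ht hw' v)) =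
    b v + (2 * l) • (D1 Q t x) v - (4 * l ^ 2 * Q x) • (D2 Q t) v
  have htt : polar Q t t = 0 := polar_self_of_sing ht
  have hxt : polar Q x t = 0 := by rw [polar_comm]; exact htx
  have h1 : polar Q t (b v) = polar Q t v := by
    have := polar_map hb t v
    rwa [hbt] at this
  have h2 : polar Q x (b v) = -polar Q x v := by
    have := polar_map hb x v
    rw [hbx, polar_neg_left] at this
    linear_combination -this
  rw [siegel_apply, siegel_apply, D1_apply, D2_apply]
  simp only [map_add, map_sub, map_smul, map_neg, hbt, hbx, polar_add_right, polar_sub_right,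
    polar_smul_right, polar_smul_left, polar_neg_left, polar_neg_right, htt, hxt, htx, h1, h2,
    polar_self', QuadraticMap.map_smul, QuadraticMap.map_neg, smul_eq_mul]
  module

/-- the set-up: constant traces of `(a b^g)²`. -/
structure TC (Q : QuadraticForm K V) (a b : V ≃ₗ[K] V) : Prop where
  ha : a ∈ O Q
  hb : b ∈ O Q
  hbb : ∀ v, b (b v) = v
  skew : ∃ c : K, ∀ v, a v + a⁻¹ v = c • v
  const : ∀ g ∈ E Q, tr ((a * (g * b * g⁻¹)) * (a * (g * b * g⁻¹))) = tr ((a * b) * (a * b))

omit [FiniteDimensional K V] in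
theorem TC.conj {a b : V ≃ₗ[K] V} (h : TC Q a b) {g : V ≃ₗ[K] V} (hg : g ∈ E Q) :
    TC Q a (g * b * g⁻¹) where
  ha := h.ha
  hb := (O Q).mul_mem ((O Q).mul_mem (E_le_O hg) h.hb) ((O Q).inv_mem (E_le_O hg))
  hbb := fun v => by
    have h1 : ∀ w, g⁻¹ (g w) = w := fun w => g.symm_apply_apply w
    have h2 : ∀ w, g (g⁻¹ w) = w := fun w => g.apply_symm_apply w
    change g (b (g⁻¹ (g (b (g⁻¹ v))))) = v
    rw [h1, h.hbb, h2]
  skew := h.skew
  const := fun k hk => by
    have e : k * (g * b * g⁻¹) * k⁻¹ = (k * g) * b * (k * g)⁻¹ := by group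
    rw [e, h.const _ ((E Q).mul_mem hk hg), h.const _ hg]

omit [FiniteDimensional K V] in
theorem TC.perp (h2 : (2 : K) ≠ 0) {a b : V ≃ₗ[K] V} (h : TC Q a b) {x y : V} (hx : b x = x)
    (hy : b y = -y) : polar Q x y = 0 := by
  have h3 := polar_map h.hb x y
  rw [hx, hy, polar_neg_right] at h3
  have h4 : 2 * polar Q x y = 0 := by linear_combination -h3
  exact (mul_eq_zero.1 h4).resolve_left h2

omit [FiniteDimensional K V] in
theorem TC.dec (h2 : (2 : K) ≠ 0) {a b : V ≃ₗ[K] V} (h : TC Q a b) (v : V) :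
    ∃ x y, b x = x ∧ b y = -y ∧ v = x + y := by
  refine ⟨(2 : K)⁻¹ • (v + b v), (2 : K)⁻¹ • (v - b v), ?_, ?_, ?_⟩
  · rw [map_smul, map_add, h.hbb, add_comm]
  · rw [map_smul, map_sub, h.hbb, ← smul_neg, neg_sub]
  · rw [← smul_add]
    have : v + b v + (v - b v) = (2 : K) • v := by rw [two_smul]; abel
    rw [this, smul_smul, inv_mul_cancel₀ h2, one_smul]

/-- the quadratic identity -/
theorem TC.quad (h2 : (2 : K) ≠ 0) {a b : V ≃ₗ[K] V} (h : TC Q a b) {t x p' p : V}
    (ht : Q t = 0) (hbt : b t = t) (hbx : b x = -x) (hp' : b p' = p') (hp : b p = -p)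
    (hat : a t = p' + p) : polar Q x p ^ 2 = 4 * Q x * Q p := by
  obtain ⟨c, hc⟩ := h.skew
  have htx : polar Q t x = 0 := h.perp h2 hbt hbx
  have key : ∀ l : K, 2 * (2 * l) * LinearMap.trace K V ((a : V →ₗ[K] V) * (b : V →ₗ[K] V) *
      (a : V →ₗ[K] V) * D1 Q t x) + 8 * l ^ 2 * (polar Q x p ^ 2 - 4 * Q x * Q p) = 0 := by
    intro l
    have hw : polar Q t (l • x) = 0 := by rw [polar_smul_right, htx, smul_zero]
    have h3 := h.const _ (siegel_mem_E ht hw)
    have h4 := conj_siegel_inv (Q := Q) h.hb ht hbt hbx l hw htx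
    unfold tr at h3
    have h5 : ((a * (siegel Q t (l • x) ht hw * b * (siegel Q t (l • x) ht hw)⁻¹) *
        (a * (siegel Q t (l • x) ht hw * b * (siegel Q t (l • x) ht hw)⁻¹)) : V ≃ₗ[K] V) : V →ₗ[K] V) =
        ((a : V →ₗ[K] V) * ((siegel Q t (l • x) ht hw * b * (siegel Q t (l • x) ht hw)⁻¹ : V ≃ₗ[K] V) :
          V →ₗ[K] V) : Module.End K V) * ((a : V →ₗ[K] V) *
          ((siegel Q t (l • x) ht hw * b * (siegel Q t (l • x) ht hw)⁻¹ : V ≃ₗ[K] V) : V →ₗ[K] V)) := rfl
    have h6 : ((a * b * (a * b) : V ≃ₗ[K] V) : V →ₗ[K] V) =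
        ((a : V →ₗ[K] V) * (b : V →ₗ[K] V) : Module.End K V) * ((a : V →ₗ[K] V) * (b : V →ₗ[K] V)) := rfl
    rw [h5, h4, h6] at h3
    have h7 := trace_expand (K := K) (V := V) (a : V →ₗ[K] V) (b : V →ₗ[K] V) (D1 Q t x) (D2 Q t)
      (2 * l) (4 * l ^ 2 * Q x)
    rw [h3] at h7
    -- the coefficients
    have hta : polar Q t (a t) = 0 := alt_of_skew h2 h.ha hc ht
    have hxat : polar Q x (a t) = polar Q x p := by
      rw [hat, polar_add_right, polar_comm Q x p', h.perp h2 hp' hbx, zero_add]
    have htax : polar Q t (a x) = -polar Q x p := by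
      have := polar_skew h.ha hc t x
      rw [htx, mul_zero, polar_comm Q (a t) x, hxat] at this
      linear_combination this
    have c1 : LinearMap.trace K V ((a : V →ₗ[K] V) * D2 Q t * (a : V →ₗ[K] V) * D2 Q t) = 0 := by
      rw [trace_D2]
      change polar Q t (a (D2 Q t (a t))) = 0
      rw [D2_apply, hta, zero_smul, map_zero, polar_zero_right]
    have c2 : LinearMap.trace K V ((a : V →ₗ[K] V) * D1 Q t x * (a : V →ₗ[K] V) * D2 Q t) = 0 := by
      rw [trace_D2]
      change polar Q t (a (D1 Q t x (a t))) = 0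
      rw [D1_apply, hta, zero_smul, zero_add, map_smul, polar_smul_right, hta, smul_zero]
    have c3 : LinearMap.trace K V ((a : V →ₗ[K] V) * D1 Q t x * (a : V →ₗ[K] V) * D1 Q t x) =
        2 * polar Q x p ^ 2 := by
      rw [trace_D1]
      change polar Q t (a (D1 Q t x (a x))) + polar Q x (a (D1 Q t x (a t))) = _
      rw [D1_apply, D1_apply, hta, zero_smul, zero_add, map_add, map_smul, map_smul, map_smul,
        polar_add_right, polar_smul_right, polar_smul_right, polar_smul_right, hta, htax, hxat]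
      simp only [smul_eq_mul]
      ring
    have c4 : LinearMap.trace K V ((a : V →ₗ[K] V) * (b : V →ₗ[K] V) * (a : V →ₗ[K] V) * D2 Q t) =
        4 * Q p := by
      rw [trace_D2]
      change polar Q t (a (b (a t))) = 4 * Q p
      have h8 := polar_skew h.ha hc t (b (a t))
      have h9 : polar Q t (b (a t)) = 0 := by
        have := polar_map h.hb t (a t)
        rw [hbt, hta] at this
        exact this
      have h10 : polar Q p' p = 0 := h.perp h2 hp' hp
      have h11 : polar Q p p' = 0 := by rw [polar_comm]; exact h10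
      have h12 : Q p' + Q p = 0 := by
        have := mem_O.1 h.ha t
        rw [hat, Q_add, h10, ht, add_zero] at this
        exact this
      have h13 : polar Q (a t) (b (a t)) = -4 * Q p := by
        rw [hat, map_add, hp', hp, polar_add_left, polar_add_right, polar_add_right,
          polar_neg_right, polar_neg_right, h10, h11, polar_self', polar_self']
        linear_combination 2 * h12
      rw [h9, mul_zero, h13] at h8
      linear_combination h8
    rw [c1, c2, c3, c4] at h7
    linear_combination -h7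
  have e1 := key 1
  have e2 := key (-1)
  have e3 : (16 : K) * (polar Q x p ^ 2 - 4 * Q x * Q p) = 0 := by linear_combination e1 + e2
  have h16 : (16 : K) ≠ 0 := by
    have : (16 : K) = 2 * 2 * 2 * 2 := by norm_num
    rw [this]
    exact mul_ne_zero (mul_ne_zero (mul_ne_zero h2 h2) h2) h2
  have e4 := (mul_eq_zero.1 e3).resolve_left h16
  linear_combination e4

/-- **L1.** -/
theorem TC.lem_one (h2 : (2 : K) ≠ 0) (hQ : Nondeg Q) {a b : V ≃ₗ[K] V} (h : TC Q a b)
    {W' : Submodule K V} (hW' : ∀ v, v ∈ W' ↔ b v = -v) (hd' : 2 ≤ finrank K W') {t x : V}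
    (ht : Q t = 0) (hbt : b t = t) (hbx : b x = -x) : polar Q (a t) x = 0 := by
  obtain ⟨p', p, hp', hp, hat⟩ := h.dec h2 (a t)
  have key : ∀ y, b y = -y → polar Q y p ^ 2 = 4 * Q y * Q p := fun y hy =>
    h.quad h2 ht hbt hy hp' hp hat
  have hWn' : Nondeg (res Q W') := by
    rw [nondeg_res_iff]
    intro x hx hxy
    apply hQ
    intro v
    obtain ⟨q', q, hq', hq, rfl⟩ := h.dec h2 v
    rw [polar_add_right, hxy q ((hW' q).2 hq), polar_comm, h.perp h2 hq' ((hW' x).1 hx), add_zero]
  have hQp : Q p = 0 := by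
    by_contra hQp
    have hp0 : (⟨p, (hW' p).2 hp⟩ : W') ≠ 0 := by
      intro h0
      apply hQp
      have : p = 0 := congrArg Subtype.val h0
      rw [this, QuadraticMap.map_zero]
    have h1 := nondeg_perp hWn' (nondeg_span_singleton h2 (v := (⟨p, (hW' p).2 hp⟩ : W')) hQp)
    have h3 := finrank_add_perp hWn' (Submodule.span K {(⟨p, (hW' p).2 hp⟩ : W')})
    rw [finrank_span_singleton hp0] at h3
    obtain ⟨⟨⟨r, hrW⟩, hrp⟩, hr⟩ := exists_nonsingular h1 (by omega)
    have hr' : Q r ≠ 0 := hr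
    have h4 : polar Q p r = 0 := hrp _ (Submodule.mem_span_singleton_self _)
    have h5 := key r ((hW' r).1 hrW)
    rw [polar_comm, h4] at h5
    have h6 : (4 : K) * Q r * Q p ≠ 0 := by
      have : (4 : K) = 2 * 2 := by norm_num
      rw [this]
      exact mul_ne_zero (mul_ne_zero (mul_ne_zero h2 h2) hr') hQp
    apply h6
    linear_combination -h5
  have h3 := key x hbx
  rw [hQp, mul_zero] at h3
  have h4 : polar Q x p = 0 := pow_eq_zero_iff (two_ne_zero) |>.1 h3
  rw [hat, polar_add_left, h.perp h2 hp' hbx, polar_comm, h4, add_zero]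

variable [Finite K]

/-- **L2.** -/
theorem TC.false (h2 : (2 : K) ≠ 0) (hQ : Nondeg Q) (hd : 7 ≤ finrank K V) {a b : V ≃ₗ[K] V}
    (h : TC Q a b) (ha : ¬ Scalar a) {W W' : Submodule K V} (hW : ∀ v, v ∈ W ↔ b v = v)
    (hW' : ∀ v, v ∈ W' ↔ b v = -v) (hdW : 3 ≤ finrank K W) (hd' : 2 ≤ finrank K W') : False := by
  obtain ⟨c, hc⟩ := h.skew
  -- all conjugates
  have key : ∀ g ∈ E Q, ∀ t x : V, Q t = 0 → b t = t → b x = -x → polar Q (a (g t)) (g x) = 0 := by
    intro g hg t x ht hbt hbx
    have h1 : ∀ w, g⁻¹ (g w) = w := fun w => g.symm_apply_apply w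
    have hW'' : ∀ v, v ∈ W'.map (g : V →ₗ[K] V) ↔ (g * b * g⁻¹) v = -v := by
      intro v
      constructor
      · rintro ⟨w, hw, rfl⟩
        change g (b (g⁻¹ (g w))) = -g w
        rw [h1, (hW' w).1 hw, map_neg]
      · intro hv
        refine ⟨g⁻¹ v, ?_, g.apply_symm_apply v⟩
        change g⁻¹ v ∈ W'
        rw [hW']
        apply g.injective
        have : g (g⁻¹ v) = v := g.apply_symm_apply v
        rw [map_neg, this]
        exact hv
    refine (h.conj hg).lem_one h2 hQ (W' := W'.map (g : V →ₗ[K] V)) hW''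
      (by rw [LinearEquiv.finrank_map_eq]; exact hd') ?_ ?_ ?_
    · rw [mem_O.1 (E_le_O hg)]; exact ht
    · change g (b (g⁻¹ (g t))) = g t
      rw [h1, hbt]
    · change g (b (g⁻¹ (g x))) = -g x
      rw [h1, hbx, map_neg]
  obtain ⟨u, hu, h0, hmv⟩ := exists_moved hQ (by omega) ha
  obtain ⟨t, htW, ht0, ht⟩ := exists_sing_mem (Q := Q) W hdW
  have hbt := (hW t).1 htW
  have hne : Nontrivial W' := Module.nontrivial_of_finrank_pos (R := K) (by omega)
  obtain ⟨⟨x, hxW⟩, hx0⟩ := exists_ne (0 : W')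
  have hbx := (hW' x).1 hxW
  have hx0' : x ≠ 0 := fun h => hx0 (Subtype.ext h)
  have hxt : ∀ e : K, x ≠ e • t := by
    intro e he
    have h3 : b x = x := by rw [he, map_smul, hbt]
    rw [h3] at hbx
    have : (2 : K) • x = 0 := by rw [two_smul]; nth_rewrite 1 [hbx]; exact neg_add_cancel x
    exact hx0' ((smul_eq_zero.1 this).resolve_left h2)
  obtain ⟨z', hz', htz', hxz'⟩ := exists_sing_sep hQ (by omega) ht ht0 hxt
  have htx : polar Q t x = 0 := h.perp h2 hbt hbx
  have hi' : LinearIndependent K ![t, z'] := indep_of_not ht0 (fun e he => hxz' (by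
    rw [he, polar_smul_right, polar_comm, htx, smul_zero]))
  obtain ⟨g, hg, hgt, hgz⟩ := trans_pair hQ (by omega) ht hz' htz' hi' hu
    (by rw [mem_O.1 h.ha]; exact hu : Q (a u) = 0) (alt_of_skew h2 h.ha hc hu) (indep_of_not h0 hmv)
  have h3 := key g hg t x ht hbt hbx
  rw [hgt, ← hgz, polar_map (E_le_O hg), polar_comm] at h3
  exact hxz' h3

/-- **T4.** -/
theorem odd_step2 (hQ : Nondeg Q) (hd : 7 ≤ finrank K V) (h2 : (2 : K) ≠ 0) {a b : V ≃ₗ[K] V}
    (hab : PBad (E Q) a b) (ha : ¬ Scalar a) {c : K} (hac : ∀ v, a v + a⁻¹ v = c • v)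
    (hbb : b * b = 1) (W W' : Submodule K V) (hW : ∀ v, v ∈ W ↔ b v = v)
    (hW' : ∀ v, v ∈ W' ↔ b v = -v) (h1 : 2 ≤ finrank K W) (h1' : 2 ≤ finrank K W') : False := by
  have hne : Nontrivial V := Module.nontrivial_of_finrank_pos (R := K) (by omega)
  have hbb' : ∀ v, b (b v) = v := fun v => by
    change (b * b) v = v
    rw [hbb]; rfl
  have hdim := eig_dims h2 hbb' hW hW'
  have hconst : ∀ g ∈ E Q, tr ((a * (g * b * g⁻¹)) * (a * (g * b * g⁻¹))) = tr ((a * b) * (a * b)) := by
    intro g hg
    obtain ⟨x, hx, h3, h4⟩ := key_sign hQ hab hg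
    have h5 : ∀ w, x⁻¹ (x w) = w := fun w => x.symm_apply_apply w
    have h6 : (∀ v, a (g (b (g⁻¹ (x v)))) = x (a (b v))) ∨ ∀ v, a (g (b (g⁻¹ (x v)))) = -x (a (b v)) := by
      rcases h3 with h3 | h3 <;> rcases h4 with h4 | h4
      · left; intro v; rw [h4, h3]
      · right; intro v; rw [h4, map_neg, h3]
      · right; intro v; rw [h4, h3]
      · left; intro v; rw [h4, map_neg, h3, neg_neg]
    rw [← tr_conj x⁻¹ (a * (g * b * g⁻¹) * (a * (g * b * g⁻¹)))]
    congr 1
    refine LinearEquiv.ext fun v => ?_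
    rw [inv_inv]
    change x⁻¹ (a (g (b (g⁻¹ (a (g (b (g⁻¹ (x v))))))))) = a (b (a (b v)))
    rcases h6 with h6 | h6
    · rw [h6, h6, h5]
    · rw [h6, map_neg, map_neg, map_neg, map_neg, h6, map_neg, map_neg, neg_neg, h5]
  have hT : TC Q a b := ⟨E_le_O hab.1, E_le_O hab.2.1, hbb', ⟨c, hac⟩, hconst⟩
  by_cases hdW : 3 ≤ finrank K W
  · exact hT.false h2 hQ hd ha hW hW' hdW h1'
  · -- replace `b` by `-b`
    let nb : V ≃ₗ[K] V := LinearEquiv.neg K * b
    have hnb : ∀ v, nb v = -b v := fun v => rfl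
    have hT' : TC Q a nb := by
      refine ⟨hT.ha, ?_, ?_, hT.skew, ?_⟩
      · intro v
        rw [hnb, QuadraticMap.map_neg]
        exact hT.hb v
      · intro v
        rw [hnb, hnb, map_neg, neg_neg, hbb']
      · have e : ∀ g : V ≃ₗ[K] V, (a * (g * nb * g⁻¹)) * (a * (g * nb * g⁻¹)) =
            (a * (g * b * g⁻¹)) * (a * (g * b * g⁻¹)) := by
          intro g
          refine LinearEquiv.ext fun v => ?_
          change a (g (nb (g⁻¹ (a (g (nb (g⁻¹ v))))))) = a (g (b (g⁻¹ (a (g (b (g⁻¹ v)))))))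
          simp only [hnb, map_neg, neg_neg]
        have e' : (a * nb) * (a * nb) = (a * b) * (a * b) := by
          refine LinearEquiv.ext fun v => ?_
          change a (nb (a (nb v))) = a (b (a (b v)))
          simp only [hnb, map_neg, neg_neg]
        intro g hg
        rw [e, e']
        exact hconst g hg
    refine hT'.false h2 hQ hd ha (W := W') (W' := W) (fun v => ?_) (fun v => ?_) (by omega) h1
    · rw [hW', hnb]
      constructor
      · intro h; rw [h, neg_neg]
      · intro h
        rw [← h, neg_neg]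
        rw [h]
    · rw [hW, hnb, neg_inj]

end Cfsg.Agent.H105.SzO
end

-- part: H411/Sz/Base
section
/-!
# Orthogonal groups in characteristic two: basic facts (helper411, for S2273)
-/

set_option autoImplicit false
set_option linter.unusedSectionVars false

namespace Cfsg.Agent.H411.Sz

open Module QuadraticMap Cfsg.Agent.LieClassical.OrthCore Cfsg.Agent.LieClassical.OrthTrans
  Cfsg.Agent.LieClassical.OrthSimple Cfsg.Agent.H105.Sz

section Char2

variable {K V : Type*} [Field K] [CharP K 2] [AddCommGroup V] [Module K V]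

variable (K) in
theorem two0 : (2 : K) = 0 := CharTwo.two_eq_zero

variable (K) in
include K in
theorem dbl (x : V) : x + x = 0 := by
  rw [← two_smul K x, two0, zero_smul]

variable (K) in
include K in
theorem neg' (x : V) : -x = x := by
  rw [neg_eq_iff_add_eq_zero]; exact dbl K x

variable (K) in
include K in
theorem sub' (x y : V) : x - y = x + y := by
  rw [sub_eq_add_neg, neg' K y]

variable (K) in
include K in
theorem eq_of_add {x y : V} (h : x + y = 0) : x = y := by
  rw [add_eq_zero_iff_eq_neg, neg' K] at h; exact h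

variable {Q : QuadraticForm K V}

theorem pol_self (x : V) : polar Q x x = 0 := by rw [polar_self', two0, zero_mul]

theorem exists_Q_ne [Nontrivial V] (hQ : Nondeg Q) : ∃ z, Q z ≠ 0 := by
  by_contra hcon
  push Not at hcon
  obtain ⟨x, hx⟩ := exists_ne (0 : V)
  apply hx
  apply hQ
  intro y
  rw [polar, hcon, hcon, hcon]
  simp

/-- a scalar isometry is trivial -/
theorem scal_one [Nontrivial V] (hQ : Nondeg Q) {c : K} {f g : V → V} (h : ∀ v, f v = c • g v)
    (hf : ∀ v, Q (f v) = Q v) (hg : ∀ v, Q (g v) = Q v) : c = 1 := by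
  obtain ⟨z, hz⟩ := exists_Q_ne hQ
  have h1 := hf z
  rw [h, QuadraticMap.map_smul, hg, smul_eq_mul] at h1
  have h2 : (c - 1) * (c - 1) = 0 := by
    have h3 : (c * c - 1) * Q z = 0 := by rw [sub_mul, one_mul, h1, sub_self]
    have h4 : c * c - 1 = 0 := (mul_eq_zero.1 h3).resolve_right hz
    have h5 := two0 K
    linear_combination h4 - (c - 1) * h5
  have := mul_self_eq_zero.1 h2
  exact sub_eq_zero.1 this

theorem scomm_exact [Nontrivial V] (hQ : Nondeg Q) {x a : V ≃ₗ[K] V} (hx : x ∈ O Q) (ha : a ∈ O Q)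
    (h : SComm x a) (v : V) : a (x v) = x (a v) := by
  obtain ⟨c, hc⟩ := h
  have : c = 1 := scal_one hQ (f := fun v => a (x v)) (g := fun v => x (a v)) hc
    (fun v => by rw [mem_O.1 ha, mem_O.1 hx]) (fun v => by rw [mem_O.1 hx, mem_O.1 ha])
  rw [hc, this, one_smul]

end Char2

section Fin

variable {K V : Type*} [Field K] [Finite K] [CharP K 2] [AddCommGroup V] [Module K V]
  [FiniteDimensional K V] {Q : QuadraticForm K V}

omit [AddCommGroup V] [Module K V] [FiniteDimensional K V] in
theorem exists_sq (c : K) : ∃ d : K, d * d = c := by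
  obtain ⟨d, hd⟩ := (frobenius_inj K 2).surjective_of_finite (Equiv.refl K) c
  exact ⟨d, by rw [← hd, frobenius_def, pow_two]⟩

theorem refl_mul_refl (hG : Good Q) {v v' : V} (hv : Q v ≠ 0) (hv' : Q v' ≠ 0) :
    refl Q v' hv' * refl Q v hv ∈ E Q := by
  obtain ⟨c, hc⟩ := exists_sq (Q v' * (Q v)⁻¹)
  have hc0 : c ≠ 0 := by
    rintro rfl
    rw [zero_mul] at hc
    exact mul_ne_zero hv' (inv_ne_zero hv) hc.symm
  have h1 : Q (c • v) = Q v' := by
    rw [QuadraticMap.map_smul, smul_eq_mul, hc, mul_assoc, inv_mul_cancel₀ hv, mul_one]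
  have h2 : Q (c • v) ≠ 0 := by rw [h1]; exact hv'
  rw [← refl_smul hv hc0 h2]
  exact hG.refl_mul_refl_mem h2 hv' h1

theorem O_or (hG : Good Q) {z : V} (hz : Q z ≠ 0) {g : V ≃ₗ[K] V} (hg : g ∈ O Q) :
    g ∈ E Q ∨ refl Q z hz * g ∈ E Q := by
  have h1 : g ∈ Subgroup.closure (reflSet Q ∪ siegelSet Q) := by
    rw [← O_eq_closure hG.nondeg]; exact hg
  have hle : Subgroup.closure (reflSet Q ∪ siegelSet Q) ≤ O Q := by
    rw [← O_eq_closure hG.nondeg]
  have hrr := refl_mul_self (Q := Q) hz
  have hri := refl_inv (Q := Q) hz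
  clear hg
  induction h1 using Subgroup.closure_induction with
  | mem x hx =>
    rcases hx with ⟨v, hv, rfl⟩ | ⟨u, w, hu, hw, rfl⟩
    · exact Or.inr (refl_mul_refl hG hv hz)
    · exact Or.inl (siegel_mem_E hu hw)
  | one => exact Or.inl (Subgroup.one_mem _)
  | mul x y hx hy ihx ihy =>
    rcases ihx with h | h
    · rcases ihy with h' | h'
      · exact Or.inl (Subgroup.mul_mem _ h h')
      · right
        have e : refl Q z hz * (x * y) = (refl Q z hz * x * (refl Q z hz)⁻¹) * (refl Q z hz * y) := by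
          group
        rw [e]
        exact Subgroup.mul_mem _ (conj_mem_E (refl_mem_O hz) h) h'
    · rcases ihy with h' | h'
      · right
        rw [← mul_assoc]
        exact Subgroup.mul_mem _ h h'
      · left
        have e : x * y = (refl Q z hz * (refl Q z hz * x) * (refl Q z hz)⁻¹) * (refl Q z hz * y) := by
          have e' : (refl Q z hz * (refl Q z hz * x) * (refl Q z hz)⁻¹) * (refl Q z hz * y) =
              (refl Q z hz * refl Q z hz) * (x * y) := by group
          rw [e', hrr, one_mul]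
        rw [e]
        exact Subgroup.mul_mem _ (conj_mem_E (refl_mem_O hz) h) h'
  | inv x hx ih =>
    rcases ih with h | h
    · exact Or.inl (Subgroup.inv_mem _ h)
    · right
      have e : refl Q z hz * x⁻¹ = refl Q z hz * (refl Q z hz * x)⁻¹ * (refl Q z hz)⁻¹ := by
        rw [mul_inv_rev, mul_assoc, mul_assoc, hri, hrr, mul_one]
      rw [e]
      exact conj_mem_E (refl_mem_O hz) (Subgroup.inv_mem _ h)

/-- If `b` commutes with `a` then one of them is trivial. -/
theorem comm_false (hG : Good Q) {a b : V ≃ₗ[K] V} (hab : PBad (E Q) a b) (ha : a ≠ 1)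
    (hb : b ≠ 1) (hc : ∀ v, a (b v) = b (a v)) : False := by
  have hV : Nontrivial V := by
    by_contra hcon
    rw [not_nontrivial_iff_subsingleton] at hcon
    exact ha (LinearEquiv.ext fun v => Subsingleton.elim _ _)
  have hnd := hG.nondeg
  have hall : ∀ g ∈ E Q, ∀ v, a ((g * b * g⁻¹) v) = (g * b * g⁻¹) (a v) := fun g hg =>
    scomm_exact hnd ((O Q).mul_mem ((O Q).mul_mem (E_le_O hg) (E_le_O hab.2.1))
      ((O Q).inv_mem (E_le_O hg))) (E_le_O hab.1) (hab.comm_all ⟨1, fun v => by rw [hc, one_smul]⟩ hg)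
  -- scalar elements of `E Q` are trivial
  have hsc : ∀ n ∈ E Q, (∃ c : K, ∀ v : V, n v = c • v) → n = 1 := by
    rintro n hn ⟨c, h⟩
    have : c = 1 := scal_one hnd h (fun v => mem_O.1 (E_le_O hn) v) (fun v => rfl)
    ext v
    rw [h, this, one_smul]
    rfl
  -- the elements of `E Q` commuting with `a`, all conjugates
  let N : Subgroup (V ≃ₗ[K] V) := Subgroup.closure {y | ∃ g ∈ E Q, y = g * b * g⁻¹}
  have hNE : N ≤ E Q := by
    rw [Subgroup.closure_le]
    rintro _ ⟨g, hg, rfl⟩
    exact (E Q).mul_mem ((E Q).mul_mem hg hab.2.1) ((E Q).inv_mem hg)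
  have hNn : ∀ g ∈ E Q, ∀ n ∈ N, g * n * g⁻¹ ∈ N := by
    intro g hg n hn
    have : N ≤ N.comap (MulAut.conj g).toMonoidHom := by
      rw [Subgroup.closure_le]
      rintro _ ⟨k, hk, rfl⟩
      refine Subgroup.subset_closure ⟨g * k, (E Q).mul_mem hg hk, ?_⟩
      simp only [MulEquiv.coe_toMonoidHom, MulAut.conj_apply]
      group
    exact this hn
  have hbN : b ∈ N := Subgroup.subset_closure ⟨1, (E Q).one_mem, by group⟩
  have hNtop : N = E Q := by
    rcases good_normal_dichotomy hG hNE hNn with h | h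
    · exact absurd (hsc b hab.2.1 (h b hbN)) hb
    · exact h
  have hcomm : ∀ n ∈ E Q, a * n = n * a := by
    have h1 : N ≤ Subgroup.centralizer {a} := by
      rw [Subgroup.closure_le]
      rintro _ ⟨g, hg, rfl⟩
      rw [SetLike.mem_coe, Subgroup.mem_centralizer_singleton_iff]
      ext v
      exact (hall g hg v).symm
    intro n hn
    rw [← hNtop] at hn
    exact (Subgroup.mem_centralizer_singleton_iff.1 (h1 hn)).symm
  -- the centre of `E Q`
  let Z : Subgroup (V ≃ₗ[K] V) := E Q ⊓ Subgroup.centralizer (E Q : Set (V ≃ₗ[K] V))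
  have hZn : ∀ g ∈ E Q, ∀ n ∈ Z, g * n * g⁻¹ ∈ Z := by
    intro g hg n hn
    have h2 : g * n = n * g := Subgroup.mem_centralizer_iff.1 hn.2 g hg
    rw [h2, mul_inv_cancel_right]
    exact hn
  have haZ : a ∈ Z := ⟨hab.1, Subgroup.mem_centralizer_iff.2 fun n hn => (hcomm n hn).symm⟩
  rcases good_normal_dichotomy hG inf_le_left hZn with h | h
  · exact ha (hsc a hab.1 (h a haZ))
  · have h3 : ⁅E Q, E Q⁆ = ⊥ := by
      rw [Subgroup.commutator_eq_bot_iff_le_centralizer]
      intro x hx
      have : x ∈ Z := by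
        rw [show Z = E Q from h]; exact hx
      exact this.2
    rw [hG.E_perfect] at h3
    rw [h3] at hab
    exact ha ((Subgroup.mem_bot).1 hab.1)

end Fin

end Cfsg.Agent.H411.Sz
end

-- part: H411/Sz/Alt
section
/-!
# Alternating endomorphisms in characteristic two (helper411, for S2273)
-/

set_option autoImplicit false
set_option linter.unusedSectionVars false

namespace Cfsg.Agent.H411.Sz

open Module QuadraticMap Cfsg.Agent.LieClassical.OrthCore Cfsg.Agent.LieClassical.OrthTrans
  Cfsg.Agent.LieClassical.OrthSimple Cfsg.Agent.H105.Sz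

variable {K V : Type*} [Field K] [CharP K 2] [AddCommGroup V] [Module K V] {Q : QuadraticForm K V}

/-- totally singular families -/
structure TS (Q : QuadraticForm K V) {k : ℕ} (p q : Fin k → V) : Prop where
  Qp : ∀ i, Q (p i) = 0
  Qq : ∀ i, Q (q i) = 0
  pp : ∀ i j, polar Q (p i) (p j) = 0
  pq : ∀ i j, polar Q (p i) (q j) = 0
  qq : ∀ i j, polar Q (q i) (q j) = 0

/-- dual families -/
structure Du (Q : QuadraticForm K V) {k : ℕ} (p q x y : Fin k → V) : Prop where
  px : ∀ i j, polar Q (p i) (x j) = 0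
  py : ∀ i j, polar Q (p i) (y j) = if i = j then 1 else 0
  qx : ∀ i j, polar Q (q i) (x j) = if i = j then 1 else 0
  qy : ∀ i j, polar Q (q i) (y j) = 0

/-- the sum of the `N_{p i, q i}` -/
noncomputable def nsum (Q : QuadraticForm K V) {k : ℕ} (p q : Fin k → V) (v : V) : V :=
  ∑ i, (polar Q v (p i) • q i + polar Q v (q i) • p i)

/-- combination map -/
noncomputable def comb {k : ℕ} (p q : Fin k → V) : ((Fin k → K) × (Fin k → K)) →ₗ[K] V where
  toFun c := ∑ i, (c.1 i • p i + c.2 i • q i)
  map_add' c c' := by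
    rw [← Finset.sum_add_distrib]
    refine Finset.sum_congr rfl fun i _ => ?_
    simp only [Prod.fst_add, Prod.snd_add, Pi.add_apply]
    module
  map_smul' a c := by
    rw [Finset.smul_sum]
    refine Finset.sum_congr rfl fun i _ => ?_
    simp only [Prod.smul_fst, Prod.smul_snd, Pi.smul_apply, smul_eq_mul, RingHom.id_apply]
    module

theorem comb_apply {k : ℕ} (p q : Fin k → V) (c : (Fin k → K) × (Fin k → K)) :
    comb p q c = ∑ i, (c.1 i • p i + c.2 i • q i) := rfl

theorem polar_sum_left {ι : Type*} (s : Finset ι) (f : ι → V) (v : V) :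
    polar Q (∑ i ∈ s, f i) v = ∑ i ∈ s, polar Q (f i) v := by
  change polarBilin Q (∑ i ∈ s, f i) v = _
  rw [map_sum, LinearMap.sum_apply]
  rfl

theorem polar_sum_right {ι : Type*} (s : Finset ι) (f : ι → V) (v : V) :
    polar Q v (∑ i ∈ s, f i) = ∑ i ∈ s, polar Q v (f i) := by
  rw [polar_comm, polar_sum_left]
  exact Finset.sum_congr rfl fun i _ => polar_comm _ _ _

theorem Du.injective {k : ℕ} {p q x y : Fin k → V} (h : Du Q p q x y) :
    Function.Injective (comb (K := K) p q) := by
  rw [← LinearMap.ker_eq_bot, LinearMap.ker_eq_bot']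
  intro c hc
  rw [comb_apply] at hc
  refine Prod.ext ?_ ?_
  · funext j
    have h1 : polar Q (∑ i, (c.1 i • p i + c.2 i • q i)) (y j) = 0 := by
      rw [hc, polar_zero_left]
    rw [polar_sum_left] at h1
    simp only [polar_add_left, polar_smul_left, h.py, h.qy, smul_eq_mul, mul_zero, add_zero, mul_ite,
      mul_one] at h1
    simpa only [_root_.Prod.fst_zero, _root_.Pi.zero_apply, _root_.Finset.sum_ite_eq', _root_.Finset.mem_univ, ↓ _root_.reduceIte] using h1
  · funext j
    have h1 : polar Q (∑ i, (c.1 i • p i + c.2 i • q i)) (x j) = 0 := by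
      rw [hc, polar_zero_left]
    rw [polar_sum_left] at h1
    simp only [polar_add_left, polar_smul_left, h.px, h.qx, smul_eq_mul, mul_zero, zero_add, mul_ite,
      mul_one] at h1
    simpa only [_root_.Prod.snd_zero, _root_.Pi.zero_apply, _root_.Finset.sum_ite_eq', _root_.Finset.mem_univ, ↓ _root_.reduceIte] using h1

theorem Q_sum_of_orth {ι : Type*} (s : Finset ι) (f : ι → V) (h : ∀ i j, polar Q (f i) (f j) = 0)
    (hf : ∀ i, Q (f i) = 0) : Q (∑ i ∈ s, f i) = 0 := by
  classical
  induction s using Finset.induction_on with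
  | empty => simp
  | insert a s ha ih =>
    rw [Finset.sum_insert ha, Q_add, hf, ih, polar_sum_right, Finset.sum_eq_zero fun i _ => h a i]
    simp

theorem TS.Q_comb {k : ℕ} {p q : Fin k → V} (h : TS Q p q) (c : (Fin k → K) × (Fin k → K)) :
    Q (comb p q c) = 0 := by
  have hqp : ∀ i j, polar Q (q i) (p j) = 0 := fun i j => by rw [polar_comm]; exact h.pq j i
  rw [comb_apply]
  apply Q_sum_of_orth
  · intro i j
    simp only [polar_add_left, polar_add_right, polar_smul_left, polar_smul_right, h.pp, h.pq, h.qq,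
      hqp, smul_zero, add_zero]
  · intro i
    rw [Q_add, QuadraticMap.map_smul, QuadraticMap.map_smul, h.Qp, h.Qq, polar_smul_left,
      polar_smul_right, h.pq]
    simp

theorem exists_move [FiniteDimensional K V] (hQ : Nondeg Q) {k : ℕ} {p q x y p' q' x' y' : Fin k → V}
    (h1 : TS Q p q) (h2 : Du Q p q x y) (h1' : TS Q p' q') (h2' : Du Q p' q' x' y') :
    ∃ g ∈ O Q, ∀ i, g (p i) = p' i ∧ g (q i) = q' i := by
  obtain ⟨g, hg, h⟩ := Cfsg.Agent.H958.witt_maps hQ (comb (K := K) p q) (comb p' q') h2.injective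
    h2'.injective (fun c => by rw [h1.Q_comb, h1'.Q_comb])
  refine ⟨g, hg, fun i => ?_⟩
  constructor
  · have := h (Pi.single i 1, 0)
    rw [comb_apply, comb_apply] at this
    simpa only [Pi.single_apply, _root_.ite_smul, _root_.one_smul, _root_.zero_smul, _root_.Pi.zero_apply, _root_.add_zero, _root_.Finset.sum_ite_eq', _root_.Finset.mem_univ, ↓ _root_.reduceIte] using this
  · have := h (0, Pi.single i 1)
    rw [comb_apply, comb_apply] at this
    simpa only [Pi.single_apply, _root_.Pi.zero_apply, _root_.zero_smul, _root_.ite_smul, _root_.one_smul, _root_.zero_add, _root_.Finset.sum_ite_eq', _root_.Finset.mem_univ, ↓ _root_.reduceIte] using this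

/-- conjugating `1 + nsum` -/
theorem nsum_map {k : ℕ} {p q : Fin k → V} {g : V ≃ₗ[K] V} (hg : g ∈ O Q) (v : V) :
    g (nsum Q p q v) = nsum Q (fun i => g (p i)) (fun i => g (q i)) (g v) := by
  unfold nsum
  rw [map_sum]
  refine Finset.sum_congr rfl fun i _ => ?_
  rw [map_add, map_smul, map_smul, polar_map hg, polar_map hg]

theorem adj_of_alt {s : V →ₗ[K] V} (hs : ∀ v, polar Q (s v) v = 0) (v w : V) :
    polar Q (s v) w = polar Q v (s w) := by
  have h := hs (v + w)
  rw [map_add, polar_add_left, polar_add_right, polar_add_right, hs, hs, zero_add, add_zero] at h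
  rw [polar_comm Q v]
  exact eq_of_add K h

theorem exists_decomp [FiniteDimensional K V] (hQ : Nondeg Q) : ∀ (n : ℕ) (s : V →ₗ[K] V),
    finrank K (LinearMap.range s) = n → (∀ v, polar Q (s v) v = 0) → 
    ∃ (k : ℕ) (p q x y : Fin k → V), (∀ v, s v = nsum Q p q v) ∧ Du Q p q x y ∧
      (∀ i, p i ∈ LinearMap.range s) ∧ (∀ i, q i ∈ LinearMap.range s) := by
  intro n
  induction n using Nat.strong_induction_on with
  | _ n ih =>
    intro s hn hs
    by_cases h0 : ∀ v, s v = 0
    · refine ⟨0, Fin.elim0, Fin.elim0, Fin.elim0, Fin.elim0, fun v => ?_, ⟨fun i => i.elim0,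
        fun i => i.elim0, fun i => i.elim0, fun i => i.elim0⟩, fun i => i.elim0, fun i => i.elim0⟩
      rw [h0]
      simp [nsum]
    push Not at h0
    obtain ⟨v, hv⟩ := h0
    obtain ⟨v', hv'⟩ := hQ.exists_polar_eq hv 1
    have hadj := adj_of_alt hs
    set a := s v with ha
    set b := s v' with hb
    have av : polar Q a v = 0 := hs v
    have av' : polar Q a v' = 1 := hv'
    have bv : polar Q b v = 1 := by rw [hb, hadj, polar_comm]; exact hv'
    have bv' : polar Q b v' = 0 := hs v'
    have va : polar Q v a = 0 := by rw [polar_comm]; exact av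
    have v'a : polar Q v' a = 1 := by rw [polar_comm]; exact av'
    have vb : polar Q v b = 1 := by rw [polar_comm]; exact bv
    have v'b : polar Q v' b = 0 := by rw [polar_comm]; exact bv'
    let s1 : V →ₗ[K] V := s + ((polarBilin Q a).smulRight b + (polarBilin Q b).smulRight a)
    have hs1 : ∀ x, s1 x = s x + (polar Q a x • b + polar Q b x • a) := fun x => rfl
    have hs1v : s1 v = 0 := by rw [hs1, av, bv, ← ha]; simpa only [_root_.zero_smul, _root_.one_smul, _root_.zero_add] using dbl K a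
    have hs1v' : s1 v' = 0 := by rw [hs1, av', bv', ← hb]; simpa only [_root_.one_smul, _root_.zero_smul, _root_.add_zero] using dbl K b
    have hr : ∀ x, s1 x ∈ LinearMap.range s := by
      intro x
      rw [hs1]
      exact Submodule.add_mem _ ⟨x, rfl⟩ (Submodule.add_mem _ (Submodule.smul_mem _ _ ⟨v', rfl⟩)
        (Submodule.smul_mem _ _ ⟨v, rfl⟩))
    have halt : ∀ x, polar Q (s1 x) x = 0 := by
      intro x
      rw [hs1, polar_add_left, hs, polar_add_left, polar_smul_left, polar_smul_left]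
      simp only [smul_eq_mul]
      linear_combination (polar Q a x * polar Q b x) * two0 K
    have hadj1 := adj_of_alt halt
    have hlt : finrank K (LinearMap.range s1) < n := by
      rw [← hn]
      apply Submodule.finrank_lt_finrank_of_lt
      refine lt_of_le_of_ne ?_ ?_
      · rintro _ ⟨x, rfl⟩
        exact hr x
      · intro he
        have h1 : a ∈ LinearMap.range s1 := by rw [he]; exact ⟨v, rfl⟩
        obtain ⟨x, hx⟩ := h1
        have h2 : polar Q a v' = 0 := by rw [← hx, hadj1, hs1v', polar_zero_right]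
        rw [av'] at h2
        exact one_ne_zero h2
    obtain ⟨k, p, q, x, y, h1, h2, h3, h4⟩ := ih _ hlt s1 rfl halt
    have pv : ∀ i, polar Q (p i) v = 0 := by
      intro i
      obtain ⟨z, hz⟩ := h3 i
      rw [← hz, hadj1, hs1v, polar_zero_right]
    have pv' : ∀ i, polar Q (p i) v' = 0 := by
      intro i
      obtain ⟨z, hz⟩ := h3 i
      rw [← hz, hadj1, hs1v', polar_zero_right]
    have qv : ∀ i, polar Q (q i) v = 0 := by
      intro i
      obtain ⟨z, hz⟩ := h4 i
      rw [← hz, hadj1, hs1v, polar_zero_right]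
    have qv' : ∀ i, polar Q (q i) v' = 0 := by
      intro i
      obtain ⟨z, hz⟩ := h4 i
      rw [← hz, hadj1, hs1v', polar_zero_right]
    refine ⟨k + 1, Fin.cons a p, Fin.cons b q,
      Fin.cons v (fun i => x i + polar Q b (x i) • v + polar Q a (x i) • v'),
      Fin.cons v' (fun i => y i + polar Q b (y i) • v + polar Q a (y i) • v'), ?_, ⟨?_, ?_, ?_, ?_⟩, ?_, ?_⟩
    · intro z
      have e : s z = s1 z + (polar Q a z • b + polar Q b z • a) := by
        rw [hs1, add_assoc, dbl K, add_zero]
      rw [e, h1, nsum, nsum, Fin.sum_univ_succ]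
      simp only [Fin.cons_zero, Fin.cons_succ]
      rw [polar_comm Q z a, polar_comm Q z b]
      abel
    · intro i j
      refine Fin.cases ?_ (fun i => ?_) i <;> refine Fin.cases ?_ (fun j => ?_) j
      · simpa using av
      · simp only [Fin.cons_zero, Fin.cons_succ, polar_add_right, polar_smul_right, av, av', smul_eq_mul]
        linear_combination (polar Q a (x j)) * two0 K
      · simpa using pv i
      · simp only [Fin.cons_succ, polar_add_right, polar_smul_right, pv, pv', h2.px]
        simp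
    · intro i j
      refine Fin.cases ?_ (fun i => ?_) i <;> refine Fin.cases ?_ (fun j => ?_) j
      · simpa using av'
      · simp only [Fin.cons_zero, Fin.cons_succ, polar_add_right, polar_smul_right, av, av', smul_eq_mul]
        rw [if_neg (Fin.succ_ne_zero j).symm]
        linear_combination (polar Q a (y j)) * two0 K
      · rw [if_neg (Fin.succ_ne_zero i)]
        simpa using pv' i
      · simp only [Fin.cons_succ, polar_add_right, polar_smul_right, pv, pv', h2.py, Fin.succ_inj]
        simp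
    · intro i j
      refine Fin.cases ?_ (fun i => ?_) i <;> refine Fin.cases ?_ (fun j => ?_) j
      · simpa using bv
      · simp only [Fin.cons_zero, Fin.cons_succ, polar_add_right, polar_smul_right, bv, bv', smul_eq_mul]
        rw [if_neg (Fin.succ_ne_zero j).symm]
        linear_combination (polar Q b (x j)) * two0 K
      · rw [if_neg (Fin.succ_ne_zero i)]
        simpa using qv i
      · simp only [Fin.cons_succ, polar_add_right, polar_smul_right, qv, qv', h2.qx, Fin.succ_inj]
        simp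
    · intro i j
      refine Fin.cases ?_ (fun i => ?_) i <;> refine Fin.cases ?_ (fun j => ?_) j
      · simpa using bv'
      · simp only [Fin.cons_zero, Fin.cons_succ, polar_add_right, polar_smul_right, bv, bv', smul_eq_mul]
        linear_combination (polar Q b (y j)) * two0 K
      · simpa using qv' i
      · simp only [Fin.cons_succ, polar_add_right, polar_smul_right, qv, qv', h2.qy]
        simp
    · intro i
      refine Fin.cases ?_ (fun i => ?_) i
      · exact ⟨v, rfl⟩
      · obtain ⟨z, hz⟩ := h3 i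
        rw [Fin.cons_succ, ← hz]
        exact hr z
    · intro i
      refine Fin.cases ?_ (fun i => ?_) i
      · exact ⟨v', rfl⟩
      · obtain ⟨z, hz⟩ := h4 i
        rw [Fin.cons_succ, ← hz]
        exact hr z

end Cfsg.Agent.H411.Sz
end

-- part: H411/Sz/Frame
section
/-!
# Frames for isometries with `b + b⁻¹ = d` (helper411, for S2273)
-/

set_option autoImplicit false
set_option linter.unusedSectionVars false

namespace Cfsg.Agent.H411.Sz

open Module QuadraticMap Cfsg.Agent.LieClassical.OrthCore Cfsg.Agent.LieClassical.OrthTrans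
  Cfsg.Agent.LieClassical.OrthSimple Cfsg.Agent.H105.Sz

variable {K V : Type*} [Field K] [CharP K 2] [AddCommGroup V] [Module K V] {Q : QuadraticForm K V}

theorem rank_eq [FiniteDimensional K V] {s : V →ₗ[K] V} {k : ℕ} {p q x y : Fin k → V}
    (h1 : ∀ v, s v = nsum Q p q v) (h2 : Du Q p q x y) (h3 : ∀ i, p i ∈ LinearMap.range s)
    (h4 : ∀ i, q i ∈ LinearMap.range s) : finrank K (LinearMap.range s) = 2 * k := by
  have e : LinearMap.range s = LinearMap.range (comb (K := K) p q) := by
    apply le_antisymm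
    · rintro _ ⟨v, rfl⟩
      refine ⟨(fun i => polar Q v (q i), fun i => polar Q v (p i)), ?_⟩
      rw [h1, comb_apply, nsum]
      exact Finset.sum_congr rfl fun i _ => add_comm _ _
    · rintro _ ⟨c, rfl⟩
      rw [comb_apply]
      exact Submodule.sum_mem _ fun i _ => Submodule.add_mem _ (Submodule.smul_mem _ _ (h3 i))
        (Submodule.smul_mem _ _ (h4 i))
  rw [e, LinearMap.finrank_range_of_inj h2.injective, finrank_prod, finrank_fin_fun]
  ring

/-- the standing data on `b` -/
structure BD (Q : QuadraticForm K V) (b : V ≃ₗ[K] V) (d : K) : Prop where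
  mem : b ∈ O Q
  eq : ∀ v, b v + b⁻¹ v = d • v
  pol : ∀ v, polar Q (b v) v = d * Q v

namespace BD

variable {b : V ≃ₗ[K] V} {d : K} (B : BD Q b d)
include B

theorem bb (v : V) : b (b v) = d • b v + v := by
  have h := B.eq (b v)
  have h1 : b⁻¹ (b v) = v := b.symm_apply_apply v
  rw [h1] at h
  rw [← h, add_assoc, dbl K, add_zero]

theorem pmap (x y : V) : polar Q (b x) (b y) = polar Q x y := polar_map B.mem x y

theorem pl (x y : V) : polar Q (b x) y = d * polar Q x y + polar Q x (b y) := by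
  have h1 : polar Q (b x) y = polar Q x (b⁻¹ y) := by
    have h2 : b (b⁻¹ y) = y := b.apply_symm_apply y
    nth_rewrite 1 [← h2]
    rw [B.pmap]
  have h3 : b⁻¹ y = d • y + b y := by
    rw [← B.eq y, add_comm (b y), add_assoc, dbl K, add_zero]
  rw [h1, h3, polar_add_right, polar_smul_right, smul_eq_mul]

end BD

/-- a frame vector pair -/
structure Fr (Q : QuadraticForm K V) (b : V ≃ₗ[K] V) (u w : V) : Prop where
  Qu : Q u = 0
  Qw : Q w = 0
  uw : polar Q u w = 0
  buw : polar Q (b u) w = 1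

namespace Fr

variable {b : V ≃ₗ[K] V} {d : K} {u w : V}

theorem ubu (h : Fr Q b u w) (B : BD Q b d) : polar Q u (b u) = 0 := by
  rw [polar_comm, B.pol, h.Qu, mul_zero]

theorem wbw (h : Fr Q b u w) (B : BD Q b d) : polar Q w (b w) = 0 := by
  rw [polar_comm, B.pol, h.Qw, mul_zero]

theorem ubw (h : Fr Q b u w) (B : BD Q b d) : polar Q u (b w) = 1 := by
  have h1 := B.pl u w
  rw [h.buw, h.uw, mul_zero, zero_add] at h1
  exact h1.symm

theorem bubw (h : Fr Q b u w) (B : BD Q b d) : polar Q (b u) (b w) = 0 := by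
  rw [B.pmap, h.uw]

end Fr

/-- invariant nondegenerate subspaces -/
structure Inv (Q : QuadraticForm K V) (b : V ≃ₗ[K] V) (W : Submodule K V) : Prop where
  binv : ∀ x ∈ W, b x ∈ W
  nd : ∀ x ∈ W, (∀ y ∈ W, polar Q x y = 0) → x = 0

/-- the vectors of `W` orthogonal to `x` and `y` -/
def cut (Q : QuadraticForm K V) (W : Submodule K V) (x : V) : Submodule K V :=
  W ⊓ LinearMap.ker (polarBilin Q x)

theorem mem_cut {W : Submodule K V} {x v : V} : v ∈ cut Q W x ↔ v ∈ W ∧ polar Q x v = 0 := by
  rw [cut, Submodule.mem_inf, LinearMap.mem_ker]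
  rfl

/-- a vector `w` of `W` with prescribed products with two independent vectors of `W` -/
theorem exists_pair {W : Submodule K V} (hnd : ∀ x ∈ W, (∀ y ∈ W, polar Q x y = 0) → x = 0)
    {u u' : V} (hu : u ∈ W) (hu' : u' ∈ W) (hi : ∀ c : K, u' ≠ c • u) :
    ∃ w ∈ W, polar Q u w = 0 ∧ polar Q u' w = 1 := by
  by_cases h0 : u = 0
  · have hne : u' ≠ 0 := by
      intro h
      exact hi 0 (by rw [h, zero_smul])
    have : ∃ y ∈ W, polar Q u' y ≠ 0 := by
      by_contra hcon
      push Not at hcon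
      exact hne (hnd u' hu' hcon)
    obtain ⟨y, hy, hy'⟩ := this
    refine ⟨(polar Q u' y)⁻¹ • y, Submodule.smul_mem _ _ hy, ?_, ?_⟩
    · rw [h0, polar_zero_left]
    · rw [polar_smul_right, smul_eq_mul, inv_mul_cancel₀ hy']
  · have : ∃ y ∈ W, polar Q u y ≠ 0 := by
      by_contra hcon
      push Not at hcon
      exact h0 (hnd u hu hcon)
    obtain ⟨y, hy, hy'⟩ := this
    -- `z = u' - c u` with `(z, y) = 0`
    set c := polar Q u' y * (polar Q u y)⁻¹ with hc
    have hz : u' - c • u ∈ W := Submodule.sub_mem _ hu' (Submodule.smul_mem _ _ hu)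
    have hz0 : u' - c • u ≠ 0 := fun h => hi c (sub_eq_zero.1 h)
    have : ∃ x ∈ W, polar Q (u' - c • u) x ≠ 0 := by
      by_contra hcon
      push Not at hcon
      exact hz0 (hnd _ hz hcon)
    obtain ⟨x, hx, hx'⟩ := this
    have hcy : c * polar Q u y = polar Q u' y := by
      rw [hc, mul_assoc, inv_mul_cancel₀ hy', mul_one]
    set e := polar Q u x * (polar Q u y)⁻¹ with he
    have hey : e * polar Q u y = polar Q u x := by
      rw [he, mul_assoc, inv_mul_cancel₀ hy', mul_one]
    -- `t = x - e y` is orthogonal to `u`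
    have ht : polar Q u (x - e • y) = 0 := by
      rw [polar_sub_right, polar_smul_right, smul_eq_mul, hey, sub_self]
    have ht' : polar Q u' (x - e • y) = polar Q (u' - c • u) x := by
      rw [polar_sub_right, polar_smul_right, polar_sub_left, polar_smul_left, smul_eq_mul, smul_eq_mul,
        ← hey, ← hcy]
      ring
    refine ⟨(polar Q (u' - c • u) x)⁻¹ • (x - e • y), Submodule.smul_mem _ _
      (Submodule.sub_mem _ hx (Submodule.smul_mem _ _ hy)), ?_, ?_⟩
    · rw [polar_smul_right, ht, smul_zero]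
    · rw [polar_smul_right, ht', smul_eq_mul, inv_mul_cancel₀ hx']

/-- completing a frame -/
theorem exists_fr {b : V ≃ₗ[K] V} {d : K} (B : BD Q b d) {W : Submodule K V} (I : Inv Q b W) {u : V}
    (hu : u ∈ W) (hQu : Q u = 0) (hi : ∀ c : K, b u ≠ c • u) : ∃ w ∈ W, Fr Q b u w := by
  obtain ⟨w, hw, h1, h2⟩ := exists_pair I.nd hu (I.binv u hu) hi
  have hub : polar Q u (b u) = 0 := by rw [polar_comm, B.pol, hQu, mul_zero]
  have hQb : Q (b u) = 0 := by rw [mem_O.1 B.mem, hQu]
  refine ⟨w + Q w • b u, Submodule.add_mem _ hw (Submodule.smul_mem _ _ (I.binv u hu)), hQu, ?_, ?_, ?_⟩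
  · rw [Q_add, QuadraticMap.map_smul, hQb, polar_smul_right, polar_comm Q w, h2]
    simp only [smul_eq_mul]
    linear_combination (Q w) * two0 K
  · rw [polar_add_right, polar_smul_right, h1, hub, smul_zero, add_zero]
  · rw [polar_add_right, polar_smul_right, h2, pol_self, smul_zero, add_zero]


theorem finrank_cut [FiniteDimensional K V] (W : Submodule K V) (x : V) :
    finrank K W ≤ finrank K (cut Q W x) + 1 := by
  have h1 := Submodule.finrank_sup_add_finrank_inf_eq W (LinearMap.ker (polarBilin Q x))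
  have h2 := Submodule.finrank_le (W ⊔ LinearMap.ker (polarBilin Q x))
  have h3 := LinearMap.finrank_range_add_finrank_ker (polarBilin Q x)
  have h4 : finrank K (LinearMap.range (polarBilin Q x)) ≤ 1 := by
    refine le_trans (Submodule.finrank_le _) ?_
    rw [finrank_self]
  unfold cut
  omega

/-- a singular vector which is not an eigenvector, `d ≠ 0` -/
theorem exists_u_ne [Finite K] [FiniteDimensional K V] {b : V ≃ₗ[K] V} {d : K} (B : BD Q b d)
    (hd : d ≠ 0) {W : Submodule K V} (I : Inv Q b W) (hW : 3 ≤ finrank K W) :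
    ∃ u ∈ W, Q u = 0 ∧ ∀ c : K, b u ≠ c • u := by
  have hnz : ∀ (U : Submodule K V) (y z : V), y ∈ U → z ∈ U → polar Q y z ≠ 0 → ∃ t ∈ U, Q t = 1 := by
    intro U y z hy hz hyz
    have : ∃ t ∈ U, Q t ≠ 0 := by
      by_contra hcon
      push Not at hcon
      apply hyz
      rw [polar, hcon _ (U.add_mem hy hz), hcon _ hy, hcon _ hz]
      simp
    obtain ⟨t, ht, ht'⟩ := this
    obtain ⟨c, hc⟩ := exists_sq (K := K) (Q t)⁻¹
    refine ⟨c • t, U.smul_mem _ ht, ?_⟩
    rw [QuadraticMap.map_smul, smul_eq_mul, hc, inv_mul_cancel₀ ht']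
  have hWne : W ≠ ⊥ := by
    rintro rfl
    rw [finrank_bot] at hW
    omega
  obtain ⟨x0, hx0, hx00⟩ := W.ne_bot_iff.1 hWne
  have : ∃ y ∈ W, polar Q x0 y ≠ 0 := by
    by_contra hcon
    push Not at hcon
    exact hx00 (I.nd x0 hx0 hcon)
  obtain ⟨y0, hy0, hxy0⟩ := this
  obtain ⟨x, hx, hQx⟩ := hnz W x0 y0 hx0 hy0 hxy0
  have hbx := I.binv x hx
  have hbxx : polar Q (b x) x = d := by rw [B.pol, hQx, mul_one]
  have hxbx : polar Q x (b x) = d := by rw [polar_comm]; exact hbxx
  set U := cut Q (cut Q W x) (b x) with hU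
  have hmU : ∀ {v : V}, v ∈ U ↔ (v ∈ W ∧ polar Q x v = 0) ∧ polar Q (b x) v = 0 := by
    intro v
    rw [hU, mem_cut, mem_cut]
  have hf1 := finrank_cut (Q := Q) W x
  have hf2 := finrank_cut (Q := Q) (cut Q W x) (b x)
  have hUne : U ≠ ⊥ := by
    intro h
    rw [← hU, h, finrank_bot] at hf2
    omega
  obtain ⟨y1, hy1, hy10⟩ := U.ne_bot_iff.1 hUne
  obtain ⟨⟨hy1W, hy1x⟩, hy1b⟩ := hmU.1 hy1
  have : ∃ z ∈ W, polar Q y1 z ≠ 0 := by
    by_contra hcon
    push Not at hcon
    exact hy10 (I.nd y1 hy1W hcon)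
  obtain ⟨z, hz, hyz⟩ := this
  have hz' : z + (polar Q (b x) z * d⁻¹) • x + (polar Q x z * d⁻¹) • b x ∈ U := by
    rw [hmU]
    refine ⟨⟨W.add_mem (W.add_mem hz (W.smul_mem _ hx)) (W.smul_mem _ hbx), ?_⟩, ?_⟩
    · rw [polar_add_right, polar_add_right, polar_smul_right, polar_smul_right, pol_self, hxbx,
        smul_zero, add_zero, smul_eq_mul, mul_assoc, inv_mul_cancel₀ hd, mul_one]
      linear_combination (polar Q x z) * two0 K
    · rw [polar_add_right, polar_add_right, polar_smul_right, polar_smul_right, pol_self, hbxx,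
        smul_zero, add_zero, smul_eq_mul, mul_assoc, inv_mul_cancel₀ hd, mul_one]
      linear_combination (polar Q (b x) z) * two0 K
  obtain ⟨y, hy, hQy⟩ := hnz U _ _ hy1 hz' (by
    rw [polar_add_right, polar_add_right, polar_smul_right, polar_smul_right, polar_comm Q y1 x, hy1x,
      polar_comm Q y1 (b x), hy1b, smul_zero, smul_zero, add_zero, add_zero]
    exact hyz)
  obtain ⟨⟨hyW, hyx⟩, hyb⟩ := hmU.1 hy
  refine ⟨x + y, W.add_mem hx hyW, ?_, ?_⟩
  · rw [Q_add, hQx, hQy, hyx, add_zero]
    exact dbl K 1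
  · intro c hc
    have h1 : polar Q (b (x + y)) x = 0 := by
      rw [hc, polar_smul_left, polar_add_left, pol_self, polar_comm Q y x, hyx, add_zero, smul_zero]
    rw [map_add, polar_add_left, hbxx, B.pl, polar_comm Q y x, hyx, polar_comm Q y, hyb, mul_zero,
      add_zero, add_zero] at h1
    exact hd h1

theorem not_smul {b : V ≃ₗ[K] V} (B : BD Q b 0) {u : V} (h : b u ≠ u) (c : K) : b u ≠ c • u := by
  intro hc
  have h1 := B.bb u
  rw [zero_smul, zero_add, hc, map_smul, hc, smul_smul] at h1
  have hu : u ≠ 0 := by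
    rintro rfl
    exact h (map_zero b)
  have h2 : (c - 1) * (c - 1) = 0 := by
    have h3 : (c * c - 1) • u = 0 := by rw [sub_smul, one_smul, h1, sub_self]
    have h4 : c * c - 1 = 0 := (smul_eq_zero.1 h3).resolve_right hu
    linear_combination h4 - (c - 1) * two0 K
  have h3 : c = 1 := sub_eq_zero.1 (mul_self_eq_zero.1 h2)
  rw [h3, one_smul] at hc
  exact h hc

/-- a singular vector which is not an eigenvector, `d = 0` -/
theorem exists_u_eq {b : V ≃ₗ[K] V} (B : BD Q b 0) {W : Submodule K V} (I : Inv Q b W)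
    (hW : ∃ v ∈ W, b v ≠ v) : ∃ u ∈ W, Q u = 0 ∧ ∀ c : K, b u ≠ c • u := by
  obtain ⟨v, hv, hbv⟩ := hW
  by_cases hQv : Q v = 0
  · exact ⟨v, hv, hQv, not_smul B hbv⟩
  have hbb : ∀ x, b (b x) = x := fun x => by rw [B.bb, zero_smul, zero_add]
  have hpl : ∀ x y, polar Q (b x) y = polar Q x (b y) := fun x y => by rw [B.pl, zero_mul, zero_add]
  have h0 : b v + v ≠ 0 := fun h => hbv (eq_of_add K h)
  have : ∃ y ∈ W, polar Q (b v + v) y ≠ 0 := by
    by_contra hcon
    push Not at hcon
    exact h0 (I.nd _ (W.add_mem (I.binv v hv) hv) hcon)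
  obtain ⟨y, hy, hvy⟩ := this
  set r := b y + y with hr
  have hrW : r ∈ W := W.add_mem (I.binv y hy) hy
  have hvr : polar Q v r ≠ 0 := by
    rw [hr, polar_add_right, ← hpl, ← polar_add_left]
    exact hvy
  have hQr : Q r = 0 := by
    rw [hr, Q_add, mem_O.1 B.mem, B.pol, zero_mul, add_zero]
    exact dbl K _
  have hbr : b r = r := by rw [hr, map_add, hbb, add_comm]
  refine ⟨v + (Q v * (polar Q v r)⁻¹) • r, W.add_mem hv (W.smul_mem _ hrW), ?_, not_smul B ?_⟩
  · rw [Q_add, QuadraticMap.map_smul, hQr, polar_smul_right, smul_zero, add_zero, smul_eq_mul,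
      mul_assoc, inv_mul_cancel₀ hvr, mul_one]
    exact dbl K _
  · rw [map_add, map_smul, hbr]
    intro h
    exact hbv (add_right_cancel h)

/-- the complement of a frame -/
def comp (Q : QuadraticForm K V) (b : V ≃ₗ[K] V) (W : Submodule K V) (u w : V) : Submodule K V :=
  cut Q (cut Q (cut Q (cut Q W u) (b u)) w) (b w)

theorem mem_comp {b : V ≃ₗ[K] V} {W : Submodule K V} {u w v : V} :
    v ∈ comp Q b W u w ↔ v ∈ W ∧ polar Q u v = 0 ∧ polar Q (b u) v = 0 ∧ polar Q w v = 0 ∧
      polar Q (b w) v = 0 := by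
  rw [comp, mem_cut, mem_cut, mem_cut, mem_cut]
  tauto

/-- the projection to the complement -/
theorem proj_mem {b : V ≃ₗ[K] V} {d : K} (B : BD Q b d) {W : Submodule K V} (I : Inv Q b W) {u w : V}
    (hu : u ∈ W) (hw : w ∈ W) (h : Fr Q b u w) {y : V} (hy : y ∈ W) :
    y + polar Q (b w) y • u + polar Q w y • b u + polar Q (b u) y • w + polar Q u y • b w ∈
      comp Q b W u w := by
  have h1 := h.ubu B
  have h2 := h.wbw B
  have h3 := h.ubw B
  have h4 := h.bubw B
  have h5 := h.uw
  have h6 := h.buw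
  have h1' : polar Q (b u) u = 0 := by rw [polar_comm]; exact h1
  have h2' : polar Q (b w) w = 0 := by rw [polar_comm]; exact h2
  have h3' : polar Q (b w) u = 1 := by rw [polar_comm]; exact h3
  have h4' : polar Q (b w) (b u) = 0 := by rw [polar_comm]; exact h4
  have h5' : polar Q w u = 0 := by rw [polar_comm]; exact h5
  have h6' : polar Q w (b u) = 1 := by rw [polar_comm]; exact h6
  rw [mem_comp]
  refine ⟨?_, ?_, ?_, ?_, ?_⟩
  · exact W.add_mem (W.add_mem (W.add_mem (W.add_mem hy (W.smul_mem _ hu))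
      (W.smul_mem _ (I.binv u hu))) (W.smul_mem _ hw)) (W.smul_mem _ (I.binv w hw))
  · simp only [polar_add_right, polar_smul_right, pol_self, h1, h5, h3, smul_eq_mul]
    linear_combination (polar Q u y) * two0 K
  · simp only [polar_add_right, polar_smul_right, pol_self, h1', h6, h4, smul_eq_mul]
    linear_combination (polar Q (b u) y) * two0 K
  · simp only [polar_add_right, polar_smul_right, pol_self, h5', h6', h2, smul_eq_mul]
    linear_combination (polar Q w y) * two0 K
  · simp only [polar_add_right, polar_smul_right, pol_self, h3', h4', h2', smul_eq_mul]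
    linear_combination (polar Q (b w) y) * two0 K

theorem inv_comp {b : V ≃ₗ[K] V} {d : K} (B : BD Q b d) {W : Submodule K V} (I : Inv Q b W) {u w : V}
    (hu : u ∈ W) (hw : w ∈ W) (h : Fr Q b u w) : Inv Q b (comp Q b W u w) := by
  constructor
  · intro x hx
    rw [mem_comp] at hx ⊢
    obtain ⟨hxW, h1, h2, h3, h4⟩ := hx
    have key : ∀ z, polar Q z x = 0 → polar Q (b z) x = 0 → polar Q z (b x) = 0 := by
      intro z h5 h6
      have := B.pl z x
      rw [h5, h6, mul_zero, zero_add] at this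
      exact this.symm
    refine ⟨I.binv x hxW, key u h1 h2, ?_, key w h3 h4, ?_⟩
    · rw [B.pmap]; exact h1
    · rw [B.pmap]; exact h3
  · intro x hx hxy
    have hx' := hx
    rw [mem_comp] at hx
    obtain ⟨hxW, h1, h2, h3, h4⟩ := hx
    apply I.nd x hxW
    intro y hy
    have := hxy _ (proj_mem B I hu hw h hy)
    rw [polar_comm Q u] at h1
    rw [polar_comm] at h2 h3 h4
    simpa [polar_add_right, polar_smul_right, h1, h2, h3, h4] using this

theorem finrank_comp [FiniteDimensional K V] (b : V ≃ₗ[K] V) (W : Submodule K V) (u w : V) :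
    finrank K W ≤ finrank K (comp Q b W u w) + 4 := by
  have h1 := finrank_cut (Q := Q) W u
  have h2 := finrank_cut (Q := Q) (cut Q W u) (b u)
  have h3 := finrank_cut (Q := Q) (cut Q (cut Q W u) (b u)) w
  have h4 := finrank_cut (Q := Q) (cut Q (cut Q (cut Q W u) (b u)) w) (b w)
  unfold comp
  omega

theorem finrank_map_comp [FiniteDimensional K V] {b : V ≃ₗ[K] V} (B : BD Q b 0)
    {W : Submodule K V} (I : Inv Q b W) {u w : V} (hu : u ∈ W) (hw : w ∈ W) (h : Fr Q b u w) :
    finrank K (W.map (b.toLinearMap + LinearMap.id)) ≤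
      finrank K ((comp Q b W u w).map (b.toLinearMap + LinearMap.id)) + 2 := by
  classical
  have hbb : ∀ x, b (b x) = x := fun x => by rw [B.bb, zero_smul, zero_add]
  have h1 : W.map (b.toLinearMap + LinearMap.id) ≤
      (comp Q b W u w).map (b.toLinearMap + LinearMap.id) ⊔
        Submodule.span K (({b u + u, b w + w} : Finset V) : Set V) := by
    rintro _ ⟨y, hy, rfl⟩
    have hp := proj_mem B I hu hw h hy
    rw [Submodule.mem_sup]
    refine ⟨_, ⟨_, hp, rfl⟩, (polar Q (b w) y + polar Q w y) • (b u + u) +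
      (polar Q (b u) y + polar Q u y) • (b w + w), ?_, ?_⟩
    · refine Submodule.add_mem _ (Submodule.smul_mem _ _ (Submodule.subset_span ?_))
        (Submodule.smul_mem _ _ (Submodule.subset_span ?_))
      · simp only [_root_.Finset.coe_insert, _root_.Finset.coe_singleton, _root_.Set.mem_insert_iff, _root_.Set.mem_singleton_iff, _root_.true_or]
      · simp only [_root_.Finset.coe_insert, _root_.Finset.coe_singleton, _root_.Set.mem_insert_iff, _root_.Set.mem_singleton_iff, _root_.or_true]
    · simp only [LinearMap.add_apply, LinearMap.id_apply, LinearEquiv.coe_coe, map_add, map_smul, hbb]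
      match_scalars
      all_goals first
        | ring1
        | linear_combination (polar Q (b w) y + polar Q w y) * two0 K
        | linear_combination (polar Q (b u) y + polar Q u y) * two0 K
  refine le_trans (Submodule.finrank_mono h1) (le_trans (Submodule.finrank_add_le_finrank_add_finrank _ _) ?_)
  refine Nat.add_le_add_left (le_trans (finrank_span_finset_le_card _) ?_) _
  exact Finset.card_le_two

/-- orthogonality of two frames -/
structure Ort (Q : QuadraticForm K V) (b : V ≃ₗ[K] V) (u w u' w' : V) : Prop where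
  uu : polar Q u u' = 0
  ubu : polar Q u (b u') = 0
  uw : polar Q u w' = 0
  ubw : polar Q u (b w') = 0
  wu : polar Q w u' = 0
  wbu : polar Q w (b u') = 0
  ww : polar Q w w' = 0
  wbw : polar Q w (b w') = 0

theorem Ort.symm {b : V ≃ₗ[K] V} {d : K} (B : BD Q b d) {u w u' w' : V} (h : Ort Q b u w u' w') :
    Ort Q b u' w' u w := by
  have key : ∀ x y, polar Q x y = 0 → polar Q x (b y) = 0 → polar Q y (b x) = 0 := by
    intro x y h1 h2
    have := B.pl x y
    rw [h1, h2, mul_zero, zero_add, polar_comm] at this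
    exact this
  exact ⟨by rw [polar_comm]; exact h.uu, key _ _ h.uu h.ubu, by rw [polar_comm]; exact h.wu,
    key _ _ h.wu h.wbu, by rw [polar_comm]; exact h.uw, key _ _ h.uw h.ubw,
    by rw [polar_comm]; exact h.ww, key _ _ h.ww h.wbw⟩

theorem frames [Finite K] [FiniteDimensional K V] {b : V ≃ₗ[K] V} {d : K} (B : BD Q b d) :
    ∀ (k : ℕ) (W : Submodule K V), Inv Q b W → (d ≠ 0 → 4 * k ≤ finrank K W) →
    (d = 0 → 2 * k ≤ finrank K (W.map (b.toLinearMap + LinearMap.id))) →
    ∃ u w : Fin k → V, (∀ i, u i ∈ W ∧ w i ∈ W) ∧ (∀ i, Fr Q b (u i) (w i)) ∧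
      (∀ i j, i ≠ j → Ort Q b (u i) (w i) (u j) (w j)) := by
  intro k
  induction k with
  | zero =>
    intro W _ _ _
    exact ⟨Fin.elim0, Fin.elim0, fun i => i.elim0, fun i => i.elim0, fun i => i.elim0⟩
  | succ k ih =>
    intro W I h1 h2
    have hu : ∃ u ∈ W, Q u = 0 ∧ ∀ c : K, b u ≠ c • u := by
      by_cases hd : d = 0
      · subst hd
        refine exists_u_eq B I ?_
        by_contra hcon
        push Not at hcon
        have h3 := h2 rfl
        have h4 : W.map (b.toLinearMap + LinearMap.id) = ⊥ := by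
          rw [eq_bot_iff]
          rintro _ ⟨v, hv, rfl⟩
          rw [Submodule.mem_bot, LinearMap.add_apply, LinearMap.id_apply, LinearEquiv.coe_coe, hcon v hv]
          exact dbl K v
        rw [h4, finrank_bot] at h3
        omega
      · have := h1 hd
        exact exists_u_ne B hd I (by omega)
    obtain ⟨u0, hu0, hQ0, hi⟩ := hu
    obtain ⟨w0, hw0, hF⟩ := exists_fr B I hu0 hQ0 hi
    obtain ⟨u, w, h3, h4, h5⟩ := ih (comp Q b W u0 w0) (inv_comp B I hu0 hw0 hF) (by
      intro hd
      have h6 := h1 hd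
      have h7 := finrank_comp (Q := Q) b W u0 w0
      omega) (by
      intro hd
      subst hd
      have h6 := h2 rfl
      have h7 := finrank_map_comp B I hu0 hw0 hF
      omega)
    have hI' := inv_comp B I hu0 hw0 hF
    have h0 : ∀ j, Ort Q b u0 w0 (u j) (w j) := by
      intro j
      obtain ⟨ha, hb⟩ := h3 j
      have ha' := mem_comp.1 (hI'.binv _ ha)
      have hb' := mem_comp.1 (hI'.binv _ hb)
      rw [mem_comp] at ha hb
      exact ⟨ha.2.1, ha'.2.1, hb.2.1, hb'.2.1, ha.2.2.2.1, ha'.2.2.2.1, hb.2.2.2.1, hb'.2.2.2.1⟩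
    refine ⟨Fin.cons u0 u, Fin.cons w0 w, ?_, ?_, ?_⟩
    · intro i
      refine Fin.cases ⟨hu0, hw0⟩ (fun i => ?_) i
      obtain ⟨ha, hb⟩ := h3 i
      exact ⟨(mem_comp.1 ha).1, (mem_comp.1 hb).1⟩
    · intro i
      refine Fin.cases hF (fun i => ?_) i
      exact h4 i
    · intro i j
      refine Fin.cases ?_ (fun i => ?_) i <;> refine Fin.cases ?_ (fun j => ?_) j
      · intro h; exact absurd rfl h
      · intro _; exact h0 j
      · intro _; exact (h0 i).symm B
      · intro h
        exact h5 i j (fun e => h (by rw [e]))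

end Cfsg.Agent.H411.Sz
end

-- part: H411/Sz/E4a
section
/-!
# Lemma E4a of the orthogonal case of Szep's conjecture in characteristic two (helper411, for S2273)
-/

set_option autoImplicit false
set_option linter.unusedSectionVars false

namespace Cfsg.Agent.H411.Sz

open Module QuadraticMap Cfsg.Agent.LieClassical.OrthCore Cfsg.Agent.LieClassical.OrthTrans
  Cfsg.Agent.LieClassical.OrthSimple Cfsg.Agent.H105.Sz

variable {K V : Type*} [Field K] [CharP K 2] [AddCommGroup V] [Module K V] {Q : QuadraticForm K V}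

/-- `nsum` as a linear map -/
noncomputable def nL (Q : QuadraticForm K V) {k : ℕ} (p q : Fin k → V) : V →ₗ[K] V where
  toFun := nsum Q p q
  map_add' x y := by
    rw [nsum, nsum, nsum, ← Finset.sum_add_distrib]
    refine Finset.sum_congr rfl fun i _ => ?_
    rw [polar_add_left, polar_add_left]
    module
  map_smul' c x := by
    rw [nsum, nsum, Finset.smul_sum]
    refine Finset.sum_congr rfl fun i _ => ?_
    rw [polar_smul_left, polar_smul_left, smul_eq_mul, smul_eq_mul, RingHom.id_apply]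
    module

theorem nL_apply {k : ℕ} (p q : Fin k → V) (v : V) : nL Q p q v = nsum Q p q v := rfl

theorem nsum_zero {k : ℕ} {p q : Fin k → V} {y : V} (h1 : ∀ i, polar Q y (p i) = 0)
    (h2 : ∀ i, polar Q y (q i) = 0) : nsum Q p q y = 0 := by
  rw [nsum]
  exact Finset.sum_eq_zero fun i _ => by rw [h1, h2, zero_smul, zero_smul, add_zero]

theorem nsum_single {k : ℕ} {p q : Fin k → V} {y : V} (j : Fin k) (h1 : ∀ i, polar Q y (p i) = 0)
    (h2 : ∀ i, polar Q y (q i) = if i = j then 1 else 0) : nsum Q p q y = p j := by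
  rw [nsum, Finset.sum_eq_single j]
  · rw [h1, h2, zero_smul, if_pos rfl, one_smul, zero_add]
  · intro i _ hi
    rw [h1, h2, if_neg hi, zero_smul, zero_smul, add_zero]
  · intro h; exact absurd (Finset.mem_univ j) h

/-- the products of a family of frames -/
structure FF (Q : QuadraticForm K V) (b : V ≃ₗ[K] V) {k : ℕ} (u w : Fin k → V) : Prop where
  Qu : ∀ i, Q (u i) = 0
  Qb : ∀ i, Q (b (u i)) = 0
  Qw : ∀ i, Q (w i) = 0
  uu : ∀ i j, polar Q (u i) (u j) = 0
  ubu : ∀ i j, polar Q (u i) (b (u j)) = 0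
  bubu : ∀ i j, polar Q (b (u i)) (b (u j)) = 0
  uw : ∀ i j, polar Q (u i) (w j) = 0
  buw : ∀ i j, polar Q (b (u i)) (w j) = if i = j then 1 else 0
  ubw : ∀ i j, polar Q (u i) (b (w j)) = if i = j then 1 else 0
  bubw : ∀ i j, polar Q (b (u i)) (b (w j)) = 0
  ww : ∀ i j, polar Q (w i) (w j) = 0
  wbw : ∀ i j, polar Q (w i) (b (w j)) = 0
  bwbw : ∀ i j, polar Q (b (w i)) (b (w j)) = 0

theorem FF.mk' {b : V ≃ₗ[K] V} {d : K} (B : BD Q b d) {k : ℕ} {u w : Fin k → V}
    (h1 : ∀ i, Fr Q b (u i) (w i)) (h2 : ∀ i j, i ≠ j → Ort Q b (u i) (w i) (u j) (w j)) :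
    FF Q b u w := by
  have uu : ∀ i j, polar Q (u i) (u j) = 0 := by
    intro i j
    by_cases h : i = j
    · subst h; exact pol_self _
    · exact (h2 i j h).uu
  have uw : ∀ i j, polar Q (u i) (w j) = 0 := by
    intro i j
    by_cases h : i = j
    · subst h; exact (h1 i).uw
    · exact (h2 i j h).uw
  have ww : ∀ i j, polar Q (w i) (w j) = 0 := by
    intro i j
    by_cases h : i = j
    · subst h; exact pol_self _
    · exact (h2 i j h).ww
  refine ⟨fun i => (h1 i).Qu, fun i => by rw [mem_O.1 B.mem]; exact (h1 i).Qu, fun i => (h1 i).Qw, uu,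
    ?_, fun i j => by rw [B.pmap, uu], uw, ?_, ?_, fun i j => by rw [B.pmap, uw], ww, ?_,
    fun i j => by rw [B.pmap, ww]⟩
  · intro i j
    by_cases h : i = j
    · subst h; exact (h1 i).ubu B
    · exact (h2 i j h).ubu
  · intro i j
    by_cases h : i = j
    · subst h; rw [if_pos rfl]; exact (h1 i).buw
    · rw [if_neg h, polar_comm]; exact (h2 j i (Ne.symm h)).wbu
  · intro i j
    by_cases h : i = j
    · subst h; rw [if_pos rfl]; exact (h1 i).ubw B
    · rw [if_neg h]; exact (h2 i j h).ubw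
  · intro i j
    by_cases h : i = j
    · subst h; exact (h1 i).wbw B
    · exact (h2 i j h).wbw

namespace FF

variable {b : V ≃ₗ[K] V} {d : K} {k : ℕ} {u w : Fin k → V} (F : FF Q b u w)
include F

theorem buu (i j : Fin k) : polar Q (b (u i)) (u j) = 0 := by rw [polar_comm]; exact F.ubu j i
theorem wu (i j : Fin k) : polar Q (w i) (u j) = 0 := by rw [polar_comm]; exact F.uw j i
theorem wbu (i j : Fin k) : polar Q (w i) (b (u j)) = if j = i then 1 else 0 := by
  rw [polar_comm]; exact F.buw j i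
theorem bwu (i j : Fin k) : polar Q (b (w i)) (u j) = if j = i then 1 else 0 := by
  rw [polar_comm]; exact F.ubw j i
theorem bwbu (i j : Fin k) : polar Q (b (w i)) (b (u j)) = 0 := by rw [polar_comm]; exact F.bubw j i
theorem bww (i j : Fin k) : polar Q (b (w i)) (w j) = 0 := by rw [polar_comm]; exact F.wbw j i

theorem ts : TS Q u (fun i => b (u i)) := ⟨F.Qu, F.Qb, F.uu, F.ubu, F.bubu⟩

theorem du : Du Q u (fun i => b (u i)) w (fun i => b (w i)) := ⟨F.uw, F.ubw, F.buw, F.bubw⟩

/-- `1 + nsum u bu` commutes with `b` -/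
theorem nsum_comm (B : BD Q b d) (v : V) :
    nsum Q u (fun i => b (u i)) (b v) = b (nsum Q u (fun i => b (u i)) v) := by
  rw [nsum, nsum, map_sum]
  refine Finset.sum_congr rfl fun i _ => ?_
  rw [map_add, map_smul, map_smul, B.bb, B.pmap, B.pl]
  module

end FF

/-- the twisted pair -/
theorem twist [FiniteDimensional K V] (hQ : Nondeg Q) [Nontrivial V] {a b : V ≃ₗ[K] V} {d : K}
    (B : BD Q b d) {k : ℕ}
    {u w : Fin k → V} (F : FF Q b u w) {i0 i1 : Fin k} (hi : i0 ≠ i1) (hab : PBad (E Q) a b)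
    (ha : ∀ v, a v = v + nsum Q u (fun i => if i = i1 then w i1 else b (u i)) v) : False := by
  set q : Fin k → V := fun i => if i = i1 then w i1 else b (u i) with hq
  have hqi : ∀ i, i ≠ i1 → q i = b (u i) := fun i h => if_neg h
  have hq1 : q i1 = w i1 := if_pos rfl
  have hi' : i1 ≠ i0 := Ne.symm hi
  -- the isometry
  have hX : Q (b (u i0) + u i1) = 0 := by rw [Q_add, F.Qb, F.Qu, F.buu]; simp
  have hY : Q (w i0 + b (w i1)) = 0 := by
    rw [Q_add, F.Qw, mem_O.1 B.mem, F.Qw, F.wbw]; simp
  have hXY : polar Q (b (u i0) + u i1) (w i0 + b (w i1)) = 0 := by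
    rw [polar_add_left, polar_add_right, polar_add_right, F.buw, F.bubw, F.uw, F.ubw, if_pos rfl,
      if_pos rfl, add_zero, zero_add]
    exact dbl K 1
  set g := siegel Q _ _ hX hXY with hg
  have hgE : g ∈ E Q := siegel_mem_E hX hXY
  have hga : ∀ v, g v = v + (polar Q (b (u i0)) v + polar Q (u i1) v) • (w i0 + b (w i1)) -
      (polar Q (w i0) v + polar Q (b (w i1)) v) • (b (u i0) + u i1) := by
    intro v
    rw [hg, siegel_apply, hY, zero_mul, zero_smul, sub_zero, polar_add_left, polar_add_left]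
  have hgu : ∀ i, g (u i) = if i = i1 then b (u i0) else u i := by
    intro i
    rw [hga, F.buu, F.uu, F.wu, F.bwu]
    by_cases h : i = i1
    · rw [if_pos h, if_pos h, h, add_zero, zero_smul, add_zero, zero_add, one_smul, sub' K, ← add_assoc,
        add_right_comm, dbl K, zero_add]
    · rw [if_neg h, if_neg h]; simp
  have hgq : ∀ i, g (q i) = if i = i0 then u i1 else q i := by
    intro i
    by_cases h : i = i1
    · rw [h, if_neg hi', hq1, hga, F.buw, F.uw, F.ww, F.bww, if_neg hi]
      simp only [_root_.add_zero, _root_.smul_add, _root_.zero_smul, _root_.sub_zero]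
    · rw [hqi i h, hga, F.bubu, F.ubu, F.wbu, F.bwbu]
      by_cases h' : i = i0
      · rw [if_pos h', if_pos h', h', add_zero, zero_smul, add_zero, add_zero, one_smul, sub' K,
          ← add_assoc, dbl K, zero_add]
      · rw [if_neg h', if_neg h']; simp
  have hginv : ∀ v, g (g⁻¹ v) = v := fun v => g.apply_symm_apply v
  -- the key
  obtain ⟨x, hx, ⟨c, hc0, hc⟩, e, he0, he⟩ := hab.key (g := g⁻¹) ((E Q).inv_mem hgE)
  have hc1 : c = 1 := scal_one hQ (f := fun v => a (x v)) (g := fun v => x (a v)) hc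
    (fun v => by rw [mem_O.1 (E_le_O hab.1), mem_O.1 (E_le_O hx)])
    (fun v => by rw [mem_O.1 (E_le_O hx), mem_O.1 (E_le_O hab.1)])
  have hnx : ∀ v, nsum Q u q (x v) = x (nsum Q u q v) := by
    intro v
    have h1 := hc v
    rw [hc1, one_smul, ha, ha, map_add] at h1
    exact add_left_cancel h1
  have hbg : ∀ v, b (g (x v)) = e • g (x (b v)) := by
    intro v
    have h1 := he v
    rw [inv_inv] at h1
    rw [← hginv (b (g (x v))), h1, map_smul]
  have hnu : nsum Q u q (b (u i1)) = u i1 := by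
    refine nsum_single i1 (fun i => F.buu _ _) fun i => ?_
    by_cases h : i = i1
    · rw [h, hq1, F.buw]
    · rw [hqi i h, F.bubu, if_neg h]
  -- the nilpotent map
  set p3 : Fin k → V := fun i => g (u i) with hp3
  set q3 : Fin k → V := fun i => g (q i) with hq3
  have hp3' : ∀ i, p3 i = if i = i1 then b (u i0) else u i := hgu
  have hq3' : ∀ i, q3 i = if i = i0 then u i1 else q i := hgq
  let T : V →ₗ[K] V := nL Q p3 q3 ∘ₗ b.toLinearMap
  have hT : ∀ v, T v = nsum Q p3 q3 (b v) := fun v => rfl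
  have hTy : T (g (x (u i1))) = e • g (x (u i1)) := by
    rw [hT, hbg, ← nL_apply, map_smul, nL_apply]
    have h1 := nsum_map (Q := Q) (p := u) (q := q) (E_le_O hgE) (x (b (u i1)))
    rw [← h1, hnx, hnu]
  -- products with the new families
  have b0 : ∀ i, nsum Q p3 q3 (b (u i)) = if i = i1 then b (u i0) else 0 := by
    intro i
    by_cases h : i = i1
    · rw [h, if_pos rfl]
      have h1 : nsum Q p3 q3 (b (u i1)) = p3 i1 := by
        refine nsum_single i1 (fun j => ?_) fun j => ?_
        · rw [hp3']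
          by_cases h' : j = i1
          · rw [if_pos h', F.bubu]
          · rw [if_neg h', F.buu]
        · rw [hq3']
          by_cases h' : j = i0
          · rw [if_pos h', F.buu, h', if_neg hi]
          · rw [if_neg h']
            by_cases h'' : j = i1
            · rw [h'', hq1, F.buw]
            · rw [hqi j h'', F.bubu, if_neg h'']
      rw [h1, hp3', if_pos rfl]
    · rw [if_neg h]
      refine nsum_zero (fun j => ?_) fun j => ?_
      · rw [hp3']
        by_cases h' : j = i1
        · rw [if_pos h', F.bubu]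
        · rw [if_neg h', F.buu]
      · rw [hq3']
        by_cases h' : j = i0
        · rw [if_pos h', F.buu]
        · rw [if_neg h']
          by_cases h'' : j = i1
          · rw [h'', hq1, F.buw, if_neg h]
          · rw [hqi j h'', F.bubu]
  have u0 : ∀ i, nsum Q p3 q3 (u i) = 0 := by
    intro i
    refine nsum_zero (fun j => ?_) fun j => ?_
    · rw [hp3']
      by_cases h' : j = i1
      · rw [if_pos h', F.ubu]
      · rw [if_neg h', F.uu]
    · rw [hq3']
      by_cases h' : j = i0
      · rw [if_pos h', F.uu]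
      · rw [if_neg h']
        by_cases h'' : j = i1
        · rw [h'', hq1, F.uw]
        · rw [hqi j h'', F.ubu]
  have bw1 : nsum Q p3 q3 (b (w i1)) = u i0 := by
    have h1 : nsum Q p3 q3 (b (w i1)) = p3 i0 := by
      refine nsum_single i0 (fun j => ?_) fun j => ?_
      · rw [hp3']
        by_cases h' : j = i1
        · rw [if_pos h', F.bwbu]
        · rw [if_neg h', F.bwu, if_neg h']
      · rw [hq3']
        by_cases h' : j = i0
        · rw [if_pos h', if_pos h', F.bwu, if_pos rfl]
        · rw [if_neg h', if_neg h']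
          by_cases h'' : j = i1
          · rw [h'', hq1, F.bww]
          · rw [hqi j h'', F.bwbu]
    rw [h1, hp3', if_neg hi]
  have Tu : ∀ i, T (u i) = if i = i1 then b (u i0) else 0 := fun i => by rw [hT, b0]
  have Tb : ∀ i, i ≠ i1 → T (b (u i)) = 0 := by
    intro i h
    rw [hT, B.bb, ← nL_apply, map_add, map_smul, nL_apply, nL_apply, b0, if_neg h, u0, smul_zero,
      add_zero]
  have Tw : T (w i1) = u i0 := by rw [hT, bw1]
  have TTp : ∀ i, T (T (p3 i)) = 0 := by
    intro i
    rw [hp3']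
    by_cases h : i = i1
    · rw [if_pos h, Tb i0 hi, map_zero]
    · rw [if_neg h, Tu, if_neg h, map_zero]
  have TTq : ∀ i, T (T (q3 i)) = 0 := by
    intro i
    rw [hq3']
    by_cases h : i = i0
    · rw [if_pos h, Tu, if_pos rfl, Tb i0 hi]
    · rw [if_neg h]
      by_cases h' : i = i1
      · rw [h', hq1, Tw, Tu, if_neg hi]
      · rw [hqi i h', Tb i h', map_zero]
  have TTT : ∀ v, T (T (T v)) = 0 := by
    intro v
    rw [hT v, nsum, map_sum, map_sum]
    refine Finset.sum_eq_zero fun i _ => ?_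
    rw [map_add, map_add, map_smul, map_smul, map_smul, map_smul, TTp, TTq, smul_zero, smul_zero,
      add_zero]
  have hfin := TTT (g (x (u i1)))
  rw [hTy, map_smul, hTy, map_smul, map_smul, hTy, smul_smul, smul_smul] at hfin
  rcases smul_eq_zero.1 hfin with h | h
  · exact mul_ne_zero (mul_ne_zero he0 he0) he0 h
  · rw [LinearEquiv.map_eq_zero_iff, LinearEquiv.map_eq_zero_iff] at h
    have := F.ubw i1 i1
    rw [h, polar_zero_left, if_pos rfl] at this
    exact zero_ne_one this

theorem a_form {a : V ≃ₗ[K] V} {g : V ≃ₗ[K] V} (hg : g ∈ O Q) {k : ℕ} {p q : Fin k → V}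
    (ha : ∀ v, a v = v + nsum Q p q v) (v : V) :
    (g * a * g⁻¹) v = v + nsum Q (fun i => g (p i)) (fun i => g (q i)) v := by
  have h1 : g (g⁻¹ v) = v := g.apply_symm_apply v
  have h2 : (g * a * g⁻¹) v = g (a (g⁻¹ v)) := rfl
  rw [h2, ha, map_add, nsum_map hg, h1]

theorem core [Finite K] [FiniteDimensional K V] (hQ : Nondeg Q) (hn : 8 ≤ finrank K V)
    {a b : V ≃ₗ[K] V} (hab : PBad (E Q) a b) {d : K} (ha : a ≠ 1) (hb : b ≠ 1) (hac : a * a = 1)
    (B : BD Q b d) (haQ : ∀ v, polar Q (a v) v = 0)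
    (hle : d = 0 → finrank K (LinearMap.range (a.toLinearMap + LinearMap.id)) ≤
      finrank K (LinearMap.range (b.toLinearMap + LinearMap.id))) : False := by
  have hG := Cfsg.Agent.LieClassical.OrthFinite.good_of_finite hQ (by omega)
  have hV : Nontrivial V := nontrivial_of_finrank_pos (by omega : 0 < finrank K V)
  have haO : a ∈ O Q := E_le_O hab.1
  have haa : ∀ v, a (a v) = v := fun v => by
    have := congrArg (fun S : V ≃ₗ[K] V => S v) hac
    exact this
  let s : V →ₗ[K] V := a.toLinearMap + LinearMap.id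
  have hs : ∀ v, s v = a v + v := fun v => rfl
  have hsalt : ∀ v, polar Q (s v) v = 0 := by
    intro v
    rw [hs, polar_add_left, haQ, pol_self, add_zero]
  obtain ⟨k, p, q, x, y, h1, h2, h3, h4⟩ := exists_decomp hQ _ s rfl hsalt
  have hrank := rank_eq h1 h2 h3 h4
  have haform : ∀ v, a v = v + nsum Q p q v := by
    intro v
    rw [← h1, hs, add_comm v, add_assoc, dbl K, add_zero]
  have hss : ∀ v, s (s v) = 0 := by
    intro v
    rw [hs, hs, map_add, haa, add_comm v, dbl K]
  have hQs : ∀ v, Q (s v) = 0 := by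
    intro v
    rw [hs, Q_add, mem_O.1 haO, haQ, add_zero]
    exact dbl K _
  have hss' : ∀ v w, polar Q (s v) (s w) = 0 := by
    intro v w
    rw [adj_of_alt hsalt, hss, polar_zero_right]
  have hts : TS Q p q := by
    refine ⟨fun i => ?_, fun i => ?_, fun i j => ?_, fun i j => ?_, fun i j => ?_⟩
    · obtain ⟨z, hz⟩ := h3 i; rw [← hz, hQs]
    · obtain ⟨z, hz⟩ := h4 i; rw [← hz, hQs]
    · obtain ⟨z, hz⟩ := h3 i; obtain ⟨z', hz'⟩ := h3 j; rw [← hz, ← hz', hss']
    · obtain ⟨z, hz⟩ := h3 i; obtain ⟨z', hz'⟩ := h4 j; rw [← hz, ← hz', hss']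
    · obtain ⟨z, hz⟩ := h4 i; obtain ⟨z', hz'⟩ := h4 j; rw [← hz, ← hz', hss']
  have hk4 : 4 * k ≤ finrank K V := by
    have h5 := LinearMap.finrank_range_add_finrank_ker s
    have h6 : LinearMap.range s ≤ LinearMap.ker s := by
      rintro _ ⟨v, rfl⟩
      exact hss v
    have h7 := Submodule.finrank_mono h6
    omega
  have I : Inv Q b ⊤ := ⟨fun _ _ => trivial, fun x _ h => hQ x fun y => h y trivial⟩
  obtain ⟨u, w, -, hF, hO⟩ := frames B k ⊤ I (fun _ => by rw [finrank_top]; exact hk4) (fun hd => by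
    rw [Submodule.map_top]
    have := hle hd
    have h8 : finrank K (LinearMap.range (a.toLinearMap + LinearMap.id)) = 2 * k := hrank
    omega)
  have F : FF Q b u w := FF.mk' B hF hO
  obtain ⟨g, hg, hgpq⟩ := exists_move hQ hts h2 F.ts F.du
  have hgp : (fun i => g (p i)) = u := funext fun i => (hgpq i).1
  have hgq : (fun i => g (q i)) = fun i => b (u i) := funext fun i => (hgpq i).2
  -- if `a` is conjugate in `E Q` to `1 + nsum u bu`
  have good : ∀ h : V ≃ₗ[K] V, h ∈ E Q →
      (∀ v, (h * a * h⁻¹) v = v + nsum Q u (fun i => b (u i)) v) → False := by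
    intro h hh hform
    have hab' := hab.conj_left hh
    refine comm_false hG hab' (fun h0 => ha ?_) hb fun v => ?_
    · rw [mul_inv_eq_one] at h0
      exact mul_left_cancel (h0.trans (mul_one h).symm)
    · rw [hform, hform, map_add, F.nsum_comm B]
  have hform : ∀ v, (g * a * g⁻¹) v = v + nsum Q u (fun i => b (u i)) v := by
    intro v
    rw [a_form hg haform, hgp, hgq]
  have hor : ∀ (z : V) (hz : Q z ≠ 0), refl Q z hz * g ∈ E Q := by
    intro z hz
    exact (O_or hG hz hg).resolve_left fun h => good g h hform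
  have hform' : ∀ (z : V) (hz : Q z ≠ 0) (v : V),
      (refl Q z hz * g * a * (refl Q z hz * g)⁻¹) v =
        v + nsum Q (fun i => refl Q z hz (u i)) (fun i => refl Q z hz (b (u i))) v := by
    intro z hz v
    have e : refl Q z hz * g * a * (refl Q z hz * g)⁻¹ =
        refl Q z hz * (g * a * g⁻¹) * (refl Q z hz)⁻¹ := by group
    rw [e, a_form (refl_mem_O hz) hform]
  have hfix : ∀ (z : V) (hz : Q z ≠ 0) (v : V), polar Q z v = 0 → refl Q z hz v = v := by
    intro z hz v h
    rw [refl_apply, h, mul_zero, zero_smul, sub_zero]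
  rcases Nat.lt_or_ge k 2 with hk | hk
  · -- at most one pair
    have : ∃ z, Q z ≠ 0 ∧ ∀ i, polar Q z (u i) = 0 ∧ polar Q z (b (u i)) = 0 := by
      obtain ⟨U, hU1, hU2, hU3⟩ : ∃ U : Submodule K V, (∀ x ∈ U, (∀ y ∈ U, polar Q x y = 0) → x = 0) ∧
          0 < finrank K U ∧ ∀ z ∈ U, ∀ i, polar Q z (u i) = 0 ∧ polar Q z (b (u i)) = 0 := by
        interval_cases k
        · exact ⟨⊤, I.nd, by rw [finrank_top]; omega, fun z _ i => i.elim0⟩
        · refine ⟨comp Q b ⊤ (u 0) (w 0), (inv_comp B I trivial trivial (hF 0)).nd, ?_, ?_⟩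
          · have := finrank_comp (Q := Q) b ⊤ (u 0) (w 0)
            rw [finrank_top] at this
            omega
          · intro z hz i
            rw [mem_comp] at hz
            have hi : i = 0 := Subsingleton.elim _ _
            rw [hi, polar_comm Q z, polar_comm Q z]
            exact ⟨hz.2.1, hz.2.2.1⟩
      have hne : U ≠ ⊥ := by
        rintro rfl
        rw [finrank_bot] at hU2
        exact lt_irrefl _ hU2
      obtain ⟨x0, hx0, hx00⟩ := U.ne_bot_iff.1 hne
      have : ∃ z ∈ U, Q z ≠ 0 := by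
        by_contra hcon
        push Not at hcon
        refine hx00 (hU1 x0 hx0 fun y hy => ?_)
        rw [polar, hcon _ (U.add_mem hx0 hy), hcon _ hx0, hcon _ hy]
        simp
      obtain ⟨z, hz, hQz⟩ := this
      exact ⟨z, hQz, hU3 z hz⟩
    obtain ⟨z, hz, hzu⟩ := this
    refine good _ (hor z hz) fun v => ?_
    rw [hform']
    congr 2
    · funext i
      exact hfix z hz _ (hzu i).1
    · funext i
      exact hfix z hz _ (hzu i).2
  · let i0 : Fin k := ⟨0, by omega⟩
    let i1 : Fin k := ⟨1, by omega⟩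
    have hi : i0 ≠ i1 := by
      intro h
      have h' : (0 : ℕ) = 1 := congrArg Fin.val h
      exact absurd h' (by decide)
    have hQz : Q (b (u i1) + w i1) = 1 := by
      rw [Q_add, F.Qb, F.Qw, F.buw, if_pos rfl, add_zero, zero_add]
    have hz : Q (b (u i1) + w i1) ≠ 0 := by rw [hQz]; exact one_ne_zero
    have hab' := hab.conj_left (hor _ hz)
    refine twist hQ B F hi hab' fun v => ?_
    rw [hform']
    congr 2
    · funext i
      apply hfix
      rw [polar_add_left, F.buu, F.wu, add_zero]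
    · funext i
      by_cases h : i = i1
      · rw [h, if_pos rfl, refl_apply, hQz, inv_one, one_mul, polar_add_left, F.bubu, F.wbu, if_pos rfl,
          zero_add, one_smul, sub' K, ← add_assoc, dbl K, zero_add]
      · rw [if_neg h]
        apply hfix
        rw [polar_add_left, F.bubu, F.wbu, if_neg h, add_zero]

/-- **Lemma E4a.** -/
theorem e4a [Finite K] [FiniteDimensional K V] {Q : QuadraticForm K V} (hQ : Nondeg Q)
    (hn : 8 ≤ finrank K V) {a b : V ≃ₗ[K] V} (hab : PBad (E Q) a b) {d : K} (ha : a ≠ 1) (hb : b ≠ 1)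
    (hac : a * a = 1) (hbd : ∀ v, b v + b⁻¹ v = d • v) (haQ : ∀ v, polar Q (a v) v = 0)
    (hbQ : ∀ v, polar Q (b v) v = d * Q v) : False := by
  have hV : Nontrivial V := nontrivial_of_finrank_pos (by omega : 0 < finrank K V)
  have B : BD Q b d := ⟨E_le_O hab.2.1, hbd, hbQ⟩
  by_cases hd : d = 0
  · subst hd
    rcases le_total (finrank K (LinearMap.range (a.toLinearMap + LinearMap.id)))
      (finrank K (LinearMap.range (b.toLinearMap + LinearMap.id))) with h | h
    · exact core hQ hn hab ha hb hac B haQ fun _ => h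
    · have hbb : b * b = 1 := by
        ext v
        change b (b v) = v
        rw [B.bb, zero_smul, zero_add]
      have hai : a⁻¹ = a := inv_eq_of_mul_eq_one_left hac
      have A : BD Q a 0 := by
        refine ⟨E_le_O hab.1, fun v => ?_, fun v => ?_⟩
        · rw [hai, zero_smul, dbl K]
        · rw [haQ, zero_mul]
      exact core hQ hn hab.symm hb ha hbb A (fun v => by rw [hbQ, zero_mul]) fun _ => h
  · exact core hQ hn hab ha hb hac B haQ fun h => absurd h hd

end Cfsg.Agent.H411.Sz
end

-- part: H316/Sz/E2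
section
/-!
# Products of two centralizers in orthogonal groups of even characteristic: the case E2 of S2273 (helper316)
-/

set_option autoImplicit false
set_option linter.unusedVariables false

namespace Cfsg.Agent.H316.Sz

open Module QuadraticMap Cfsg.Agent.LieClassical.OrthCore Cfsg.Agent.LieClassical.OrthTrans
open Cfsg.Agent.LieClassical.OrthFinite Cfsg.Agent.H105.Sz Cfsg.Agent.H105.SzO

variable {K V : Type*} [Field K] [AddCommGroup V] [Module K V] {Q : QuadraticForm K V}

theorem eq_of_sq (h2 : (2 : K) = 0) {x y : K} (h : x ^ 2 = y ^ 2) : x = y := by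
  have h1 : (x - y) ^ 2 = 0 := by linear_combination h + (y ^ 2 - x * y) * h2
  exact sub_eq_zero.1 (pow_eq_zero_iff (two_ne_zero)|>.1 h1)

/-- the centraliser of `b` fixes `f` -/
theorem fix_of_comm (hQ : Nondeg Q) (h2 : (2 : K) = 0) {b x : V ≃ₗ[K] V} (hx : x ∈ O Q) {d : K} {f : V}
    (hbQ : ∀ v, polar Q (b v) v = d * Q v + (polar Q v f) ^ 2) (hxb : ∀ v, b (x v) = x (b v)) : x f = f := by
  have h1 : ∀ w, polar Q (x w) f = polar Q (x w) (x f) := by
    intro w
    apply eq_of_sq h2
    have h3 := hbQ (x w)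
    rw [hxb, polar_map hx, hbQ w, mem_O.1 hx] at h3
    rw [polar_map hx]
    linear_combination -h3
  have h3 : x f - f = 0 := by
    apply hQ
    intro v
    have h4 := h1 (x.symm v)
    rw [x.apply_symm_apply] at h4
    rw [polar_comm, polar_sub_right, h4, sub_self]
  exact sub_eq_zero.1 h3

/-- the inner products of `e` with the conjugates of `f` are not constant -/
theorem false_of_const [Finite K] [FiniteDimensional K V] (hQ : Nondeg Q) (hd : 5 ≤ finrank K V) {e f : V}
    (he : e ≠ 0) (hf : f ≠ 0) (h : ∀ g ∈ E Q, polar Q e (g f) = polar Q e f) : False := by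
  have hG := good_of_finite hQ hd
  have key : ∀ u y : V, Q u = 0 → polar Q u y = 0 →
      polar Q u f * polar Q e y - polar Q y f * polar Q e u - Q y * polar Q u f * polar Q e u = 0 := by
    intro u y hu huy
    have h1 := h _ (siegel_mem_E hu huy)
    rw [siegel_apply, polar_sub_right, polar_sub_right, polar_add_right, polar_smul_right, polar_smul_right,
      polar_smul_right, smul_eq_mul, smul_eq_mul, smul_eq_mul] at h1
    linear_combination h1
  have step1 : ∀ u : V, Q u = 0 → polar Q u f ≠ 0 → polar Q e u = 0 := by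
    intro u hu huf
    by_contra heu
    have hu0 : u ≠ 0 := by
      rintro rfl
      exact huf (polar_zero_left Q _)
    obtain ⟨u', hu'⟩ := LieClassical.OrthTrans.exists_hyp hQ hu hu0
    obtain ⟨z, w, hzw, h1, h2, h3, h4⟩ := hG.exists_hyp2 hu'
    have e1 := key u z hu h1
    have e2 := key u w hu h2
    have e3 := key u (z + w) hu (by rw [polar_add_right, h1, h2, add_zero])
    rw [polar_add_right, polar_add_left, Q_add, hzw.pair] at e3
    have e4 : polar Q u f * polar Q e u = 0 := by linear_combination e1 + e2 - e3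
    exact (mul_ne_zero huf heu) e4
  have step2 : ∀ u : V, Q u = 0 → polar Q u f ≠ 0 → ∃ c : K, e = c • u := by
    intro u hu huf
    by_contra hcon
    push Not at hcon
    obtain ⟨y, hy1, hy2⟩ := LieClassical.OrthTrans.exists_sep hQ hcon
    have h1 := key u y hu hy1
    rw [step1 u hu huf, hy2, mul_zero, mul_zero, mul_one, sub_zero, sub_zero] at h1
    exact huf h1
  obtain ⟨u, hu, huf⟩ : ∃ u, Q u = 0 ∧ polar Q u f ≠ 0 := by
    by_contra hcon
    push Not at hcon
    apply hf
    apply hQ
    intro y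
    have h1 : y ∈ Submodule.span K {v | Q v = 0} := top_le_span_sing hQ hd trivial
    have h2 : Submodule.span K {v | Q v = 0} ≤ LinearMap.ker (polarBilin Q f) := by
      rw [Submodule.span_le]
      intro v hv
      have h3 := hcon v hv
      rw [polar_comm] at h3
      exact h3
    exact h2 h1
  obtain ⟨c, hc⟩ := step2 u hu huf
  have hc0 : c ≠ 0 := by
    rintro rfl
    exact he (by rw [hc, zero_smul])
  have hQe : Q e = 0 := by rw [hc, QuadraticMap.map_smul, hu, smul_zero]
  have hef : polar Q e f ≠ 0 := by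
    rw [hc, polar_smul_left, smul_eq_mul]
    exact mul_ne_zero hc0 huf
  obtain ⟨z, hz, hQz, hez⟩ := exists_sing_notMem (Q := Q) ![e] (Submodule.span K {e})
    (by rw [finrank_span_singleton he]; omega)
  have hez : polar Q e z = 0 := hez 0
  have hzf : polar Q z f = 0 := by
    by_contra hzf
    obtain ⟨c', hc'⟩ := step2 z hQz hzf
    apply hz
    have hc0' : c' ≠ 0 := by
      rintro rfl
      exact he (by rw [hc', zero_smul])
    exact Submodule.mem_span_singleton.2 ⟨c'⁻¹, by rw [hc', inv_smul_smul₀ hc0']⟩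
  obtain ⟨c', hc'⟩ := step2 (e + z) (by rw [Q_add, hQe, hQz, hez]; ring) (by
    rw [polar_add_left, hzf, add_zero]; exact hef)
  have hc0' : c' ≠ 0 := by
    rintro rfl
    exact he (by rw [hc', zero_smul])
  apply hz
  refine Submodule.mem_span_singleton.2 ⟨c'⁻¹ - 1, ?_⟩
  rw [sub_smul, one_smul]
  have h5 : c'⁻¹ • e = e + z := by
    nth_rewrite 1 [hc']
    rw [inv_smul_smul₀ hc0']
  rw [h5]
  abel

/-- **E2.** -/
theorem e2 [Finite K] [CharP K 2] [FiniteDimensional K V] (hQ : Nondeg Q) (hn : 8 ≤ finrank K V)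
    {a b : V ≃ₗ[K] V} (hab : PBad (E Q) a b) {c d : K} (hac : ∀ v, a v + a⁻¹ v = c • v)
    (hbd : ∀ v, b v + b⁻¹ v = d • v) {e f : V} (he : e ≠ 0) (hf : f ≠ 0)
    (haQ : ∀ v, polar Q (a v) v = c * Q v + (polar Q v e) ^ 2)
    (hbQ : ∀ v, polar Q (b v) v = d * Q v + (polar Q v f) ^ 2) : False := by
  have hne : Nontrivial V := Module.nontrivial_of_finrank_pos (R := K) (by omega)
  have h2 : (2 : K) = 0 := CharTwo.two_eq_zero
  refine false_of_const hQ (by omega) he hf fun g hg => ?_
  obtain ⟨x, hx, y, hy, rfl, hxa, hyb⟩ := hab.2.2 g hg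
  have hxe := fix_of_comm hQ h2 (E_le_O hx) haQ (scomm_two hQ h2 (E_le_O hx) (E_le_O hab.1) hxa)
  have hyf := fix_of_comm hQ h2 (E_le_O hy) hbQ (scomm_two hQ h2 (E_le_O hy) (E_le_O hab.2.1) hyb)
  change polar Q e (x (y f)) = _
  rw [hyf]
  nth_rewrite 1 [← hxe]
  rw [polar_map (E_le_O hx)]

end Cfsg.Agent.H316.Sz
end

-- part: H316/Sz/E3
section
/-!
# Products of two centralizers in orthogonal groups of even characteristic: the case E3 of S2273 (helper316)
-/

set_option autoImplicit false
set_option linter.unusedVariables false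

namespace Cfsg.Agent.H316.Sz

open Module QuadraticMap Cfsg.Agent.LieClassical.OrthCore Cfsg.Agent.LieClassical.OrthTrans
open Cfsg.Agent.LieClassical.OrthFinite Cfsg.Agent.H105.Sz Cfsg.Agent.H105.SzO Cfsg.Agent.H955
open Cfsg.Agent.H141.SpinFacts (rk rk_add fixd mem_fixd even_rk even_rk_of_mem rk_refl even_rk_of_sing)

variable {K V : Type*} [Field K] [AddCommGroup V] [Module K V] {Q : QuadraticForm K V}

section Inv

variable [FiniteDimensional K V] (hQ : Nondeg Q) (h2 : (2 : K) = 0)

include h2 in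
omit [FiniteDimensional K V] in
theorem neg_eq (v : V) : -v = v := by
  rw [← neg_one_smul K]
  have : (-1 : K) = 1 := by linear_combination -h2
  rw [this, one_smul]

include hQ h2 in
/-- an element of `E` with form `(bv,v) = (v,e)²` fixing `e ≠ 0` has `Q e = 0` -/
theorem sing_of_mem [Finite K] (hn : 5 ≤ finrank K V) {b : V ≃ₗ[K] V} (hb : b ∈ E Q) {e : V} (he : e ≠ 0)
    (hbe : b e = e) (hbb : ∀ v, b (b v) = v) (hbQ : ∀ v, polar Q (b v) v = (polar Q v e) ^ 2)
    {x : V} (hx : b x - x = e) : Q e = 0 := by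
  by_contra hQe
  have hbO := E_le_O hb
  have hneg := neg_eq (V := V) h2
  -- `Q e = (x, e)²` and `(x, e) = Q e`
  have h3 : polar Q x e = (polar Q x e) ^ 2 := by
    nth_rewrite 1 [← hx]
    rw [polar_sub_right, polar_comm Q x (b x), hbQ, polar_self', h2, zero_mul, sub_zero]
  have h4 : Q e = (polar Q x e) ^ 2 := by
    have h5 := mem_O.1 hbO x
    have h6 : b x = x + e := by rw [← hx]; abel
    rw [h6, Q_add] at h5
    linear_combination h5 - (polar Q x e) * h2 + h3
  have h5 : polar Q x e = 1 := by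
    have h6 : polar Q x e ≠ 0 := by
      intro h6
      rw [h6] at h4
      exact hQe (by rw [h4]; ring)
    have h7 : polar Q x e * (polar Q x e - 1) = 0 := by linear_combination -h3
    exact sub_eq_zero.1 ((mul_eq_zero.1 h7).resolve_left h6)
  have h6 : Q e = 1 := by rw [h4, h5, one_pow]
  -- parity
  have hG := good_of_finite hQ hn
  have hev : Even (rk b) := even_rk_of_mem h2 hQ (by rw [hG.commutator_eq_E]; exact hb)
  have hr : rk (refl Q e hQe) = 1 := rk_refl hQ hQe
  have hbr : Even (rk (b * refl Q e hQe)) := by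
    refine even_rk_of_sing hQ ((O Q).mul_mem hbO (refl_mem_O hQe)) fun v => ?_
    have e1 : (b * refl Q e hQe) v = b v + polar Q e v • e := by
      change b (refl Q e hQe v) = _
      rw [refl_apply, h6, inv_one, one_mul, map_sub, map_smul, hbe, sub_eq_add_neg, hneg]
    have e2 : Q (b v + polar Q e v • e) = Q v := by
      rw [← e1]
      exact mem_O.1 ((O Q).mul_mem hbO (refl_mem_O hQe)) v
    rw [e1, sub_eq_add_neg, hneg, Q_add, e2, polar_add_left, hbQ, polar_smul_left, smul_eq_mul, polar_comm Q v e]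
    linear_combination (Q v + polar Q e v ^ 2) * h2
  have := even_rk h2 hQ hbO (refl_mem_O hQe)
  rw [hr] at this
  rw [Nat.even_iff] at this hev hbr
  omega

end Inv

/-- **E3.** -/
theorem e3 [Finite K] [CharP K 2] [FiniteDimensional K V] (hQ : Nondeg Q) (hn : 8 ≤ finrank K V)
    {a b : V ≃ₗ[K] V} (hab : PBad (E Q) a b) {c d : K} (ha : a ≠ 1) (hac : ∀ v, a v + a⁻¹ v = c • v)
    (hbd : ∀ v, b v + b⁻¹ v = d • v) {e : V} (he : e ≠ 0)
    (haQ : ∀ v, polar Q (a v) v = c * Q v)
    (hbQ : ∀ v, polar Q (b v) v = d * Q v + (polar Q v e) ^ 2) : False := by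
  have hne : Nontrivial V := Module.nontrivial_of_finrank_pos (R := K) (by omega)
  have h2 : (2 : K) = 0 := CharTwo.two_eq_zero
  have hneg := neg_eq (V := V) h2
  have hbO : b ∈ O Q := E_le_O hab.2.1
  have haO : a ∈ O Q := E_le_O hab.1
  have hG := good_of_finite hQ (by omega : 5 ≤ finrank K V)
  have hbi : ∀ v, b (b⁻¹ v) = v := fun v => b.apply_symm_apply v
  have hib : ∀ v, b⁻¹ (b v) = v := fun v => b.symm_apply_apply v
  -- `b e = e`
  have hbe : b e = e := fix_of_comm hQ h2 hbO hbQ fun v => rfl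
  have hbe' : b⁻¹ e = e := by
    nth_rewrite 1 [← hbe]
    rw [hib]
  -- `d = 0`
  have hd0 : d = 0 := by
    have h3 := hbd e
    rw [hbe, hbe'] at h3
    have h4 : d • e = 0 := by
      rw [← h3]
      nth_rewrite 1 [← hneg e]
      rw [neg_add_cancel]
    exact (smul_eq_zero.1 h4).resolve_right he
  subst hd0
  have hbQ' : ∀ v, polar Q (b v) v = (polar Q v e) ^ 2 := fun v => by rw [hbQ, zero_mul, zero_add]
  have hbb : ∀ v, b (b v) = v := by
    intro v
    have h3 := hbd v
    rw [zero_smul] at h3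
    have h4 : b v = b⁻¹ v := by
      rw [← hneg (b⁻¹ v)]
      exact eq_neg_of_add_eq_zero_left h3
    rw [h4, hbi]
  -- the fixed space of `b`
  have hker : ∀ v ∈ fixd b, polar Q v e = 0 := by
    intro v hv
    rw [mem_fixd] at hv
    have h3 := hbQ' v
    rw [hv, polar_self', h2, zero_mul] at h3
    exact pow_eq_zero_iff (two_ne_zero) |>.1 h3.symm
  have hsa : ∀ v w, polar Q (b v) w = polar Q v (b w) := by
    intro v w
    have h3 := polar_map hbO (b v) w
    rw [hbb] at h3
    exact h3.symm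
  -- `im (b - 1) = (fixd b)^⊥`
  let s : V →ₗ[K] V := (b : V →ₗ[K] V) - 1
  have hs : ∀ v, s v = b v - v := fun v => rfl
  have hrange : LinearMap.range s = perp Q (fixd b) := by
    apply Submodule.eq_of_le_of_finrank_eq
    · rintro _ ⟨v, rfl⟩
      rw [mem_perp]
      intro w hw
      rw [hs, polar_sub_right, ← hsa, (mem_fixd b w).1 hw, sub_self]
    · have h3 := finrank_add_perp hQ (fixd b)
      have h4 := rk_add b
      have h5 : finrank K (LinearMap.range s) = rk b := rfl
      omega
  obtain ⟨x, hx⟩ : e ∈ LinearMap.range s := by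
    rw [hrange, mem_perp]
    exact hker
  rw [hs] at hx
  have hQe : Q e = 0 := sing_of_mem hQ h2 (by omega) hab.2.1 he hbe hbb hbQ' hx
  -- the rank of `b - 1`
  have hrk2 : 2 ≤ rk b := by
    have hev : Even (rk b) := even_rk_of_mem h2 hQ (by rw [hG.commutator_eq_E]; exact hab.2.1)
    have h3 : rk b ≠ 0 := by
      intro h3
      have h4 : LinearMap.range s = ⊥ := Submodule.finrank_eq_zero.1 h3
      have h5 : e ∈ LinearMap.range s := ⟨x, by rw [hs]; exact hx⟩
      rw [h4, Submodule.mem_bot] at h5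
      exact he h5
    obtain ⟨k, hk⟩ := hev
    omega
  have hfix : finrank K V ≤ 2 * finrank K (fixd b) := by
    have h3 : LinearMap.range s ≤ fixd b := by
      rintro _ ⟨v, rfl⟩
      rw [mem_fixd, hs, map_sub, hbb, ← hneg (b v - v), neg_sub]
    have h4 := Submodule.finrank_mono h3
    have h5 := rk_add b
    have h6 : finrank K (LinearMap.range s) = rk b := rfl
    omega
  -- a conjugate of `a` moving `⟨e⟩`
  have hna : ¬ Scalar a := by
    rintro ⟨c0, hc0⟩
    apply ha
    obtain ⟨v0, hv0⟩ := exists_nonsing' hQ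
    have h3 := mem_O.1 haO v0
    rw [hc0, QuadraticMap.map_smul, smul_eq_mul] at h3
    have h4 : (c0 * c0 - 1) * Q v0 = 0 := by linear_combination h3
    have h5 : c0 ^ 2 = 1 ^ 2 := by
      have := (mul_eq_zero.1 h4).resolve_right hv0
      linear_combination this
    have h6 := eq_of_sq h2 h5
    ext v
    rw [hc0, h6, one_smul]
    rfl
  obtain ⟨u, hu, hu0, hmv⟩ := exists_moved hQ (by omega) hna
  obtain ⟨k, hk, hku⟩ := hG.trans_sing hu hQe hu0 he
  set a' := k * a * k⁻¹ with ha'
  have hki : ∀ v, k (k⁻¹ v) = v := fun v => k.apply_symm_apply v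
  have hik : ∀ v, k⁻¹ (k v) = v := fun v => k.symm_apply_apply v
  have ha'v : ∀ v, a' v = k (a (k⁻¹ v)) := fun v => rfl
  have hab' : PBad (E Q) a' b := hab.conj_left hk
  have ha'O : a' ∈ O Q := E_le_O hab'.1
  have ha'Q : ∀ v, polar Q (a' v) v = c * Q v := by
    intro v
    rw [ha'v]
    nth_rewrite 2 [← hki v]
    rw [polar_map (E_le_O hk), haQ, mem_O.1 ((O Q).inv_mem (E_le_O hk))]
  set f := a' e with hf
  have hQf : Q f = 0 := by rw [hf, mem_O.1 ha'O, hQe]
  have hef : polar Q e f = 0 := by rw [polar_comm, hf, ha'Q, hQe, mul_zero]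
  have hfe : ∀ c0 : K, f ≠ c0 • e := by
    intro c0 h3
    apply hmv c0
    apply k.injective
    rw [map_smul, hku, ← h3, hf, ha'v, ← hku, hik]
  have hef2 := indep_of_not he hfe
  -- all singular vectors orthogonal to `e` are alike
  have alike : ∀ f' : V, Q f' = 0 → polar Q e f' = 0 → (∀ c0 : K, f' ≠ c0 • e) → (b f' = f' ↔ b f = f) := by
    intro f' hQf' hef' hfe'
    obtain ⟨g, hg, hge, hgf⟩ := trans_pair hQ (by omega) hQe hQf hef hef2 hQe hQf' hef' (indep_of_not he hfe')
    obtain ⟨x, hx, h3, h4⟩ := key_two hQ h2 hab'.symm hg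
    have hxe : x e = e := fix_of_comm hQ h2 (E_le_O hx) hbQ h3
    have hge' : g⁻¹ e = e := by
      nth_rewrite 1 [← hge]
      exact g.symm_apply_apply e
    have h5 : f' = x f := by
      have h6 := h4 e
      rw [hxe, hge', ← hf, hgf] at h6
      exact h6
    rw [h5, h3]
    exact x.injective.eq_iff
  by_cases hbf : b f = f
  · -- all singular vectors of `e^⊥` are fixed
    have h3 : perp Q (Submodule.span K {e}) ≤ fixd b := by
      refine (perp_le_span hQ (by omega) hQe he).trans ?_
      rw [Submodule.span_le]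
      rintro v ⟨hv, hQv⟩
      show v ∈ fixd b
      rw [mem_fixd]
      by_cases hve : ∃ c0 : K, v = c0 • e
      · obtain ⟨c0, rfl⟩ := hve
        rw [map_smul, hbe]
      · push Not at hve
        exact (alike v hQv (hv e (Submodule.mem_span_singleton_self e)) hve).2 hbf
    have h4 := Submodule.finrank_mono h3
    have h5 := finrank_add_perp hQ (Submodule.span K {e})
    rw [finrank_span_singleton he] at h5
    have h6 := rk_add b
    omega
  · -- a fixed singular vector
    obtain ⟨C, hC, hCU, hCU', hfr⟩ := exists_rel_compl (U := fixd b ⊓ Submodule.span K {e}) (W := fixd b) inf_le_left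
    have h3 : finrank K (fixd b ⊓ Submodule.span K {e} : Submodule K V) ≤ 1 := by
      rw [← finrank_span_singleton (K := K) he]
      exact Submodule.finrank_mono inf_le_right
    obtain ⟨w, hw, hw0, hQw⟩ := exists_sing_mem (Q := Q) C (by omega)
    have hwf := hC hw
    refine hbf ((alike w hQw (by rw [polar_comm]; exact hker w hwf) ?_).1 ((mem_fixd b w).1 hwf))
    rintro c0 rfl
    apply hw0
    have h5 : c0 • e ∈ C ⊓ (fixd b ⊓ Submodule.span K {e}) :=
      ⟨hw, hwf, Submodule.smul_mem _ _ (Submodule.mem_span_singleton_self e)⟩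
    rwa [hCU, Submodule.mem_bot] at h5

end Cfsg.Agent.H316.Sz
end

-- part: H105/SzO8
section
/-!
# Products of two centralizers in orthogonal groups, part 8: even characteristic, conclusion
-/

set_option autoImplicit false

namespace Cfsg.Agent.H105.SzO

open Module QuadraticMap Cfsg.Agent.LieClassical.OrthCore Cfsg.Agent.LieClassical.OrthTrans
open Cfsg.Agent.LieClassical.OrthFinite Cfsg.Agent.H955 Cfsg.Agent.H105.Sz

universe u v

variable {K : Type u} [Field K] [Finite K] {V : Type v} [AddCommGroup V] [Module K V]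
  [FiniteDimensional K V] {Q : QuadraticForm K V}

theorem even_false [CharP K 2] (hQ : Nondeg Q) (hd : 8 ≤ finrank K V) {a b : V ≃ₗ[K] V}
    (hab : PBad (E Q) a b) (ha : ¬ Scalar a) (hb : ¬ Scalar b) : False := by
  have hne : Nontrivial V := Module.nontrivial_of_finrank_pos (R := K) (by omega)
  have h1 : ∀ a : V ≃ₗ[K] V, ¬ Scalar a → a ≠ 1 := by
    rintro _ ha rfl
    exact ha ⟨1, fun v => by rw [one_smul]; rfl⟩
  -- a square of an element inverting to itself
  have h3 : ∀ a : V ≃ₗ[K] V, (∀ v, a v + a⁻¹ v = (0 : K) • v) → a * a = 1 := by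
    intro a ha
    refine LinearEquiv.ext fun v => ?_
    have h4 := ha (a v)
    have h5 : a⁻¹ (a v) = v := a.symm_apply_apply v
    rw [h5, zero_smul] at h4
    have h6 : v + v = 0 := by
      rw [← two_smul K, CharTwo.two_eq_zero, zero_smul]
    change a (a v) = v
    rw [eq_neg_of_add_eq_zero_left h4, neg_eq_iff_add_eq_zero]
    exact h6
  have hs : ∀ (c : K) (v e : V), e = 0 → c * Q v + (polar Q v e) ^ 2 = c * Q v := by
    intro c v e he
    rw [he, polar_zero_right]
    ring
  obtain ⟨c, e, hac, haQ⟩ := e1 hQ hd hab hb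
  obtain ⟨d, f, hbd, hbQ⟩ := e1 hQ hd hab.symm ha
  by_cases he : e = 0
  · have haQ' : ∀ v, polar Q (a v) v = c * Q v := fun v => by rw [haQ, hs c v e he]
    by_cases hf : f = 0
    · have hbQ' : ∀ v, polar Q (b v) v = d * Q v := fun v => by rw [hbQ, hs d v f hf]
      by_cases hc : c = 0
      · subst hc
        exact Cfsg.Agent.H411.Sz.e4a hQ hd hab (h1 a ha) (h1 b hb) (h3 a hac) hbd
          (fun v => by rw [haQ', zero_mul]) hbQ'
      · by_cases hd' : d = 0
        · subst hd'
          exact Cfsg.Agent.H411.Sz.e4a hQ hd hab.symm (h1 b hb) (h1 a ha) (h3 b hbd) hac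
            (fun v => by rw [hbQ', zero_mul]) haQ'
        · exact Cfsg.Agent.H508.Sz.e4b hQ hd hab hc hd' hac hbd haQ' hbQ'
    · exact Cfsg.Agent.H316.Sz.e3 hQ hd hab (h1 a ha) hac hbd hf haQ' hbQ
  · by_cases hf : f = 0
    · have hbQ' : ∀ v, polar Q (b v) v = d * Q v := fun v => by rw [hbQ, hs d v f hf]
      exact Cfsg.Agent.H316.Sz.e3 hQ hd hab.symm (h1 b hb) hbd hac he hbQ' haQ
    · exact Cfsg.Agent.H316.Sz.e2 hQ hd hab hac hbd he hf haQ hbQ

end Cfsg.Agent.H105.SzO
end

-- part: H105/SzO10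
section
/-!
# Products of two centralizers in orthogonal groups, part 10: odd characteristic, `b` is minus a
reflection
-/

set_option autoImplicit false

namespace Cfsg.Agent.H105.SzO

open Module QuadraticMap Cfsg.Agent.LieClassical.OrthCore Cfsg.Agent.LieClassical.OrthTrans
open Cfsg.Agent.LieClassical.OrthFinite Cfsg.Agent.H955 Cfsg.Agent.H105.Sz
open Cfsg.Agent.H141.SpinFacts Cfsg.Agent.H160.QSpin

universe u v w

section Lin

variable {K : Type u} [Field K] {V : Type v} [AddCommGroup V] [Module K V]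
  {Q : QuadraticForm K V} [FiniteDimensional K V]

/-- in odd dimension no automorphism is conjugate to its negative. -/
theorem no_sign_of_odd (h2 : (2 : K) ≠ 0) (hodd : Odd (finrank K V)) {a x : V ≃ₗ[K] V} {b : V ≃ₗ[K] V}
    (hdet : LinearMap.det (a : V →ₗ[K] V) = LinearMap.det (b : V →ₗ[K] V))
    (h : ∀ v, a (x v) = -x (b v)) : False := by
  have e : (a : V →ₗ[K] V) * (x : V →ₗ[K] V) = (-1 : K) • ((x : V →ₗ[K] V) * (b : V →ₗ[K] V)) := by
    ext v
    change a (x v) = (-1 : K) • x (b v)
    rw [h, neg_smul, one_smul]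
  have e1 := congrArg LinearMap.det e
  rw [map_mul, LinearMap.det_smul, map_mul, hodd.neg_one_pow, hdet] at e1
  have hb : LinearMap.det (b : V →ₗ[K] V) ≠ 0 := (LinearEquiv.isUnit_det' b).ne_zero
  have hx : LinearMap.det (x : V →ₗ[K] V) ≠ 0 := (LinearEquiv.isUnit_det' x).ne_zero
  have e2 : (2 : K) * (LinearMap.det (b : V →ₗ[K] V) * LinearMap.det (x : V →ₗ[K] V)) = 0 := by
    linear_combination e1
  rcases mul_eq_zero.1 e2 with h | h
  · exact h2 h
  · exact mul_ne_zero hb hx h

/-- a skew map has even rank. -/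
theorem even_rank_skew (h2 : (2 : K) ≠ 0) (hQ : Nondeg Q) {T : V →ₗ[K] V}
    (hT : ∀ x y, polar Q (T x) y = -polar Q x (T y)) : Even (finrank K (LinearMap.range T)) := by
  let β : LinearMap.BilinForm K V := (polarBilin Q) ∘ₗ T
  have hβ : ∀ x y, β x y = polar Q (T x) y := fun _ _ => rfl
  have halt : β.IsAlt := by
    intro x
    rw [hβ]
    have h3 := hT x x
    rw [polar_comm Q x] at h3
    have h4 : 2 * polar Q (T x) x = 0 := by linear_combination h3
    exact (mul_eq_zero.1 h4).resolve_left h2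
  have hinj : Function.Injective (polarBilin Q : V →ₗ[K] (V →ₗ[K] K)) := by
    rw [← LinearMap.ker_eq_bot, Submodule.eq_bot_iff]
    intro x hx
    exact hQ x (fun y => by
      have : (polarBilin Q x) y = 0 := by rw [LinearMap.mem_ker.1 hx]; rfl
      exact this)
  have h3 := Cfsg.Agent.H174.even_finrank_range_of_isAlt β halt
  have h4 : LinearMap.range β = (LinearMap.range T).map (polarBilin Q) := LinearMap.range_comp _ _
  rw [h4] at h3
  have h5 : finrank K ((LinearMap.range T).map (polarBilin Q : V →ₗ[K] (V →ₗ[K] K))) =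
      finrank K (LinearMap.range T) :=
    ((LinearMap.range T).equivMapOfInjective _ hinj).symm.finrank_eq
  rw [h5] at h3
  exact h3

/-- a skew isometry in odd dimension is `±(1+s)`. -/
theorem exists_unip (h2 : (2 : K) ≠ 0) (hQ : Nondeg Q) (hodd : Odd (finrank K V)) {a : V ≃ₗ[K] V}
    (ha : a ∈ O Q) {c : K} (hc : ∀ v, a v + a⁻¹ v = c • v) :
    ∃ l : K, l * l = 1 ∧ c = 2 * l := by
  let T : V →ₗ[K] V := (a : V →ₗ[K] V) - (c / 2) • LinearMap.id
  have hT : ∀ x y, polar Q (T x) y = -polar Q x (T y) := by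
    intro x y
    have h3 := polar_skew ha hc x y
    change polar Q (a x - (c / 2) • x) y = -polar Q x (a y - (c / 2) • y)
    rw [polar_sub_left, polar_sub_right, polar_smul_left, polar_smul_right, smul_eq_mul]
    field_simp
    linear_combination 2 * h3
  have h3 := even_rank_skew h2 hQ hT
  have h4 := LinearMap.finrank_range_add_finrank_ker T
  have h5 : LinearMap.ker T ≠ ⊥ := by
    intro hbot
    rw [hbot, finrank_bot, add_zero] at h4
    rw [h4] at h3
    exact (Nat.not_even_iff_odd.2 hodd) h3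
  obtain ⟨x, hx, hx0⟩ := Submodule.exists_mem_ne_zero_of_ne_bot h5
  have hx' : a x = (c / 2) • x := by
    have : a x - (c / 2) • x = 0 := hx
    exact sub_eq_zero.1 this
  have hl0 : c / 2 ≠ 0 := by
    intro h0
    rw [h0, zero_smul] at hx'
    exact hx0 ((LinearEquiv.map_eq_zero_iff a).1 hx')
  have h6 : a⁻¹ x = (c / 2)⁻¹ • x := by
    apply a.injective
    have : a (a⁻¹ x) = x := a.apply_symm_apply x
    rw [this, map_smul, hx', smul_smul, inv_mul_cancel₀ hl0, one_smul]
  have h7 := hc x
  rw [hx', h6, ← add_smul] at h7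
  have h8 : (c / 2 + (c / 2)⁻¹ - c) • x = 0 := by rw [sub_smul, h7, sub_self]
  have h9 := (smul_eq_zero.1 h8).resolve_right hx0
  refine ⟨c / 2, ?_, by field_simp⟩
  have h10 : (c / 2)⁻¹ = c / 2 := by
    have : c = c / 2 + c / 2 := by field_simp; ring
    linear_combination h9 + this
  nth_rewrite 1 [← h10]
  exact inv_mul_cancel₀ hl0

end Lin

section Step3

variable {K : Type u} [Field K] [Finite K] {V : Type v} [AddCommGroup V] [Module K V]
  {Q : QuadraticForm K V} [FiniteDimensional K V]

omit [Finite K] [FiniteDimensional K V] in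
/-- an involution whose `(-1)`-eigenspace (up to sign `e`) is a line is a reflection. -/
theorem eq_refl (h2 : (2 : K) ≠ 0) {b : V ≃ₗ[K] V} {e : K} {w : V} (hw : Q w ≠ 0)
    (hbw : b w = e • w) (hb : ∀ x, polar Q x w = 0 → b x = -(e • x)) (v : V) :
    b v = -(e • refl Q w hw v) := by
  set k := (Q w)⁻¹ * polar Q w v * 2⁻¹ with hk
  have h3 : polar Q (v - k • w) w = 0 := by
    rw [polar_sub_left, polar_smul_left, polar_self', smul_eq_mul, hk, polar_comm Q v w]
    field_simp
    ring
  have h4 := hb _ h3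
  have h5 : v = (v - k • w) + k • w := by abel
  have h6 : b v = -(e • (v - k • w)) + k • (e • w) := by
    conv_lhs => rw [h5]
    rw [map_add, h4, map_smul, hbw]
  rw [h6, refl_apply]
  have h7 : (Q w)⁻¹ * polar Q w v = 2 * k := by
    rw [hk]
    field_simp
  rw [h7]
  module

/-- the spinor argument -/
theorem spin_arg (h2 : (2 : K) ≠ 0) (hQ : Nondeg Q) {R : Submodule K V} (hR : ∀ x ∈ R, Q x = 0)
    (hRe : Even (finrank K R)) {z : V} (hz : Q z ≠ 0) (hzR : z ∈ perp Q R)
    (hdec : ∀ v ∈ perp Q R, ∃ r ∈ R, ∃ c : K, v = r + c • z) (nb : V ≃ₗ[K] V) (hnb : ∀ v, nb v = -v)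
    (hnbO : nb ∈ O Q) [Finite V] :
    spin Q ⟨nb, hnbO⟩ = spin Q ⟨refl Q z hz, refl_mem_O hz⟩ := by
  obtain ⟨k, hk⟩ := hRe
  -- a complex structure on `R`
  have hfr : finrank K R = finrank K ((Fin k → K) × (Fin k → K)) := by
    rw [hk, finrank_prod, finrank_fin_fun]
  let e := LinearEquiv.ofFinrankEq R ((Fin k → K) × (Fin k → K)) hfr
  let J0 : ((Fin k → K) × (Fin k → K)) →ₗ[K] ((Fin k → K) × (Fin k → K)) :=
    LinearMap.prod (-(LinearMap.snd K _ _)) (LinearMap.fst K _ _)
  have hJ0 : ∀ x, J0 (J0 x) = -x := by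
    rintro ⟨x, y⟩
    rfl
  let J : R →ₗ[K] R := (e.symm : _ →ₗ[K] R) ∘ₗ J0 ∘ₗ (e : R →ₗ[K] _)
  have hJ : ∀ x, J (J x) = -x := by
    intro x
    change e.symm (J0 (e (e.symm (J0 (e x))))) = -x
    rw [e.apply_symm_apply, hJ0, map_neg, e.symm_apply_apply]
  have hJinj : Function.Injective J := by
    intro x y hxy
    have := congrArg J hxy
    rw [hJ, hJ, neg_inj] at this
    exact this
  obtain ⟨g, hg, hgJ⟩ := Cfsg.Agent.H958.witt_maps hQ R.subtype (R.subtype ∘ₗ J)
    (Submodule.subtype_injective R) ((Submodule.subtype_injective R).comp hJinj)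
    (fun x => by
      change Q (J x : V) = Q (x : V)
      rw [hR _ (J x).2, hR _ x.2])
  have hgR : ∀ x : R, g (x : V) = (J x : V) := hgJ
  have hggR : ∀ x ∈ R, g (g x) = -x := by
    intro x hx
    have h3 := hgR ⟨x, hx⟩
    change g x = _ at h3
    rw [h3, hgR, hJ]
    rfl
  have hgRR : ∀ x ∈ R, g x ∈ R := by
    intro x hx
    have h3 := hgR ⟨x, hx⟩
    change g x = _ at h3
    rw [h3]
    exact (J ⟨x, hx⟩).2
  -- `g` preserves `R^⊥`
  have hgP : ∀ x ∈ perp Q R, g x ∈ perp Q R := by
    intro x hx r hr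
    have h3 : r = g (g (-r)) := by rw [map_neg, map_neg, hggR r hr, neg_neg]
    have h4 : g (-r) ∈ R := hgRR _ (R.neg_mem hr)
    rw [h3, polar_map hg]
    exact hx _ h4
  obtain ⟨r0, hr0, ε, hgz⟩ := hdec _ (hgP z hzR)
  have hQr : ∀ r ∈ R, ∀ c : K, Q (r + c • z) = c * c * Q z := by
    intro r hr c
    rw [Q_add, hR r hr, QuadraticMap.map_smul, polar_smul_right, hzR r hr, smul_eq_mul]
    simp
  have hε : ε * ε = 1 := by
    have h3 := mem_O.1 hg z
    rw [hgz, hQr r0 hr0] at h3
    have h4 : (ε * ε - 1) * Q z = 0 := by linear_combination h3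
    have := (mul_eq_zero.1 h4).resolve_right hz
    linear_combination this
  -- the unipotent element
  let u : V ≃ₗ[K] V := nb * (g * g) * refl Q z hz
  have hu : ∀ v, u v = -(g (g (refl Q z hz v))) := fun v => hnb _
  have huO : u ∈ O Q := (O Q).mul_mem ((O Q).mul_mem hnbO ((O Q).mul_mem hg hg)) (refl_mem_O hz)
  have huR : ∀ r ∈ R, u r = r := by
    intro r hr
    rw [hu, refl_apply, polar_comm, hzR r hr, mul_zero, zero_smul, sub_zero, hggR r hr, neg_neg]
  have hrz : refl Q z hz z = -z := by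
    rw [refl_apply, polar_self']
    have : (Q z)⁻¹ * (2 * Q z) = 2 := by field_simp
    rw [this, two_smul]
    abel
  have huz : ∃ r ∈ R, u z = z + r := by
    refine ⟨ε • r0 + g r0, R.add_mem (R.smul_mem _ hr0) (hgRR _ hr0), ?_⟩
    rw [hu, hrz, map_neg, map_neg, neg_neg, hgz, map_add, map_smul, hgz, smul_add, smul_smul, hε,
      one_smul]
    abel
  have huP : ∀ v ∈ perp Q R, u v - v ∈ R := by
    intro v hv
    obtain ⟨r, hr, c, rfl⟩ := hdec v hv
    obtain ⟨r', hr', e1⟩ := huz
    rw [map_add, map_smul, huR r hr, e1]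
    have : r + c • (z + r') - (r + c • z) = c • r' := by module
    rw [this]
    exact R.smul_mem _ hr'
  have huV : ∀ v, u v - v ∈ perp Q R := by
    intro v r hr
    have h3 := polar_map huO r v
    rw [huR r hr] at h3
    rw [polar_sub_right, h3, sub_self]
  have hcube : ∀ x, u (u (u x)) - 3 • u (u x) + 3 • u x - x = 0 := by
    intro x
    have h3 := huP _ (huV x)
    have h4 := huR _ h3
    simp only [map_sub] at h4
    have h5 : u (u (u x)) - 3 • u (u x) + 3 • u x - x =
        (u (u (u x)) - u (u x) - (u (u x) - u x)) - (u (u x) - u x - (u x - x)) := by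
      rw [show (3 : ℕ) = 1 + 1 + 1 from rfl]
      simp only [add_smul, one_smul]
      abel
    rw [h5, h4, sub_self]
  obtain ⟨m, hm, hum, -⟩ := pow_eq_one_of_cube h2 u hcube
  have hsu : spin Q ⟨u, huO⟩ = 1 := hom_eq_one_of_odd (spin Q) ⟨m, hm, Subtype.ext hum⟩
  have e3 : (⟨u, huO⟩ : O Q) = ⟨nb, hnbO⟩ * (⟨g, hg⟩ * ⟨g, hg⟩) * ⟨refl Q z hz, refl_mem_O hz⟩ := rfl
  rw [e3, map_mul, map_mul, map_mul, Int.units_mul_self, mul_one] at hsu
  have h6 := Int.units_mul_self (spin Q ⟨refl Q z hz, refl_mem_O hz⟩)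
  calc spin Q ⟨nb, hnbO⟩ = spin Q ⟨nb, hnbO⟩ * (spin Q ⟨refl Q z hz, refl_mem_O hz⟩ *
        spin Q ⟨refl Q z hz, refl_mem_O hz⟩) := by rw [h6, mul_one]
    _ = spin Q ⟨refl Q z hz, refl_mem_O hz⟩ := by rw [← mul_assoc, hsu, one_mul]

/-- **T3.** -/
theorem odd_step3 (hQ : Nondeg Q) (hd : 7 ≤ finrank K V) (h2 : (2 : K) ≠ 0) {a b : V ≃ₗ[K] V}
    (hab : PBad (E Q) a b) (ha : ¬ Scalar a) {c : K} (hac : ∀ v, a v + a⁻¹ v = c • v)
    (hbb : b * b = 1) (W W' : Submodule K V) (hW : ∀ v, v ∈ W ↔ b v = v)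
    (hW' : ∀ v, v ∈ W' ↔ b v = -v) (h1 : finrank K W = 1 ∨ finrank K W' = 1) : False := by
  have hne : Nontrivial V := Module.nontrivial_of_finrank_pos (R := K) (by omega)
  have hfV : Finite V := Module.finite_of_finite K
  have hG := good_of_finite hQ (by omega : 5 ≤ finrank K V)
  have haO := E_le_O hab.1
  have hbO := E_le_O hab.2.1
  have hbb' : ∀ v, b (b v) = v := fun v => by
    change (b * b) v = v
    rw [hbb]; rfl
  have hEdet : ∀ g ∈ E Q, LinearMap.det (g : V →ₗ[K] V) = 1 := by
    intro g hg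
    rw [← hG.commutator_eq_E] at hg
    exact det_eq_one' hg
  have hperp : ∀ x y, b x = x → b y = -y → polar Q x y = 0 := by
    intro x y hx hy
    have h3 := polar_map hbO x y
    rw [hx, hy, polar_neg_right] at h3
    have h4 : 2 * polar Q x y = 0 := by linear_combination -h3
    exact (mul_eq_zero.1 h4).resolve_left h2
  have hdec : ∀ v : V, ∃ x y, b x = x ∧ b y = -y ∧ v = x + y := by
    intro v
    refine ⟨(2 : K)⁻¹ • (v + b v), (2 : K)⁻¹ • (v - b v), ?_, ?_, ?_⟩
    · rw [map_smul, map_add, hbb', add_comm]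
    · rw [map_smul, map_sub, hbb', ← smul_neg, neg_sub]
    · rw [← smul_add]
      have : v + b v + (v - b v) = (2 : K) • v := by rw [two_smul]; abel
      rw [this, smul_smul, inv_mul_cancel₀ h2, one_smul]
  rcases h1 with h1 | h1
  · -- `b = -refl w`
    obtain ⟨⟨w, hwW⟩, hw0, hwspan⟩ := finrank_eq_one_iff'.1 h1
    have hbw : b w = w := (hW w).1 hwW
    have hW1 : ∀ x, b x = x → ∃ k : K, x = k • w := by
      intro x hx
      obtain ⟨k, hk⟩ := hwspan ⟨x, (hW x).2 hx⟩
      exact ⟨k, (congrArg Subtype.val hk).symm⟩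
    have hw0' : w ≠ 0 := fun h => hw0 (Subtype.ext h)
    have hQw : Q w ≠ 0 := by
      intro h0
      apply hw0'
      apply hQ
      intro y
      obtain ⟨p, r, hp, hr, rfl⟩ := hdec y
      obtain ⟨k, rfl⟩ := hW1 p hp
      rw [polar_add_right, polar_smul_right, polar_self_of_sing h0, smul_zero, zero_add]
      exact hperp w r hbw hr
    have hbr : ∀ v, b v = -refl Q w hQw v := by
      intro v
      have h3 := eq_refl (e := 1) h2 hQw (by rw [hbw, one_smul]) (fun x hx => by
        obtain ⟨p, r, hp, hr, rfl⟩ := hdec x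
        obtain ⟨k, rfl⟩ := hW1 p hp
        rw [polar_add_left, polar_smul_left, polar_comm Q r w, hperp w r hbw hr, add_zero,
          polar_self', smul_eq_mul, mul_eq_zero] at hx
        rw [hx.resolve_right (mul_ne_zero h2 hQw), zero_smul, zero_add, hr, one_smul]) v
      rw [h3, one_smul]
    -- the dimension is odd
    have hodd : Odd (finrank K V) := by
      by_contra heven
      rw [Nat.not_odd_iff_even] at heven
      have e : (b : V →ₗ[K] V) = (-1 : K) • ((refl Q w hQw : V ≃ₗ[K] V) : V →ₗ[K] V) := by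
        ext v
        change b v = (-1 : K) • refl Q w hQw v
        rw [hbr, neg_smul, one_smul]
      have e1 := congrArg LinearMap.det e
      rw [LinearMap.det_smul, heven.neg_one_pow, hEdet b hab.2.1, one_mul] at e1
      have e2 := congrArg Units.val (det_refl hQw)
      rw [LinearEquiv.coe_det] at e2
      rw [e2] at e1
      have e3 : (1 : K) = -1 := by simpa using e1
      exact h2 (by linear_combination e3)
    obtain ⟨l, hl, hcl⟩ := exists_unip h2 hQ hodd haO hac
    -- the nilpotent part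
    let s : V →ₗ[K] V := l • (a : V →ₗ[K] V) - LinearMap.id
    have hs : ∀ v, s v = l • a v - v := fun _ => rfl
    have hav : ∀ v, a v = l • (v + s v) := by
      intro v
      rw [hs]
      have : v + (l • a v - v) = l • a v := by abel
      rw [this, smul_smul, hl, one_smul]
    have hskew : ∀ x y, polar Q (s x) y = -polar Q x (s y) := by
      intro x y
      rw [hs, hs, polar_sub_left, polar_sub_right, polar_smul_left, polar_smul_right, smul_eq_mul]
      have h3 := polar_skew haO hac x y
      rw [hcl] at h3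
      linear_combination l * h3 + 2 * polar Q x y * hl
    have hRsing : ∀ x ∈ LinearMap.range s, Q x = 0 := by
      rintro _ ⟨v, rfl⟩
      have h3 := mem_O.1 haO v
      rw [hav, QuadraticMap.map_smul, hl, one_smul, Q_add] at h3
      have h4 := hskew v v
      rw [polar_comm] at h4
      have h5 : 2 * polar Q v (s v) = 0 := by linear_combination h4
      have h6 := (mul_eq_zero.1 h5).resolve_left h2
      rw [h6] at h3
      linear_combination h3
    have hker : ∀ v, v ∈ perp Q (LinearMap.range s) ↔ s v = 0 := by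
      intro v
      constructor
      · intro hv
        apply hQ
        intro y
        have h3 : polar Q (s y) v = 0 := hv (s y) ⟨y, rfl⟩
        rw [polar_comm] at h3
        rw [hskew, h3, neg_zero]
      · rintro hv _ ⟨y, rfl⟩
        have h3 := hskew y v
        rw [hv, polar_zero_right, neg_zero] at h3
        exact h3
    have hs0 : ∃ v, s v ≠ 0 := by
      by_contra hcon
      push Not at hcon
      exact ha ⟨l, fun v => by rw [hav, hcon, add_zero]⟩
    -- no vector of `R^⊥` has the norm of `w`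
    have hA3 : ∀ v0 ∈ perp Q (LinearMap.range s), Q v0 ≠ Q w := by
      intro v0 hv0 hQv0
      obtain ⟨v1, hv1⟩ := hs0
      have hr : Q (s v1) = 0 := hRsing _ ⟨v1, rfl⟩
      obtain ⟨r', hr'⟩ := LieClassical.OrthTrans.exists_hyp hQ hr hv1
      set v := r' + Q w • s v1 with hv
      have hQv : Q v = Q w := by
        rw [hv, Q_add, QuadraticMap.map_smul, hr'.right, hr, polar_smul_right, hr'.pair']
        simp
      have hn0 : ∀ x, Q x = Q w → x ≠ 0 := by
        rintro _ hx rfl
        rw [QuadraticMap.map_zero] at hx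
        exact hQw hx.symm
      obtain ⟨g1, hg1, e1⟩ := hG.trans_norm hw0' (hn0 v0 hQv0) hQv0.symm
      obtain ⟨g2, hg2, e2⟩ := hG.trans_norm hw0' (hn0 v hQv) hQv.symm
      have hg : g2 * g1⁻¹ ∈ E Q := (E Q).mul_mem hg2 ((E Q).inv_mem hg1)
      have hab1 := hab.conj_right hg1
      obtain ⟨x, hx, h3, h4⟩ := key_sign hQ hab1 hg
      have h3' : ∀ y, a (x y) = x (a y) :=
        h3.resolve_right fun h => no_sign_of_odd h2 hodd rfl h
      have h4' : ∀ y, (g2 * g1⁻¹) ((g1 * b * g1⁻¹) ((g2 * g1⁻¹)⁻¹ (x y))) = x ((g1 * b * g1⁻¹) y) := by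
        refine h4.resolve_right fun h => no_sign_of_odd (a := (g2 * g1⁻¹) * (g1 * b * g1⁻¹) * (g2 * g1⁻¹)⁻¹)
          (b := g1 * b * g1⁻¹) h2 hodd ?_ h
        rw [hEdet _ ((E Q).mul_mem ((E Q).mul_mem hg hab1.2.1) ((E Q).inv_mem hg)), hEdet _ hab1.2.1]
      have h5 : (g1 * b * g1⁻¹) v0 = v0 := by
        change g1 (b (g1⁻¹ v0)) = v0
        have h6 : g1⁻¹ v0 = w := by
          rw [← e1]
          exact g1.symm_apply_apply w
        rw [h6, hbw, e1]
      have h6 := h4' v0
      rw [h5] at h6
      have h7 : g2 (b (g2⁻¹ (x v0))) = x v0 := by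
        have e3 : (g2 * g1⁻¹) * (g1 * b * g1⁻¹) * (g2 * g1⁻¹)⁻¹ = g2 * b * g2⁻¹ := by group
        have e4 := congrArg (fun f : V ≃ₗ[K] V => f (x v0)) e3
        exact e4.symm.trans h6
      have h8 : b (g2⁻¹ (x v0)) = g2⁻¹ (x v0) := by
        apply g2.injective
        rw [h7]
        exact (g2.apply_symm_apply (x v0)).symm
      obtain ⟨k, hk⟩ := hW1 _ h8
      have h9 : x v0 = k • v := by
        rw [← e2, ← map_smul, ← hk]
        exact (g2.apply_symm_apply (x v0)).symm
      have hk0 : k ≠ 0 := by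
        rintro rfl
        rw [zero_smul] at h9
        exact hn0 v0 hQv0 ((LinearEquiv.map_eq_zero_iff x).1 h9)
      have h10 : s (x v0) = 0 := by
        rw [hs, h3', ← map_smul, ← map_sub, ← hs, (hker v0).1 hv0, map_zero]
      rw [h9, map_smul] at h10
      have h11 : s v = 0 := (smul_eq_zero.1 h10).resolve_left hk0
      have h12 := (hker v).2 h11 (s v1) ⟨v1, rfl⟩
      rw [hv, polar_add_right, hr'.pair, polar_smul_right, polar_self_of_sing hr, smul_zero,
        add_zero] at h12
      exact one_ne_zero h12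
    -- the one-dimensional complement
    obtain ⟨X, hX, hXn, hXf⟩ := exists_nondeg_compl hQ hRsing
    have hX1 : finrank K X = 1 := by
      by_contra hX1
      have h3 : 2 ≤ finrank K X := by
        obtain ⟨t, ht⟩ := hodd
        omega
      obtain ⟨v, hv⟩ := exists_value h2 hXn h3 (Q w)
      exact hA3 v (hX v.2) hv
    obtain ⟨⟨z, hzX⟩, hz0, hzspan⟩ := finrank_eq_one_iff'.1 hX1
    have hzR := hX hzX
    have hQz : Q z ≠ 0 := by
      intro h0
      apply hz0
      apply hXn
      rintro ⟨y, hy⟩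
      obtain ⟨k, hk⟩ := hzspan ⟨y, hy⟩
      have hk' : k • z = y := congrArg Subtype.val hk
      change polar Q z y = 0
      rw [← hk', polar_smul_right, polar_self_of_sing h0, smul_zero]
    have hRR : LinearMap.range s ≤ perp Q (LinearMap.range s) := by
      intro x hx y hy
      rw [polar, hRsing _ ((LinearMap.range s).add_mem hy hx), hRsing _ hx, hRsing _ hy]
      ring
    have hinf : X ⊓ LinearMap.range s = ⊥ := by
      rw [Submodule.eq_bot_iff]
      rintro x ⟨hx, hx'⟩
      have h3 := nondeg_res_iff.1 hXn x hx (fun y hy => hX hy x hx')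
      exact h3
    have hsup : X ⊔ LinearMap.range s = perp Q (LinearMap.range s) := by
      apply Submodule.eq_of_le_of_finrank_eq (sup_le hX hRR)
      have h3 := Submodule.finrank_sup_add_finrank_inf_eq X (LinearMap.range s)
      rw [hinf, finrank_bot, add_zero] at h3
      have h4 := finrank_add_perp hQ (LinearMap.range s)
      omega
    have hdecR : ∀ v ∈ perp Q (LinearMap.range s), ∃ r ∈ LinearMap.range s, ∃ c : K, v = r + c • z := by
      intro v hv
      rw [← hsup] at hv
      obtain ⟨p, hp, r, hr, rfl⟩ := Submodule.mem_sup.1 hv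
      obtain ⟨k, hk⟩ := hzspan ⟨p, hp⟩
      have hk' : k • z = p := congrArg Subtype.val hk
      exact ⟨r, hr, k, by rw [hk', add_comm]⟩
    -- the spinor norm
    let nb : V ≃ₗ[K] V := LinearEquiv.neg K
    have hnb : ∀ v, nb v = -v := fun v => rfl
    have hnbO : nb ∈ O Q := fun v => by rw [hnb, QuadraticMap.map_neg]
    have h3 := spin_arg h2 hQ hRsing (even_rank_skew h2 hQ hskew) hQz hzR hdecR nb hnb hnbO
    have h4 : spin Q ⟨b, hbO⟩ = 1 := by
      have hbE : b ∈ ⁅O Q, O Q⁆ := by rw [hG.commutator_eq_E]; exact hab.2.1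
      exact hom_eq_one (spin Q) hbE hbO
    have h5 : (⟨b, hbO⟩ : O Q) = ⟨nb, hnbO⟩ * ⟨refl Q w hQw, refl_mem_O hQw⟩ :=
      Subtype.ext (LinearEquiv.ext fun v => hbr v)
    rw [h5, map_mul, h3, spin_refl' h2 hQz, spin_refl' h2 hQw, neg_mul_neg, ← chi_mul hQz hQw,
      chi_eq_one_iff] at h4
    obtain ⟨μ, hμ⟩ := h4
    refine hA3 ((μ / Q z) • z) ((perp Q (LinearMap.range s)).smul_mem _ hzR) ?_
    rw [QuadraticMap.map_smul, smul_eq_mul]
    field_simp
    linear_combination -hμ
  · -- `b = refl w`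
    obtain ⟨⟨w, hwW⟩, hw0, hwspan⟩ := finrank_eq_one_iff'.1 h1
    have hbw : b w = -w := (hW' w).1 hwW
    have hW1 : ∀ x, b x = -x → ∃ k : K, x = k • w := by
      intro x hx
      obtain ⟨k, hk⟩ := hwspan ⟨x, (hW' x).2 hx⟩
      exact ⟨k, (congrArg Subtype.val hk).symm⟩
    have hw0' : w ≠ 0 := fun h => hw0 (Subtype.ext h)
    have hQw : Q w ≠ 0 := by
      intro h0
      apply hw0'
      apply hQ
      intro y
      obtain ⟨p, r, hp, hr, rfl⟩ := hdec y
      obtain ⟨k, rfl⟩ := hW1 r hr
      rw [polar_add_right, polar_smul_right, polar_self_of_sing h0, smul_zero, add_zero, polar_comm]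
      exact hperp p w hp hbw
    have hbr : ∀ v, b v = refl Q w hQw v := by
      intro v
      have h3 := eq_refl (e := -1) h2 hQw (by rw [hbw, neg_smul, one_smul]) (fun x hx => by
        obtain ⟨p, r, hp, hr, rfl⟩ := hdec x
        obtain ⟨k, rfl⟩ := hW1 r hr
        rw [polar_add_left, polar_smul_left, hperp p w hp hbw, zero_add,
          polar_self', smul_eq_mul, mul_eq_zero] at hx
        rw [hx.resolve_right (mul_ne_zero h2 hQw), zero_smul, add_zero, hp, neg_smul, one_smul,
          neg_neg]) v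
      rw [h3, neg_smul, one_smul, neg_neg]
    have e : b = refl Q w hQw := LinearEquiv.ext hbr
    have e1 := hEdet b hab.2.1
    have e2 := congrArg Units.val (det_refl hQw)
    rw [LinearEquiv.coe_det, ← e, e1] at e2
    have e3 : (1 : K) = -1 := by simpa using e2
    exact h2 (by linear_combination e3)

end Step3

end Cfsg.Agent.H105.SzO
end

-- part: H105/SzO9
section
/-!
# Szep's conjecture for the simple orthogonal groups
-/

set_option autoImplicit false

namespace Cfsg.Agent.H105.SzO

open Module QuadraticMap Cfsg.Agent.LieClassical.OrthCore Cfsg.Agent.LieClassical.OrthTrans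
open Cfsg.Agent.LieClassical.OrthFinite Cfsg.Agent.LieClassical.OrthForms Cfsg.Agent.H955
open Cfsg.Agent.H105.Sz

universe u v

section

variable {K : Type u} [Field K] [Finite K] {V : Type v} [AddCommGroup V] [Module K V]
  [FiniteDimensional K V] {Q : QuadraticForm K V}

theorem odd_false (hQ : Nondeg Q) (hd : 7 ≤ finrank K V) (h2 : (2 : K) ≠ 0) {a b : V ≃ₗ[K] V}
    (hab : PBad (E Q) a b) (ha : ¬ Scalar a) (hb : ¬ Scalar b) : False := by
  refine odd_main hQ hd h2 hab ha hb ?_
  intro a b hab ha hb c hc hbb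
  have hbb' : ∀ v, b (b v) = v := fun v => by
    change (b * b) v = v
    rw [hbb]; rfl
  have hdim := eig_dims h2 hbb' (W := Wp b) (W' := Wm b) mem_Wp mem_Wm
  have h0 : finrank K (Wp b) ≠ 0 := by
    intro h
    have h3 : finrank K (Wm b) = finrank K V := by omega
    have h4 := Submodule.eq_top_of_finrank_eq h3
    apply hb
    refine ⟨-1, fun v => ?_⟩
    have h5 : v ∈ Wm b := by rw [h4]; trivial
    rw [(mem_Wm v).1 h5, neg_smul, one_smul]
  have h0' : finrank K (Wm b) ≠ 0 := by
    intro h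
    have h3 : finrank K (Wp b) = finrank K V := by omega
    have h4 := Submodule.eq_top_of_finrank_eq h3
    apply hb
    refine ⟨1, fun v => ?_⟩
    have h5 : v ∈ Wp b := by rw [h4]; trivial
    rw [(mem_Wp v).1 h5, one_smul]
  by_cases h1 : finrank K (Wp b) = 1 ∨ finrank K (Wm b) = 1
  · exact odd_step3 hQ hd h2 hab ha hc hbb (Wp b) (Wm b) mem_Wp mem_Wm h1
  · push Not at h1
    exact odd_step2 hQ hd h2 hab ha hc hbb (Wp b) (Wm b) mem_Wp mem_Wm (by omega) (by omega)

omit [Finite K] in
theorem charP_two_of_eq_zero (h2 : (2 : K) = 0) : CharP K 2 := by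
  obtain ⟨p, hp⟩ := CharP.exists K
  have h3 : p ∣ 2 := (CharP.cast_eq_zero_iff K p 2).1 (by exact_mod_cast h2)
  have h4 : p ≠ 1 := CharP.char_ne_one K p
  rcases (Nat.dvd_prime Nat.prime_two).1 h3 with h | h
  · exact absurd h h4
  · rw [← h]; exact hp

theorem no_pbad (hQ : Nondeg Q) (hd : 8 ≤ finrank K V) {a b : V ≃ₗ[K] V}
    (hab : PBad (E Q) a b) (ha : ¬ Scalar a) (hb : ¬ Scalar b) : False := by
  by_cases h2 : (2 : K) = 0
  · have := charP_two_of_eq_zero h2
    exact even_false hQ hd hab ha hb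
  · exact odd_false hQ (by omega) h2 hab ha hb

end

theorem szep_of_isPOmegaOdd {G : Type*} [Group G] (h : Cfsg.IsPOmegaOdd G) : Szep G := by
  obtain ⟨F, _, _, m, hm, hodd, ⟨e⟩⟩ := h
  refine Szep.of_equiv e ?_
  have h2 : (2 : F) ≠ 0 := by
    intro h2
    have := charP_two_of_eq_zero h2
    have h3 : 2 ∣ Fintype.card F := by
      rw [← CharP.cast_eq_zero_iff F 2]
      exact Nat.cast_card_eq_zero F
    exact (Nat.not_even_iff_odd.2 hodd) (even_iff_two_dvd.2 h3)
  have hd : finrank F (Unit ⊕ (Fin m ⊕ Fin m) → F) = 2 * m + 1 := by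
    rw [finrank_fintype_fun_eq_card, Fintype.card_sum, Fintype.card_sum, Fintype.card_fin,
      Fintype.card_unit]
    omega
  rw [← coe_oddForm]
  refine szep_POmega (nondeg_oddForm m F h2) ?_ fun a b hab ha hb =>
    odd_false (nondeg_oddForm m F h2) (by omega) h2 hab ha hb
  rw [← finrank_fintype_fun_eq_card (R := F)]
  omega

theorem szep_of_isPOmegaPlus {G : Type*} [Group G] (h : Cfsg.IsPOmegaPlus G) : Szep G := by
  obtain ⟨F, _, _, m, hm, ⟨e⟩⟩ := h
  refine Szep.of_equiv e ?_
  have hd : finrank F (Fin m ⊕ Fin m → F) = 2 * m := by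
    rw [finrank_fintype_fun_eq_card, Fintype.card_sum, Fintype.card_fin]
    omega
  rw [← coe_plusForm]
  refine szep_POmega (nondeg_plusForm m F) ?_ fun a b hab ha hb =>
    no_pbad (nondeg_plusForm m F) (by omega) hab ha hb
  rw [← finrank_fintype_fun_eq_card (R := F)]
  omega

theorem szep_of_isPOmegaMinus {G : Type*} [Group G] (h : Cfsg.IsPOmegaMinus G) : Szep G := by
  obtain ⟨F, _, _, m, a, b, hm, hab, ⟨e⟩⟩ := h
  refine Szep.of_equiv e ?_
  have hd : finrank F ((Fin (m - 1) ⊕ Fin (m - 1)) ⊕ Fin 2 → F) = 2 * m := by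
    rw [finrank_fintype_fun_eq_card, Fintype.card_sum, Fintype.card_sum, Fintype.card_fin,
      Fintype.card_fin]
    omega
  rw [← coe_minusForm]
  refine szep_POmega (nondeg_minusForm (m - 1) F a b hab) ?_ fun x y hxy hx hy =>
    no_pbad (nondeg_minusForm (m - 1) F a b hab) (by omega) hxy hx hy
  rw [← finrank_fintype_fun_eq_card (R := F)]
  omega

end Cfsg.Agent.H105.SzO
end

private theorem dce_9d70a7996234 : _root_.True := by
  try have : _root_.True := by simp only [_root_.Cfsg.Agent.H411.Sz.comp.eq_1]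
  try have : _root_.True := by simp only [_root_.Cfsg.Agent.H411.Sz.nsum.eq_1]
  try have : _root_.True := by simp only [_root_.Cfsg.Agent.H411.Sz.cut.eq_1]
  exact _root_.True.intro
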