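import Mathlib
import Cfsg.Agent.LieClassical.HermBasic
import Cfsg.Agent.Prune
set_option linter.all false
prune_inst 0x7f00000000000000000000000000000000000000000000000000000000000000000000000000000000000000000000000000000000000000000000000000000000000000000000000000000000000000003fffffffffffffffffffffffffffbeffbdffffffff
open scoped Cfsg.Agent.FastGrp

/-!
# Quadratic equations over `F_q` have roots in `F_{q²}`
-/

set_option autoImplicit false

namespace Cfsg.Agent.H105.SzU

open Polynomial Cfsg.Agent.LieClassical.HermBasic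

theorem mem_range_of_pow {F : Type*} [Field F] [Fintype F] {L : Type*} [Field L] [Algebra F L]
    {x : L} (hx : x ^ Fintype.card F = x) : ∃ y : F, algebraMap F L y = x := by
  classical
  have hne : (X ^ Fintype.card F - X : L[X]) ≠ 0 :=
    FiniteField.X_pow_card_sub_X_ne_zero L Fintype.one_lt_card
  have hsub : (Finset.univ.image (algebraMap F L)) ⊆ (X ^ Fintype.card F - X : L[X]).roots.toFinset := by
    intro y hy
    rw [Finset.mem_image] at hy
    obtain ⟨z, -, rfl⟩ := hy
    rw [Multiset.mem_toFinset, mem_roots hne, IsRoot.def, eval_sub, eval_pow, eval_X, ← map_pow,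
      FiniteField.pow_card, sub_self]
  have hcard : (X ^ Fintype.card F - X : L[X]).roots.toFinset.card ≤
      (Finset.univ.image (algebraMap F L)).card := by
    rw [Finset.card_image_of_injective _ (algebraMap F L).injective, Finset.card_univ]
    refine (Multiset.toFinset_card_le _).trans ((card_roots' _).trans ?_)
    rw [FiniteField.X_pow_card_sub_X_natDegree_eq L Fintype.one_lt_card]
  have heq := Finset.eq_of_subset_of_card_le hsub hcard
  have hmem : x ∈ (X ^ Fintype.card F - X : L[X]).roots.toFinset := by
    rw [Multiset.mem_toFinset, mem_roots hne, IsRoot.def, eval_sub, eval_pow, eval_X, hx, sub_self]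
  rw [← heq, Finset.mem_image] at hmem
  obtain ⟨y, -, hy⟩ := hmem
  exact ⟨y, hy⟩

theorem exists_root {F : Type*} [Field F] [Fintype F] {q : ℕ} (hF : Fintype.card F = q ^ 2) {b c : F}
    (hb : b ^ q = b) (hc : c ^ q = c) : ∃ x : F, x ^ 2 = b * x + c := by
  obtain ⟨p, k, hp, hchar, hk, hk0⟩ := exists_prime_pow hF
  have := Fact.mk hp
  let L := AlgebraicClosure F
  have hL : CharP L p := charP_of_injective_algebraMap (algebraMap F L).injective p
  let P : F[X] := X ^ 2 - C b * X - C c
  have hdeg : P.degree = 2 := by
    simp only [P]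
    compute_degree!
  obtain ⟨r, hr⟩ := IsAlgClosed.exists_aeval_eq_zero L P (by rw [hdeg]; decide)
  have hr1 : r ^ 2 = algebraMap F L b * r + algebraMap F L c := by
    simp only [P, map_sub, map_mul, map_pow, aeval_X, aeval_C] at hr
    linear_combination hr
  have hfb : (algebraMap F L b) ^ q = algebraMap F L b := by rw [← map_pow, hb]
  have hfc : (algebraMap F L c) ^ q = algebraMap F L c := by rw [← map_pow, hc]
  have hadd : ∀ x y : L, (x + y) ^ q = x ^ q + y ^ q := by
    intro x y
    rw [hk]
    exact add_pow_char_pow x y p k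
  have hr2 : (r ^ q) ^ 2 = algebraMap F L b * r ^ q + algebraMap F L c := by
    have h1 : (r ^ 2) ^ q = (algebraMap F L b * r + algebraMap F L c) ^ q := by rw [hr1]
    rw [hadd, mul_pow, hfb, hfc] at h1
    rw [← h1]; ring
  have hq2 : (r ^ q) ^ q = r := by
    have h1 : (r ^ q - r) * (r ^ q + r - algebraMap F L b) = 0 := by linear_combination hr2 - hr1
    rcases mul_eq_zero.1 h1 with h | h
    · have h2 := sub_eq_zero.1 h
      rw [h2, h2]
    · have h2 : r ^ q + r = algebraMap F L b := sub_eq_zero.1 h
      have h3 : (r ^ q + r) ^ q = (algebraMap F L b) ^ q := by rw [h2]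
      rw [hadd, hfb] at h3
      linear_combination h3 - h2
  obtain ⟨x, hx⟩ := mem_range_of_pow (F := F) (L := L) (x := r) (by rw [hF, sq, pow_mul, hq2])
  refine ⟨x, (algebraMap F L).injective ?_⟩
  rw [map_pow, map_add, map_mul, hx, hr1]

end Cfsg.Agent.H105.SzU
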