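import Mathlib
import Cfsg.Agent.H105.SzU2_m3
import Cfsg.Agent.H105.SzURoot
import Cfsg.Agent.Prune
set_option linter.all false
prune_inst 0x7f00000000000000000000000000000000000000000000000000000000000000000000000000000000000000000000000000000000000000000000000000000000000000000000000000000000000000003fffffffffffffffffffffffffffaeffbdffffffff
open scoped Cfsg.Agent.FastGrp

-- part: H105/SzU3
section
/-!
# Products of two centralizers in the unitary groups: elements moving no isotropic point to a
perpendicular one, part 1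
-/

set_option autoImplicit false

namespace Cfsg.Agent.H105.SzU

open Module Cfsg Cfsg.Agent.LieClassical.HermBasic Cfsg.Agent.LieClassical.HermSiegel
open Cfsg.Agent.LieClassical.HermGen Cfsg.Agent.LieClassical.HermSimple
open Cfsg.Agent.H105.Sz
open scoped Matrix MatrixGroups

variable {F : Type*} [Field F] [Fintype F] {n q : ℕ}

/-- the three forms -/
def fam (n : ℕ) (F : Type*) [Field F] (q : ℕ) (θ : F) (b : (Fin n → F) →ₗ[F] (Fin n → F)) (k : Fin 3)
    (x y : Fin n → F) : F :=
  match k with
  | 0 => hermForm n F q x y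
  | 1 => hermForm n F q x (b y) + hermForm n F q (b x) y
  | 2 => θ * hermForm n F q x (b y) + θ ^ q * hermForm n F q (b x) y

theorem fam_sesq (hF : Fintype.card F = q ^ 2) (θ : F) (b : (Fin n → F) →ₗ[F] (Fin n → F))
    (k : Fin 3) : Sesq q (fam n F q θ b k) := by
  fin_cases k
  · exact sesq_herm hF
  · refine ⟨fun x x' y => ?_, fun x y y' => ?_, fun c x y => ?_, fun c x y => ?_⟩ <;>
      simp only [fam, map_add, map_smul, herm_add_left, herm_add_right hF, herm_smul_left,
        herm_smul_right] <;> ring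
  · refine ⟨fun x x' y => ?_, fun x y y' => ?_, fun c x y => ?_, fun c x y => ?_⟩ <;>
      simp only [fam, map_add, map_smul, herm_add_left, herm_add_right hF, herm_smul_left,
        herm_smul_right] <;> ring

theorem fam_fix (hF : Fintype.card F = q ^ 2) (θ : F) (b : (Fin n → F) →ₗ[F] (Fin n → F))
    (k : Fin 3) (x : Fin n → F) : fam n F q θ b k x x ^ q = fam n F q θ b k x x := by
  have h1 : hermForm n F q (b x) x = hermForm n F q x (b x) ^ q := herm_swap hF x (b x)
  fin_cases k
  · exact herm_self_pow hF x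
  · change (hermForm n F q x (b x) + hermForm n F q (b x) x) ^ q = _
    rw [h1, add_pow_q hF, pow_q_pow_q hF, add_comm]
    change _ = hermForm n F q x (b x) + hermForm n F q (b x) x
    rw [h1]
  · change (θ * hermForm n F q x (b x) + θ ^ q * hermForm n F q (b x) x) ^ q =
      θ * hermForm n F q x (b x) + θ ^ q * hermForm n F q (b x) x
    rw [h1, add_pow_q hF, mul_pow, mul_pow, pow_q_pow_q hF, pow_q_pow_q hF, add_comm]

theorem fam_zero (hF : Fintype.card F = q ^ 2) {θ : F} (hθ : θ ^ q ≠ θ)
    (b : (Fin n → F) →ₗ[F] (Fin n → F)) (x : Fin n → F) :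
    (∀ k, fam n F q θ b k x x = 0) ↔ hermForm n F q x x = 0 ∧ hermForm n F q x (b x) = 0 := by
  have h1 : hermForm n F q (b x) x = hermForm n F q x (b x) ^ q := herm_swap hF x (b x)
  constructor
  · intro h
    refine ⟨h 0, ?_⟩
    have h2 : hermForm n F q x (b x) + hermForm n F q (b x) x = 0 := h 1
    have h3 : θ * hermForm n F q x (b x) + θ ^ q * hermForm n F q (b x) x = 0 := h 2
    have h4 : (θ ^ q - θ) * hermForm n F q x (b x) = 0 := by linear_combination θ ^ q * h2 - h3
    rcases mul_eq_zero.1 h4 with h5 | h5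
    · exact absurd (sub_eq_zero.1 h5) hθ
    · exact h5
  · rintro ⟨h2, h3⟩ k
    rw [h3, zero_pow_q hF] at h1
    fin_cases k
    · exact h2
    · change hermForm n F q x (b x) + hermForm n F q (b x) x = 0
      rw [h3, h1, add_zero]
    · change θ * hermForm n F q x (b x) + θ ^ q * hermForm n F q (b x) x = 0
      rw [h3, h1, mul_zero, mul_zero, add_zero]

theorem exists_cw (hF : Fintype.card F = q ^ 2) (b : (Fin n → F) →ₗ[F] (Fin n → F))
    (X : Submodule F (Fin n → F)) (hX : 4 ≤ finrank F X) :
    ∃ x ∈ X, x ≠ 0 ∧ hermForm n F q x x = 0 ∧ hermForm n F q x (b x) = 0 := by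
  obtain ⟨θ, hθ⟩ := exists_not_fixed hF
  obtain ⟨x, hx0, hx⟩ := exists_zero (κ := Fin 3) hF (U := X)
    (fun k x y => fam n F q θ b k x y) (fun k => (fam_sesq hF θ b k).comp X.subtype X.subtype)
    (fun k x => fam_fix hF θ b k x) (by rw [Fintype.card_fin]; omega)
  obtain ⟨h1, h2⟩ := (fam_zero hF hθ b (x : Fin n → F)).1 hx
  exact ⟨x, x.2, fun h => hx0 (Subtype.ext h), h1, h2⟩

theorem card_cw (hF : Fintype.card F = q ^ 2) (b : (Fin n → F) →ₗ[F] (Fin n → F)) (hn : 4 ≤ n) :
    ((Nat.card {x : Fin n → F // hermForm n F q x x = 0 ∧ hermForm n F q x (b x) = 0} : ℕ) : F) = 0 := by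
  obtain ⟨θ, hθ⟩ := exists_not_fixed hF
  have h := card_zeros (κ := Fin 3) hF (U := Fin n → F)
    (fun k x y => fam n F q θ b k x y) (fun k => fam_sesq hF θ b k)
    (fun k x => fam_fix hF θ b k x) (by rw [Fintype.card_fin, Module.finrank_fin_fun]; omega)
  have h2 : Nat.card {x : Fin n → F // ∀ k, fam n F q θ b k x x = 0} =
      Nat.card {x : Fin n → F // hermForm n F q x x = 0 ∧ hermForm n F q x (b x) = 0} :=
    Nat.card_congr (Equiv.subtypeEquivRight fun x => fam_zero hF hθ b x)
  rw [← h2]
  exact h

/-- perpendicular points are never images -/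
def NoPerp (n : ℕ) (F : Type*) [Field F] (q : ℕ) (b : (Fin n → F) ≃ₗ[F] (Fin n → F)) : Prop :=
  ∀ v, hermForm n F q v v = 0 → hermForm n F q v (b v) = 0 → ∃ c : F, b v = c • v

section

variable {b : (Fin n → F) ≃ₗ[F] (Fin n → F)}

theorem np_ne (hF : Fintype.card F = q ^ 2) (hII : NoPerp n F q b) {e f : Fin n → F} {l m : F}
    (he0 : e ≠ 0) (hf0 : f ≠ 0) (he : hermForm n F q e e = 0) (hf : hermForm n F q f f = 0)
    (hbe : b e = l • e) (hbf : b f = m • f) (hlm : l ≠ m) : hermForm n F q e f ≠ 0 := by
  intro hef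
  have hfe : hermForm n F q f e = 0 := herm_eq_zero_swap hF hef
  obtain ⟨c, hc⟩ := hII (e + f)
    (by simp only [herm_add_left, herm_add_right hF, he, hf, hef, hfe, add_zero])
    (by rw [map_add, hbe, hbf]
        simp only [herm_add_left, herm_add_right hF, herm_smul_right, he, hf, hef, hfe, add_zero,
          mul_zero])
  rw [map_add, hbe, hbf] at hc
  -- (l - c) e + (m - c) f = 0
  have h1 : (l - c) • e + (m - c) • f = 0 := by
    have h2 : l • e + m • f - c • (e + f) = 0 := sub_eq_zero.2 hc
    rw [← h2]; module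
  have h3 := congrArg b h1
  rw [map_add, map_smul, map_smul, hbe, hbf, map_zero] at h3
  have h4 : ((l - c) * (l - m)) • e = 0 := by
    have h5 : (l - c) • l • e + (m - c) • m • f - m • ((l - c) • e + (m - c) • f) = 0 := by
      rw [h1, h3, smul_zero, sub_zero]
    rw [← h5]; module
  have h6 : l - c = 0 := by
    rcases smul_eq_zero.1 h4 with h | h
    · rcases mul_eq_zero.1 h with h | h
      · exact h
      · exact absurd (sub_eq_zero.1 h) hlm
    · exact absurd h he0
  rw [h6, zero_smul, zero_add] at h1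
  rcases smul_eq_zero.1 h1 with h | h
  · exact hlm ((sub_eq_zero.1 h6).trans (sub_eq_zero.1 h).symm)
  · exact hf0 h

omit [Fintype F] in
theorem np_norm (hiso : ∀ u v, hermForm n F q (b u) (b v) = hermForm n F q u v)
    {e f : Fin n → F} {l m : F} (hef : hermForm n F q e f ≠ 0) (hbe : b e = l • e)
    (hbf : b f = m • f) : l * m ^ q = 1 := by
  have h1 := hiso e f
  rw [hbe, hbf, herm_smul_left, herm_smul_right] at h1
  have h2 : (l * m ^ q) * hermForm n F q e f = 1 * hermForm n F q e f := by
    rw [one_mul, ← h1.trans rfl]; rw [h1]; linear_combination h1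
  exact mul_right_cancel₀ hef h2

theorem np_span (hF : Fintype.card F = q ^ 2)
    (hiso : ∀ u v, hermForm n F q (b u) (b v) = hermForm n F q u v) (hII : NoPerp n F q b)
    {e f g : Fin n → F} {l m : F}
    (he0 : e ≠ 0) (he : hermForm n F q e e = 0)
    (hbe : b e = l • e) (hbf : b f = m • f) (hlm : l ≠ m) (hef : hermForm n F q e f ≠ 0)
    (hm : m * m ^ q ≠ 1) (hbg : b g = m • g) : ∃ t : F, g = t • f := by
  set t := (hermForm n F q e g / hermForm n F q e f) ^ q with ht
  by_contra hcon
  have hg0 : g - t • f ≠ 0 := fun h => hcon ⟨t, sub_eq_zero.1 h⟩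
  have hbg' : b (g - t • f) = m • (g - t • f) := by
    rw [map_sub, map_smul, hbg, hbf]; module
  have hgg : hermForm n F q (g - t • f) (g - t • f) = 0 := by
    by_contra h
    exact hm (np_norm hiso h hbg' hbg')
  apply np_ne hF hII he0 hg0 he hgg hbe hbg' hlm
  rw [herm_sub_right hF, herm_smul_right, ht, pow_q_pow_q hF, div_mul_cancel₀ _ hef, sub_self]

/-- there is only one eigenvalue -/
theorem np_two (hF : Fintype.card F = q ^ 2) (hn : 4 ≤ n)
    (hiso : ∀ u v, hermForm n F q (b u) (b v) = hermForm n F q u v) (hII : NoPerp n F q b)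
    {e f : Fin n → F} {l m : F}
    (he0 : e ≠ 0) (hf0 : f ≠ 0) (he : hermForm n F q e e = 0) (hf : hermForm n F q f f = 0)
    (hbe : b e = l • e) (hbf : b f = m • f) : l = m := by
  by_contra hlm
  have hef := np_ne hF hII he0 hf0 he hf hbe hbf hlm
  have hfe : hermForm n F q f e ≠ 0 := fun h => hef (herm_eq_zero_swap hF h)
  have h1 := np_norm hiso hef hbe hbf
  have h1' := np_norm hiso hfe hbf hbe
  have hl : l * l ^ q ≠ 1 := by
    intro h
    apply hlm
    have hl0 : l ≠ 0 := by rintro rfl; rw [zero_mul] at h; exact zero_ne_one h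
    exact (pow_q_inj hF).1 (mul_left_cancel₀ hl0 (h.trans h1.symm))
  have hm : m * m ^ q ≠ 1 := by
    intro h
    apply hlm
    have hm0 : m ≠ 0 := by rintro rfl; rw [zero_mul] at h; exact zero_ne_one h
    exact ((pow_q_inj hF).1 (mul_left_cancel₀ hm0 (h.trans h1'.symm))).symm
  have hb0 : ∀ v : Fin n → F, v ≠ 0 → b v ≠ 0 := fun v hv => map_ne b hv
  have hsp : ∀ g, g ≠ 0 → hermForm n F q g g = 0 → hermForm n F q g (b g) = 0 →
      (∃ t : F, g = t • e) ∨ ∃ t : F, g = t • f := by
    intro g hg0 hg hgb
    obtain ⟨c, hc⟩ := hII g hg hgb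
    by_cases hcl : c = l
    · left
      rw [hcl] at hc
      exact np_span hF hiso hII hf0 hf hbf hbe (Ne.symm hlm) hfe hl hc
    · right
      have hge := np_ne hF hII hg0 he0 hg he hc hbe hcl
      have hcm : c = m := by
        have h2 := np_norm hiso hge hc hbe
        have hl0 : l ^ q ≠ 0 := by
          intro h
          rw [h, mul_zero] at h1'
          exact zero_ne_one h1'
        exact mul_right_cancel₀ hl0 (h2.trans h1'.symm)
      rw [hcm] at hc
      exact np_span hF hiso hII he0 he hbe hbf hlm hef hm hc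
  have hcard : Nat.card {x : Fin n → F // hermForm n F q x x = 0 ∧
      hermForm n F q x ((b : (Fin n → F) →ₗ[F] (Fin n → F)) x) = 0} = q ^ 2 + (q ^ 2 - 1) := by
    have hz1 : ∀ t : F, hermForm n F q (t • e) (t • e) = 0 ∧ hermForm n F q (t • e)
        ((b : (Fin n → F) →ₗ[F] (Fin n → F)) (t • e)) = 0 := by
      intro t
      rw [LinearEquiv.coe_coe, map_smul, hbe]
      simp only [herm_smul_left, herm_smul_right, he, mul_zero, and_self]
    have hz2 : ∀ t : F, hermForm n F q (t • f) (t • f) = 0 ∧ hermForm n F q (t • f)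
        ((b : (Fin n → F) →ₗ[F] (Fin n → F)) (t • f)) = 0 := by
      intro t
      rw [LinearEquiv.coe_coe, map_smul, hbf]
      simp only [herm_smul_left, herm_smul_right, hf, mul_zero, and_self]
    let φ : F ⊕ {t : F // t ≠ 0} → {x : Fin n → F // hermForm n F q x x = 0 ∧
      hermForm n F q x ((b : (Fin n → F) →ₗ[F] (Fin n → F)) x) = 0} :=
      Sum.elim (fun t => ⟨t • e, hz1 t⟩) (fun t => ⟨t.1 • f, hz2 t.1⟩)
    have hφ : Function.Bijective φ := by
      constructor
      · rintro (t | t) (s | s) hts
        · have h2 : t • e = s • e := congrArg Subtype.val hts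
          rw [smul_left_injective F he0 h2]
        · exfalso
          have h2 : t • e = s.1 • f := congrArg Subtype.val hts
          apply hef
          have h3 : f = (s.1)⁻¹ • t • e := by
            rw [h2, smul_smul, inv_mul_cancel₀ s.2, one_smul]
          rw [h3, herm_smul_right, herm_smul_right, he, mul_zero, mul_zero]
        · exfalso
          have h2 : t.1 • f = s • e := congrArg Subtype.val hts
          apply hef
          have h3 : f = (t.1)⁻¹ • s • e := by
            rw [← h2, smul_smul, inv_mul_cancel₀ t.2, one_smul]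
          rw [h3, herm_smul_right, herm_smul_right, he, mul_zero, mul_zero]
        · have h2 : t.1 • f = s.1 • f := congrArg Subtype.val hts
          rw [Subtype.ext (smul_left_injective F hf0 h2)]
      · rintro ⟨g, hg, hgb⟩
        by_cases hg0 : g = 0
        · exact ⟨Sum.inl 0, Subtype.ext ((zero_smul F e).trans hg0.symm)⟩
        · rcases hsp g hg0 hg hgb with ⟨t, ht⟩ | ⟨t, ht⟩
          · exact ⟨Sum.inl t, Subtype.ext ht.symm⟩
          · have ht0 : t ≠ 0 := by
              rintro rfl
              rw [zero_smul] at ht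
              exact hg0 ht
            exact ⟨Sum.inr ⟨t, ht0⟩, Subtype.ext ht.symm⟩
    rw [← Nat.card_congr (Equiv.ofBijective φ hφ), Nat.card_sum, Nat.card_eq_fintype_card, hF]
    congr 1
    classical
    rw [Nat.card_eq_fintype_card, Fintype.card_subtype_compl, hF, Fintype.card_subtype_eq]
  have h5 := card_cw hF (b : (Fin n → F) →ₗ[F] (Fin n → F)) hn
  rw [hcard] at h5
  have h6 : ((q ^ 2 : ℕ) : F) = 0 := by rw [← hF]; exact FiniteField.cast_card_eq_zero F
  have h7 : 1 ≤ q ^ 2 := by
    have := two_le hF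
    exact Nat.one_le_pow _ _ (by omega)
  rw [Nat.cast_add, Nat.cast_sub h7, h6] at h5
  simp at h5

/-- **The eigenvalue.** -/
theorem np_eig (hF : Fintype.card F = q ^ 2) (hn : 4 ≤ n)
    (hiso : ∀ u v, hermForm n F q (b u) (b v) = hermForm n F q u v) (hII : NoPerp n F q b) :
    ∃ l : F, l * l ^ q = 1 ∧
      (∀ (c : F) (v : Fin n → F), v ≠ 0 → hermForm n F q v v = 0 → b v = c • v → c = l) ∧
      ∀ X : Submodule F (Fin n → F), 4 ≤ finrank F X →
        ∃ v ∈ X, v ≠ 0 ∧ hermForm n F q v v = 0 ∧ b v = l • v := by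
  obtain ⟨e, -, he0, he, heb⟩ := exists_cw hF (b : (Fin n → F) →ₗ[F] (Fin n → F)) ⊤
    (by rw [finrank_top, Module.finrank_fin_fun]; exact hn)
  obtain ⟨l, hl⟩ := hII e he heb
  have huniq : ∀ (c : F) (v : Fin n → F), v ≠ 0 → hermForm n F q v v = 0 → b v = c • v → c = l :=
    fun c v hv0 hv hc => np_two hF hn hiso hII hv0 he0 hv he hc hl
  have hl0 : l ≠ 0 := by
    rintro rfl
    rw [zero_smul] at hl
    exact map_ne b he0 hl
  refine ⟨l, ?_, huniq, ?_⟩
  · by_contra hN
    -- the adjoint has an eigenvector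
    obtain ⟨f, hf0, hf⟩ : ∃ f : Fin n → F, f ≠ 0 ∧ b.symm f = l ^ q • f := by
      by_contra hcon
      push Not at hcon
      have hinj : Function.Injective ((b.symm : (Fin n → F) →ₗ[F] (Fin n → F)) -
          (l ^ q) • (LinearMap.id : (Fin n → F) →ₗ[F] (Fin n → F))) := by
        rw [injective_iff_map_eq_zero]
        intro x hx
        by_contra hx0
        apply hcon x hx0
        rw [LinearMap.sub_apply, LinearMap.smul_apply, LinearMap.id_apply, sub_eq_zero] at hx
        exact hx
      have hsurj := LinearMap.surjective_of_injective hinj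
      apply he0
      apply herm_nondeg hF
      intro y
      obtain ⟨x, rfl⟩ := hsurj y
      rw [LinearMap.sub_apply, LinearMap.smul_apply, LinearMap.id_apply, herm_sub_right hF,
        herm_smul_right, pow_q_pow_q hF]
      have h1 := hiso e (b.symm x)
      rw [hl, LinearEquiv.apply_symm_apply, herm_smul_left] at h1
      change hermForm n F q e (b.symm x) - _ = 0
      rw [← h1, sub_self]
    have hbf : b f = (l ^ q)⁻¹ • f := by
      have h1 := congrArg b hf
      rw [LinearEquiv.apply_symm_apply, map_smul] at h1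
      have h2 : l ^ q ≠ 0 := pow_ne_zero _ hl0
      rw [h1, smul_smul, inv_mul_cancel₀ h2, one_smul]
      rw [← h1]
    have hff : hermForm n F q f f = 0 := by
      by_contra h
      have h1 := np_norm hiso h hbf hbf
      apply hN
      rw [inv_pow, pow_q_pow_q hF, ← mul_inv, inv_eq_one] at h1
      rw [← h1]; ring
    have h3 := huniq _ f hf0 hff hbf
    apply hN
    rw [← h3, inv_pow, pow_q_pow_q hF, h3]
    nth_rewrite 1 [← h3]
    have h2 : l ^ q ≠ 0 := pow_ne_zero _ hl0
    have h4 : l * l ^ q = 1 := by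
      nth_rewrite 1 [← h3]
      exact inv_mul_cancel₀ h2
    exact absurd h4 hN
  · intro X hX
    obtain ⟨v, hvX, hv0, hv, hvb⟩ := exists_cw hF (b : (Fin n → F) →ₗ[F] (Fin n → F)) X hX
    obtain ⟨c, hc⟩ := hII v hv hvb
    have h1 := huniq c v hv0 hv hc
    rw [h1] at hc
    exact ⟨v, hvX, hv0, hv, hc⟩

end

end Cfsg.Agent.H105.SzU
end

-- part: H105/SzU4
section
/-!
# Products of two centralizers in the unitary groups: elements moving no isotropic point to a
perpendicular one, part 2: the centralizer fixes a point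
-/

set_option autoImplicit false

namespace Cfsg.Agent.H105.SzU

open Module Cfsg Cfsg.Agent.LieClassical.HermBasic Cfsg.Agent.LieClassical.HermSiegel
open Cfsg.Agent.LieClassical.HermGen Cfsg.Agent.LieClassical.HermSimple
open Cfsg.Agent.H105.Sz
open scoped Matrix MatrixGroups

variable {F : Type*} [Field F] [Fintype F] {n q : ℕ}

/-- the orthogonal complement -/
def perp (_hF : Fintype.card F = q ^ 2) (W : Submodule F (Fin n → F)) : Submodule F (Fin n → F) where
  carrier := {x | ∀ w ∈ W, hermForm n F q x w = 0}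
  zero_mem' := fun w _ => herm_zero_left w
  add_mem' := fun {x y} hx hy w hw => by rw [herm_add_left, hx w hw, hy w hw, add_zero]
  smul_mem' := fun c x hx w hw => by rw [herm_smul_left, hx w hw, mul_zero]

theorem mem_perp (hF : Fintype.card F = q ^ 2) {W : Submodule F (Fin n → F)} {x : Fin n → F} :
    x ∈ perp hF W ↔ ∀ w ∈ W, hermForm n F q x w = 0 := Iff.rfl

theorem finrank_perp (hF : Fintype.card F = q ^ 2) (W : Submodule F (Fin n → F)) :
    finrank F W + finrank F (perp hF W) = n := by
  let e := Module.finBasis F W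
  let ψ : (Fin n → F) →ₗ[F] (Fin (finrank F W) → F) :=
    { toFun := fun x i => hermForm n F q x (e i)
      map_add' := fun x y => by funext i; exact herm_add_left _ _ _
      map_smul' := fun c x => by funext i; exact herm_smul_left _ _ _ }
  have hker : LinearMap.ker ψ = perp hF W := by
    ext x
    rw [LinearMap.mem_ker, mem_perp]
    constructor
    · intro h w hw
      have h1 := e.sum_repr ⟨w, hw⟩
      have h2 : w = ∑ i, e.repr ⟨w, hw⟩ i • (e i : Fin n → F) := by
        have := congrArg Subtype.val h1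
        rw [Submodule.coe_sum] at this
        exact this.symm
      rw [h2, herm_sum_right hF]
      refine Finset.sum_eq_zero fun i _ => ?_
      have h3 : hermForm n F q x (e i) = 0 := congrFun h i
      rw [herm_smul_right, h3, mul_zero]
    · intro h
      funext i
      exact h _ (e i).2
  have hsing : ∀ i : Fin (finrank F W), (fun j => if i = j then (1 : F) else 0) = Pi.single i 1 := by
    intro i
    funext j
    rw [Pi.single_apply]
    by_cases h : i = j
    · rw [if_pos h, if_pos h.symm]
    · rw [if_neg h, if_neg (Ne.symm h)]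
  have hrange : LinearMap.range ψ = ⊤ := by
    by_contra hne
    obtain ⟨g, hg0, hg⟩ := Submodule.exists_le_ker_of_lt_top _ (lt_top_iff_ne_top.2 hne)
    apply hg0
    have h1 : ∀ x, hermForm n F q x (∑ i, (g (Pi.single i 1)) ^ q • (e i : Fin n → F)) = 0 := by
      intro x
      have h2 : g (ψ x) = 0 := hg ⟨x, rfl⟩
      rw [herm_sum_right hF, ← h2]
      rw [LinearMap.pi_apply_eq_sum_univ g (ψ x)]
      refine Finset.sum_congr rfl fun i _ => ?_
      rw [herm_smul_right, pow_q_pow_q hF, smul_eq_mul, mul_comm, hsing]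
      rfl
    have h3 : ∑ i, (g (Pi.single i 1)) ^ q • (e i : Fin n → F) = 0 := by
      apply herm_nondeg hF
      intro x
      exact herm_eq_zero_swap hF (h1 x)
    have h4 : ∑ i, (g (Pi.single i 1)) ^ q • e i = 0 := by
      apply Subtype.ext
      rw [Submodule.coe_sum]
      exact h3
    have h5 := Fintype.linearIndependent_iff.1 e.linearIndependent _ h4
    apply LinearMap.ext
    intro y
    rw [LinearMap.pi_apply_eq_sum_univ g y, LinearMap.zero_apply]
    refine Finset.sum_eq_zero fun i _ => ?_
    have h6 : g (Pi.single i 1) = 0 := (pow_q_eq_zero hF).1 (h5 i)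
    rw [hsing, h6, smul_zero]
  have h1 := LinearMap.finrank_range_add_finrank_ker ψ
  rw [hker, hrange, finrank_top, Module.finrank_fin_fun, Module.finrank_fin_fun] at h1
  exact h1

section

variable {b : (Fin n → F) ≃ₗ[F] (Fin n → F)} {l : F}

/-- `b - l` -/
def tm (b : (Fin n → F) ≃ₗ[F] (Fin n → F)) (l : F) : (Fin n → F) →ₗ[F] (Fin n → F) :=
  (b : (Fin n → F) →ₗ[F] (Fin n → F)) - l • LinearMap.id

omit [Fintype F] in
theorem tm_apply (v : Fin n → F) : tm b l v = b v - l • v := rfl

omit [Fintype F] in
theorem mem_ker_tm {v : Fin n → F} : v ∈ LinearMap.ker (tm b l) ↔ b v = l • v := by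
  rw [LinearMap.mem_ker, tm_apply, sub_eq_zero]

theorem ker_eq_perp (hF : Fintype.card F = q ^ 2)
    (hiso : ∀ u v, hermForm n F q (b u) (b v) = hermForm n F q u v) (hl : l * l ^ q = 1) :
    LinearMap.ker (tm b l) = perp hF (LinearMap.range (tm b l)) := by
  ext y
  rw [mem_ker_tm, mem_perp]
  have hlq : l ^ q ≠ 0 := fun h => by rw [h, mul_zero] at hl; exact zero_ne_one hl
  constructor
  · rintro hy _ ⟨x, rfl⟩
    have h1 := hiso y x
    rw [hy, herm_smul_left] at h1
    rw [tm_apply, herm_sub_right hF, herm_smul_right, ← h1]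
    linear_combination (-hermForm n F q y (b x)) * hl
  · intro h
    have h1 : ∀ x, hermForm n F q (b y - l • y) (b x) = 0 := by
      intro x
      have h2 := h _ ⟨x, rfl⟩
      rw [tm_apply, herm_sub_right hF, herm_smul_right] at h2
      rw [herm_sub_left, hiso, herm_smul_left]
      linear_combination (-l) * h2 - hermForm n F q y x * hl
    have h3 : b y - l • y = 0 := by
      apply herm_nondeg hF
      intro z
      have := h1 (b.symm z)
      rwa [LinearEquiv.apply_symm_apply] at this
    exact sub_eq_zero.1 h3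

theorem herm_tm (hF : Fintype.card F = q ^ 2)
    (hiso : ∀ u v, hermForm n F q (b u) (b v) = hermForm n F q u v) (hl : l * l ^ q = 1)
    (x y : Fin n → F) :
    hermForm n F q (tm b l x) (tm b l y) =
      -(l ^ q * hermForm n F q (tm b l x) y) - l * hermForm n F q x (tm b l y) := by
  simp only [tm_apply, herm_sub_left, herm_sub_right hF, herm_smul_left, herm_smul_right, hiso]
  linear_combination (-hermForm n F q x y) * hl

/-- `R` totally isotropic of dimension at least two is impossible -/
theorem np_ti (hF : Fintype.card F = q ^ 2)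
    (hiso : ∀ u v, hermForm n F q (b u) (b v) = hermForm n F q u v) (hII : NoPerp n F q b)
    (hl : l * l ^ q = 1)
    (hu : ∀ (c : F) (v : Fin n → F), v ≠ 0 → hermForm n F q v v = 0 → b v = c • v → c = l)
    (hR : LinearMap.range (tm b l) ≤ LinearMap.ker (tm b l))
    (h2 : 2 ≤ finrank F (LinearMap.range (tm b l))) : False := by
  obtain ⟨D, hD⟩ := Submodule.exists_isCompl (LinearMap.ker (tm b l))
  have hfD : 2 ≤ finrank F D := by
    have h3 := Submodule.finrank_add_eq_of_isCompl hD
    have h4 := LinearMap.finrank_range_add_finrank_ker (tm b l)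
    omega
  obtain ⟨ε, hε0, hε⟩ := exists_trace_zero_ne hF
  have hker := ker_eq_perp hF hiso hl
  have hti : ∀ x y, hermForm n F q (tm b l x) (tm b l y) = 0 := by
    intro x y
    have h3 : tm b l x ∈ perp hF (LinearMap.range (tm b l)) := by
      rw [← hker]; exact hR ⟨x, rfl⟩
    exact h3 _ ⟨y, rfl⟩
  have hskew : ∀ x, (l * hermForm n F q x (tm b l x)) ^ q = -(l * hermForm n F q x (tm b l x)) := by
    intro x
    have h3 := herm_tm hF hiso hl x x
    rw [hti, herm_swap hF x (tm b l x), ← mul_pow] at h3
    linear_combination h3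
  have hεq : ε ^ q = -ε := by linear_combination hε
  obtain ⟨x, hx0, hx⟩ := exists_zero (κ := Unit) hF (U := D)
    (fun _ x y => (ε * l) * hermForm n F q (x : Fin n → F) (tm b l y))
    (fun _ => by
      refine ⟨fun x x' y => ?_, fun x y y' => ?_, fun c x y => ?_, fun c x y => ?_⟩
      · rw [Submodule.coe_add, herm_add_left]; ring
      · rw [Submodule.coe_add, map_add, herm_add_right hF]; ring
      · rw [Submodule.coe_smul, herm_smul_left]; ring
      · rw [Submodule.coe_smul, map_smul, herm_smul_right]; ring)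
    (fun _ x => by
      have h3 := hskew x
      rw [mul_assoc, mul_pow, h3, hεq]; ring) (by rw [Fintype.card_unit]; omega)
  have hl0 : l ≠ 0 := fun h => by rw [h, zero_mul] at hl; exact zero_ne_one hl
  have hx1 : hermForm n F q (x : Fin n → F) (tm b l x) = 0 := by
    rcases mul_eq_zero.1 (hx ()) with h | h
    · exact absurd h (mul_ne_zero hε0 hl0)
    · exact h
  have hxk : (x : Fin n → F) ∉ LinearMap.ker (tm b l) := by
    intro h
    apply hx0
    have := Submodule.disjoint_def.1 hD.disjoint _ h x.2
    exact Subtype.ext this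
  have htx : tm b l x ≠ 0 := fun h => hxk (LinearMap.mem_ker.2 h)
  rw [hker, mem_perp] at hxk
  push Not at hxk
  obtain ⟨u, ⟨y, rfl⟩, hux⟩ := hxk
  have hux' : hermForm n F q (tm b l y) x ≠ 0 := fun h => hux (herm_eq_zero_swap hF h)
  obtain ⟨c, hc⟩ := exists_iso_correct hF (hti y y) hux'
  set x' := (x : Fin n → F) + c • tm b l y with hx'
  have htx' : tm b l x' = tm b l x := by
    rw [hx', map_add, map_smul, LinearMap.mem_ker.1 (hR ⟨y, rfl⟩), smul_zero, add_zero]
  have h5 : hermForm n F q x' (tm b l x') = 0 := by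
    rw [htx', hx', herm_add_left, herm_smul_left, hti, hx1, mul_zero, add_zero]
  have h6 : hermForm n F q x' (b x') = 0 := by
    rw [tm_apply, herm_sub_right hF, herm_smul_right, hc, mul_zero, sub_zero] at h5
    exact h5
  obtain ⟨d, hd⟩ := hII x' hc h6
  have hx'0 : x' ≠ 0 := by
    intro h
    rw [h, map_zero] at htx'
    exact htx htx'.symm
  have h7 := hu d x' hx'0 hc hd
  rw [h7] at hd
  apply htx
  rw [← htx', tm_apply, hd, sub_self]

/-- the plane case: an eigenvector -/
theorem np_plane (hF : Fintype.card F = q ^ 2)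
    (hiso : ∀ u v, hermForm n F q (b u) (b v) = hermForm n F q u v) (hII : NoPerp n F q b)
    (hu : ∀ (c : F) (v : Fin n → F), v ≠ 0 → hermForm n F q v v = 0 → b v = c • v → c = l)
    {R : Submodule F (Fin n → F)} (hR : ∀ v ∈ R, b v ∈ R) (h2 : finrank F R = 2)
    (hRE : ∀ v ∈ R, b v = l • v → v = 0) :
    ∃ T : F, finrank F (R ⊓ LinearMap.ker (tm b T) : Submodule F (Fin n → F)) = 1 := by
  obtain ⟨v, hvR, hv0, hv⟩ := exists_iso hF R (by omega)
  have hnot : ∀ c : F, b v ≠ c • v := by
    intro c hc
    have h3 := hu c v hv0 hv hc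
    rw [h3] at hc
    exact hv0 (hRE v hvR hc)
  have hγ : hermForm n F q v (b v) ≠ 0 := by
    intro h
    obtain ⟨c, hc⟩ := hII v hv h
    exact hnot c hc
  have hli : LinearIndependent F ![v, b v] := by
    rw [LinearIndependent.pair_iff' hv0]
    intro c hc
    exact hnot c hc.symm
  have hspan : Submodule.span F {v, b v} = R := by
    apply Submodule.eq_of_le_of_finrank_eq
    · rw [Submodule.span_le]
      rintro x (rfl | rfl)
      · exact hvR
      · exact hR _ hvR
    · rw [h2]
      have h3 := finrank_span_eq_card hli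
      rw [Fintype.card_fin] at h3
      have h4 : Set.range ![v, b v] = {v, b v} := by simp [Set.pair_comm]
      rw [h4] at h3
      exact h3
  obtain ⟨α, β, hαβ⟩ := Submodule.mem_span_pair.1 (by
    rw [hspan]; exact hR _ (hR _ hvR) : b (b v) ∈ Submodule.span F {v, b v})
  set γ := hermForm n F q v (b v) with hγd
  have hγ' : hermForm n F q (b v) v = γ ^ q := herm_swap hF v (b v)
  have hbv : hermForm n F q (b v) (b v) = 0 := by rw [hiso, hv]
  have e1 : (α * γ) ^ q = γ := by
    have h3 := hiso v (b v)
    rw [← hγd, ← hαβ, herm_add_right hF, herm_smul_right, herm_smul_right, hbv, hγ'] at h3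
    rw [mul_pow]; linear_combination h3
  have e1' : α * γ = γ ^ q := by
    have h3 := congrArg (fun z : F => z ^ q) e1
    simp only [pow_q_pow_q hF] at h3
    exact h3
  have e2 : (β * γ) ^ q + β * γ = 0 := by
    have h3 : hermForm n F q (b (b v)) (b (b v)) = 0 := by rw [hiso, hbv]
    rw [← hαβ] at h3
    simp only [herm_add_left, herm_add_right hF, herm_smul_left, herm_smul_right, hbv, hv, hγ',
      ← hγd] at h3
    have h4 : (β ^ q * γ ^ q) + (β ^ q * γ ^ q) ^ q = 0 := by
      rw [mul_pow, pow_q_pow_q hF, pow_q_pow_q hF]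
      have h5 : α ^ q * γ ^ q = γ := by rw [← mul_pow]; exact e1
      linear_combination h3 - β ^ q * e1' - β * h5
    rw [mul_pow, pow_q_pow_q hF, pow_q_pow_q hF] at h4
    rw [mul_pow]; exact h4
  obtain ⟨ε, hε0, hε⟩ := exists_trace_zero_ne hF
  have hεq : ε ^ q = -ε := by linear_combination hε
  obtain ⟨S, hS⟩ := exists_root hF (b := β * γ / ε) (c := α * γ ^ 2 / ε ^ 2)
    (by
      rw [div_pow, hεq, eq_div_iff hε0, div_mul_eq_mul_div, div_eq_iff (neg_ne_zero.2 hε0)]
      linear_combination ε * e2)
    (by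
      have h3 : α * γ ^ 2 = γ ^ q * γ := by rw [← e1']; ring
      rw [h3, div_pow, mul_pow, pow_q_pow_q hF, ← pow_mul, mul_comm 2 q, pow_mul, hεq, neg_sq, mul_comm])
  set T := ε / γ * S with hT
  have hTT : T ^ 2 = β * T + α := by
    rw [hT, mul_pow, hS]
    field_simp
  have hdef : b v - (β - T) • v ∈ R := R.sub_mem (hR _ hvR) (R.smul_mem _ hvR)
  have heig : b (b v - (β - T) • v) = T • (b v - (β - T) • v) := by
    rw [map_sub, map_smul, ← hαβ, smul_sub, smul_smul]
    have : T * (β - T) = -α := by linear_combination -hTT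
    rw [this]; module
  have hne : b v - (β - T) • v ≠ 0 := fun h => hnot _ (sub_eq_zero.1 h)
  refine ⟨T, ?_⟩
  have hpos : 0 < finrank F (R ⊓ LinearMap.ker (tm b T) : Submodule F (Fin n → F)) := by
    rw [Module.finrank_pos_iff_exists_ne_zero]
    exact ⟨⟨_, hdef, mem_ker_tm.2 heig⟩, fun h => hne (congrArg Subtype.val h)⟩
  have hlt : finrank F (R ⊓ LinearMap.ker (tm b T) : Submodule F (Fin n → F)) < finrank F R := by
    apply Submodule.finrank_lt_finrank_of_lt
    refine lt_of_le_of_ne inf_le_left ?_
    intro h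
    have h3 : v ∈ R ⊓ LinearMap.ker (tm b T) := by rw [h]; exact hvR
    exact hnot T (mem_ker_tm.1 h3.2)
  omega

omit [Fintype F] in
/-- an invariant line -/
theorem point_of_finrank {W : Submodule F (Fin n → F)} (hW : finrank F W = 1)
    {P : ((Fin n → F) ≃ₗ[F] (Fin n → F)) → Prop} (hinv : ∀ x, P x → ∀ v ∈ W, x v ∈ W) :
    ∃ w : Fin n → F, w ≠ 0 ∧ ∀ x, P x → ∃ c : F, x w = c • w := by
  obtain ⟨w, hw0, hw⟩ := finrank_eq_one_iff'.1 hW
  refine ⟨w, fun h => hw0 (Subtype.ext h), fun x hx => ?_⟩
  obtain ⟨c, hc⟩ := hw ⟨x w, hinv x hx w w.2⟩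
  exact ⟨c, (congrArg Subtype.val hc).symm⟩

/-- **The centralizer fixes a point.** -/
theorem np_point (hF : Fintype.card F = q ^ 2) (hn : 4 ≤ n)
    (hiso : ∀ u v, hermForm n F q (b u) (b v) = hermForm n F q u v) (hII : NoPerp n F q b)
    (hsc : ¬ Scalar b) :
    ∃ w : Fin n → F, w ≠ 0 ∧ ∀ x : (Fin n → F) ≃ₗ[F] (Fin n → F),
      ((∀ u v, hermForm n F q (x u) (x v) = hermForm n F q u v) ∧ SComm x b) → ∃ c : F, x w = c • w := by
  obtain ⟨l, hl, hu, hX⟩ := np_eig hF hn hiso hII
  set E := LinearMap.ker (tm b l) with hE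
  set R := LinearMap.range (tm b l) with hR
  have hker : E = perp hF R := ker_eq_perp hF hiso hl
  have hrn : finrank F R + finrank F E = n := by
    have := LinearMap.finrank_range_add_finrank_ker (tm b l)
    rwa [Module.finrank_fin_fun] at this
  -- centralizing elements commute exactly
  have hcomm : ∀ x : (Fin n → F) ≃ₗ[F] (Fin n → F),
      ((∀ u v, hermForm n F q (x u) (x v) = hermForm n F q u v) ∧ SComm x b) →
      ∀ v, b (x v) = x (b v) := by
    rintro x ⟨hx, c, hc⟩ v
    obtain ⟨e, -, he0, he, heb⟩ := hX ⊤ (by rw [finrank_top, Module.finrank_fin_fun]; exact hn)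
    have h1 : b (x e) = (c * l) • x e := by rw [hc, heb, map_smul, smul_smul]
    have h2 := hu _ (x e) (map_ne x he0) (by rw [hx, he]) h1
    have hl0 : l ≠ 0 := fun h => by rw [h, zero_mul] at hl; exact zero_ne_one hl
    have h3 : c = 1 := mul_right_cancel₀ hl0 (by rw [h2, one_mul])
    rw [hc, h3, one_smul]
  have hcommt : ∀ x : (Fin n → F) ≃ₗ[F] (Fin n → F),
      ((∀ u v, hermForm n F q (x u) (x v) = hermForm n F q u v) ∧ SComm x b) →
      ∀ (T : F) (v : Fin n → F), tm b T (x v) = x (tm b T v) := by
    intro x hx T v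
    rw [tm_apply, tm_apply, hcomm x hx, map_sub, map_smul]
  have hEinv : ∀ x : (Fin n → F) ≃ₗ[F] (Fin n → F),
      ((∀ u v, hermForm n F q (x u) (x v) = hermForm n F q u v) ∧ SComm x b) →
      ∀ (T : F), ∀ v ∈ LinearMap.ker (tm b T), x v ∈ LinearMap.ker (tm b T) := by
    intro x hx T v hv
    rw [LinearMap.mem_ker] at hv ⊢
    rw [hcommt x hx, hv, map_zero]
  have hRinv : ∀ x : (Fin n → F) ≃ₗ[F] (Fin n → F),
      ((∀ u v, hermForm n F q (x u) (x v) = hermForm n F q u v) ∧ SComm x b) →
      ∀ v ∈ R, x v ∈ R := by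
    rintro x hx _ ⟨v, rfl⟩
    exact ⟨x v, hcommt x hx l v⟩
  -- dimensions
  have hr3 : finrank F R ≤ 3 := by
    by_contra hcon
    push Not at hcon
    obtain ⟨D, hD⟩ := Submodule.exists_isCompl E
    have h3 := Submodule.finrank_add_eq_of_isCompl hD
    rw [Module.finrank_fin_fun] at h3
    obtain ⟨v, hvD, hv0, -, hv⟩ := hX D (by omega)
    exact hv0 (Submodule.disjoint_def.1 hD.disjoint v (mem_ker_tm.2 hv) hvD)
  have hr0 : finrank F R ≠ 0 := by
    intro h
    have h1 : R = ⊥ := Submodule.finrank_eq_zero.1 h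
    apply hsc
    refine ⟨l, fun v => ?_⟩
    have h2 : tm b l v ∈ R := ⟨v, rfl⟩
    rw [h1, Submodule.mem_bot, tm_apply, sub_eq_zero] at h2
    exact h2
  have hmap : finrank F (R.map (tm b l)) + finrank F (R ⊓ E : Submodule F (Fin n → F)) =
      finrank F R := by
    have h1 := LinearMap.finrank_range_add_finrank_ker ((tm b l).domRestrict R)
    have h2 : LinearMap.range ((tm b l).domRestrict R) = R.map (tm b l) := by
      rw [LinearMap.range_domRestrict]
    have h3 : LinearMap.ker ((tm b l).domRestrict R) = E.comap R.subtype := by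
      ext x
      rw [LinearMap.mem_ker, Submodule.mem_comap]
      rfl
    have h4 : finrank F (E.comap R.subtype) = finrank F (R ⊓ E : Submodule F (Fin n → F)) := by
      rw [← Submodule.map_comap_subtype, Submodule.finrank_map_subtype_eq]
    rw [h2, h3, h4] at h1
    exact h1
  by_cases hρ1 : finrank F (R ⊓ E : Submodule F (Fin n → F)) = 1
  · exact point_of_finrank hρ1 (fun x hx v hv => ⟨hRinv x hx v hv.1, hEinv x hx l v hv.2⟩)
  by_cases hm1 : finrank F (R.map (tm b l)) = 1
  · refine point_of_finrank hm1 ?_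
    rintro x hx _ ⟨v, hv, rfl⟩
    exact ⟨x v, hRinv x hx v hv, hcommt x hx l v⟩
  have hρr : finrank F (R ⊓ E : Submodule F (Fin n → F)) ≠ finrank F R ∨ finrank F R = 1 := by
    by_contra hcon
    push Not at hcon
    obtain ⟨h1, h2⟩ := hcon
    have h3 : R ⊓ E = R := Submodule.eq_of_le_of_finrank_eq inf_le_left h1
    exact np_ti hF hiso hII hl hu (inf_eq_left.1 h3) (by change 2 ≤ finrank F R; omega)
  by_cases hr : finrank F R = 3
  · exfalso
    -- every vector of E is isotropic
    have hEi : ∀ e ∈ E, hermForm n F q e e = 0 := by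
      intro e he
      by_cases he0 : e = 0
      · rw [he0, herm_zero_left]
      obtain ⟨D, hD⟩ := Submodule.exists_isCompl E
      have h3 := Submodule.finrank_add_eq_of_isCompl hD
      rw [Module.finrank_fin_fun] at h3
      have hdis : Disjoint D (Submodule.span F {e}) := by
        rw [Submodule.disjoint_def]
        intro x hx hxe
        obtain ⟨c, rfl⟩ := Submodule.mem_span_singleton.1 hxe
        exact Submodule.disjoint_def.1 hD.disjoint _ (E.smul_mem c he) hx
      have h4 : finrank F (D ⊔ Submodule.span F {e} : Submodule F (Fin n → F)) = 4 := by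
        have h5 := Submodule.finrank_sup_add_finrank_inf_eq D (Submodule.span F {e})
        rw [hdis.eq_bot, finrank_bot, finrank_span_singleton he0] at h5
        omega
      obtain ⟨v, hvX, hv0, hvv, hv⟩ := hX _ (by rw [h4])
      obtain ⟨d, hd, y, hy, rfl⟩ := Submodule.mem_sup.1 hvX
      obtain ⟨c, rfl⟩ := Submodule.mem_span_singleton.1 hy
      have h6 : d ∈ E := by
        have : d = (d + c • e) - c • e := by module
        rw [this]
        exact E.sub_mem (mem_ker_tm.2 hv) (E.smul_mem c he)
      have h7 : d = 0 := Submodule.disjoint_def.1 hD.disjoint _ h6 hd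
      rw [h7, zero_add] at hv0 hvv
      have hc0 : c ≠ 0 := fun h => hv0 (by rw [h, zero_smul])
      rw [herm_smul_left, herm_smul_right, mul_eq_zero, mul_eq_zero] at hvv
      rcases hvv with h | h | h
      · exact absurd h hc0
      · exact absurd h (pow_ne_zero _ hc0)
      · exact h
    have hEt : ∀ u ∈ E, ∀ v ∈ E, hermForm n F q u v = 0 := by
      intro u hu v hv
      apply eq_zero_of_forall_trace hF
      intro c
      have h1 := hEi (c • u + v) (E.add_mem (E.smul_mem c hu) hv)
      rw [herm_add_left, herm_add_right hF, herm_add_right hF, herm_smul_left, herm_smul_right,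
        herm_smul_left, herm_smul_right, hEi u hu, hEi v hv, herm_swap hF u v] at h1
      rw [mul_pow]
      linear_combination h1
    have h5 : E ≤ R := by
      have h6 : R ≤ perp hF E := by
        intro x hx e he
        rw [hker] at he
        exact herm_eq_zero_swap hF (he x hx)
      have h7 : R = perp hF E := by
        apply Submodule.eq_of_le_of_finrank_eq h6
        have := finrank_perp hF E
        omega
      rw [h7]
      intro u hu v hv
      exact hEt u hu v hv
    have h6 : R ⊓ E = E := inf_eq_right.2 h5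
    rw [h6] at hρ1 hmap hρr
    have h7 : finrank F E = n - 3 := by omega
    rcases hρr with h | h
    · omega
    · omega
  · have hr2 : finrank F R = 2 ∧ finrank F (R ⊓ E : Submodule F (Fin n → F)) = 0 := by
      rcases hρr with h | h
      · constructor <;> omega
      · exfalso; omega
    obtain ⟨T, hT⟩ := np_plane hF hiso hII hu (R := R)
      (by
        rintro _ ⟨v, rfl⟩
        refine ⟨b v, ?_⟩
        rw [tm_apply, tm_apply, map_sub, map_smul]) hr2.1
      (by
        intro v hv hvl
        have h1 : v ∈ R ⊓ E := ⟨hv, mem_ker_tm.2 hvl⟩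
        rw [Submodule.finrank_eq_zero.1 hr2.2, Submodule.mem_bot] at h1
        exact h1)
    exact point_of_finrank hT (fun x hx v hv => ⟨hRinv x hx v hv.1, hEinv x hx T v hv.2⟩)

end

end Cfsg.Agent.H105.SzU
end

private theorem dce_98789b05291c : _root_.True := by
  try have : _root_.True := by simp only [_root_.Cfsg.Agent.H105.SzU.fam.eq_1]
  try have : _root_.True := by simp only [_root_.Cfsg.Agent.H105.SzU.fam.eq_2]
  try have : _root_.True := by simp only [_root_.Cfsg.Agent.H105.SzU.fam.eq_3]
  exact _root_.True.intro
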